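import Cfsg.Agent.GAL.Two.Red_m3
import Cfsg.Agent.ODD.C2.OmD_m3
import Cfsg.Agent.DL.Tw.Suz
import Cfsg.Agent.ODD.C2.Desc
import Cfsg.Agent.DL.PP.Cor
import Mathlib.GroupTheory.FiniteAbelian.Duality
import Cfsg.Agent.FastGrp
import Cfsg.Agent.Prune
set_option linter.all false

section
prune_inst 0x7ffcf9f92fa88fffffff7e3ffed0dffff4a8efffefdff94bffe471bf2fdf23004dc56b850de010ff0f77609410b87813eb7eeeffe863dc7ffffd5ff41ffbee4fe5f6b50851948c340fbc4ff783f07f8a6f3fffffffffffffffffffffffffffbefffffbfeffff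

-- part: GAL/C2/Defs
section
prune_inst 0x4010000
set_option linter.all false
open scoped Cfsg.Agent.FastGrp

/-!
# S4617 / S4618, characteristic 2: the interface (helper89, GAL)

`D` is a datum in characteristic 2, `ι : X →* Y` embeds a finite group as a normal subgroup of odd index of `G^F`
and `pr : X →* S` is the quotient map modulo the centre.

* `Sym D α A π ε` : the automorphism `α` commutes with `F` and maps the simple root group `i` to `π i` by `u ↦ u ^ 2 ^ ε i`;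
* `Ind ι pr α a` : `α` induces the automorphism `a` of `S`;
* `Md D ι pr` : the model; `Sep`, `Det`, `Br` : the two ways to treat the centre; `Sit` : the whole situation;
* `GenBox` : the generic theorem; `Box0`, `Box1`, `Box2`, `Box3` : the forms used by the families.
-/

set_option autoImplicit false
set_option maxHeartbeats 400000
set_option linter.unusedSectionVars false

namespace Cfsg.Agent.GAL.C2

open Cfsg Cfsg.Agent.DL Cfsg.Agent.DL.PP Cfsg.Agent.ODD.C2 Cfsg.Agent.Tits.Roots Cfsg.Agent.GAL.Two Matrix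

section comb

variable {I k : Type} [Field k]

/-- fixed points in the coordinates of the torus -/
def FixT (π : Equiv.Perm I) (ε : I → ℕ) (x : I → k) : Prop := ∀ i, x (π i) = x i ^ 2 ^ ε i

/-- `r` translates between the action on the torus and on the labels -/
def Cr (r π : Equiv.Perm I) (ε : I → ℕ) : Prop := ∀ i, π (r (π i)) = r i ∧ ε (r (π i)) = ε i

variable (k) in
/-- a central element is determined by its coordinates in `P`, and by those outside `P` -/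
structure Sep [Fintype I] (A : I → I → ℤ) (P : I → Prop) : Prop where
  l0 : ∀ x : I → kˣ, (∀ j, chr (A j) x = 1) → (∀ i, P i → x i = 1) → x = 1
  l1 : ∀ x : I → kˣ, (∀ j, chr (A j) x = 1) → (∀ i, ¬ P i → x i = 1) → x = 1
  t0 : ∀ x : I → kˣ, (∀ j, chr (fun i => A i j) x = 1) → (∀ i, P i → x i = 1) → x = 1
  t1 : ∀ x : I → kˣ, (∀ j, chr (fun i => A i j) x = 1) → (∀ i, ¬ P i → x i = 1) → x = 1

theorem eq_one_of_pow [CharP k 2] {a : kˣ} {m : ℕ} (h : a ^ 2 ^ m = 1) : a = 1 :=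
  Units.ext ((iterateFrobenius k 2 m).injective (by
    rw [iterateFrobenius_def, ← Units.val_pow_eq_pow_val, h, Units.val_one, map_one]))

/-- trivial centre -/
theorem sep_of_inv [CharP k 2] [Fintype I] [DecidableEq I] {A : I → I → ℤ} {m : ℕ} (B : Matrix I I ℤ)
    (h : B * of A = (2 ^ m : ℤ) • (1 : Matrix I I ℤ)) (P : I → Prop) : Sep k A P := by
  have h0 : B.det ≠ 0 := fun e => by
    have := congrArg det h
    rw [det_mul, e, zero_mul, det_smul, det_one, mul_one] at this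
    exact pow_ne_zero _ (pow_ne_zero _ two_ne_zero) this.symm
  have h1 : of A * B = (2 ^ m : ℤ) • (1 : Matrix I I ℤ) := by
    have h2 : B.det • (of A * B) = B.det • ((2 ^ m : ℤ) • (1 : Matrix I I ℤ)) := by
      rw [← Matrix.smul_mul, ← Matrix.one_mul (of A), ← Matrix.smul_mul, ← adjugate_mul, Matrix.mul_assoc B.adjugate,
        h, Matrix.mul_assoc, Matrix.smul_mul, Matrix.one_mul, Matrix.mul_smul, adjugate_mul, smul_comm]
    exact smul_right_injective _ h0 h2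
  have key : ∀ (C E : Matrix I I ℤ), C * E = (2 ^ m : ℤ) • (1 : Matrix I I ℤ) → ∀ x : I → kˣ,
      (∀ j, chr (E j) x = 1) → x = 1 := fun C E e x hx => funext fun i => eq_one_of_pow (m := m) (by
    have h2 : mon (C * E) x = 1 := by rw [mon_mul, show mon E x = 1 from funext hx, map_one]
    rw [e, mon_zsmul, mon_one] at h2
    exact_mod_cast congrFun h2 i)
  have h2 : Bᵀ * (of A)ᵀ = (2 ^ m : ℤ) • (1 : Matrix I I ℤ) := by
    rw [← transpose_mul, h1, transpose_smul, transpose_one]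
  exact ⟨fun x hx _ => key _ _ h x hx, fun x hx _ => key _ _ h x hx, fun x hx _ => key _ _ h2 x hx,
    fun x hx _ => key _ _ h2 x hx⟩

end comb

section ind

variable {X S Y : Type} [Group X] [Group S] [Group Y]

/-- `α` induces `a` -/
def Ind (ι : X →* Y) (pr : X →* S) (α : MulAut Y) (a : MulAut S) : Prop :=
  ∀ s, ∃ s', α (ι s) = ι s' ∧ a (pr s) = pr s'

end ind

variable {k : Type} [Field k] [CharP k 2] {Y : Type} [Group Y] {N : Type} [Fintype N]
  [DecidableEq N] {ρ : Y →* GL N k} {F : MulAut Y} {G : Subgroup Y} [IsAlgClosed k] (D : Datum 2 ρ F G)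

/-- an automorphism which permutes the simple root groups -/
structure Sym (α : MulAut Y) (A : Matrix D.R D.R ℤ) (π : Equiv.Perm D.I) (ε : D.I → ℕ) : Prop where
  au : Au D α A
  kap : ∀ i, ∃ c : k, c ≠ 0 ∧ ∀ u ∈ D.U, kap D (π i) (α u) = c * kap D i u ^ 2 ^ ε i
  wt : ∀ i, D.wt (sr (π i)) ᵥ* A = (2 ^ ε i : ℤ) • D.wt (sr i)
  cw : ∀ i, A *ᵥ D.cw i = (2 ^ ε i : ℤ) • D.cw (π i)

/-- the subgroup generated by the root groups -/
abbrev Gd : Subgroup Y := D.S {a | D.Rt a}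

variable {X S : Type} [Group X] [Group S] (ι : X →* Y) (pr : X →* S)

/-- the model of the simple group `S` -/
structure Md : Prop where
  good : Good D
  emb : ∃ d, Odd d ∧ Emb F G D.T ι d
  surj : Function.Surjective pr
  ker : ∀ s, pr s = 1 ↔ s ∈ Subgroup.center X
  sc : ∀ y ∈ GF F G, y ∈ Gd D → y ∈ ι.range

/-- a determinant (needed for `GL₃`, `GU₃` only) -/
structure Det : Prop where
  symm : ∀ i j, D.A i j = D.A j i
  perf : commutator X = ⊤
  ex : ∃ (δ : Y →* kˣ) (ν v : D.R → ℤ) (ω : D.I → D.R → ℤ) (m : ℤ), (∀ y, δ (F y) = δ y ^ m) ∧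
    (∀ c, δ (D.τ c) = chr ν c) ∧ (∀ y ∈ GF F G, y ∈ ι.range ↔ δ y = 1) ∧ ν ⬝ᵥ v = 1 ∧
    (∀ i j, ω i ⬝ᵥ D.cw j = if i = j then 1 else 0) ∧ ∀ a b, ∑ i, ω i a * D.cw i b + ν a * v b = if a = b then 1 else 0

/-- the whole situation -/
structure Sit (r : Equiv.Perm D.I) (P : D.I → Prop) : Prop where
  md : Md D ι pr
  br : Sep k D.A P ∨ (r = 1 ∧ Det D ι)
  cr : Cr r D.σ fun i => D.ex (sr i)
  st : ∀ i, P (D.σ i) ↔ P i

/-- the automorphisms of `S` which come from the algebraic group -/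
def Al (r : Equiv.Perm D.I) (P : D.I → Prop) (a : MulAut S) : Prop :=
  ∃ α A π ε, Sym D α A π ε ∧ Ind ι pr α a ∧ Cr r π ε ∧ ∀ i, P (π i) ↔ P i

variable {D ι pr} {α β : MulAut Y} {A B : Matrix D.R D.R ℤ} {π π' : Equiv.Perm D.I} {ε ε' : D.I → ℕ}

theorem Sym.self (h : D.QS) : Sym D F D.Mx D.σ fun i => D.ex (sr i) where
  au := ⟨fun _ => rfl, D.F_mem_G_iff, D.F_mem_T_iff, h.F_mem_U, D.F_τ⟩
  kap i := ⟨gam D i, (gam D i).ne_zero, fun _ hu => kap_F h i hu⟩
  wt i := by rw [← h.g_sr]; exact D.wt_g (isRoot_sr _ _ i)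
  cw i := by rw [← D.cor_sr, ← D.cor_sr, ← h.g_sr]; exact D.Mx_cor (isRoot_sr _ _ i)

/-- a second Steinberg endomorphism for the same group; apply it to the fields of a datum `D'` which differs from `D`
only in `F` -/
theorem Sym.of_withF (amb : Amb 2 ρ α) (g : (D.I → ℤ) → (D.I → ℤ)) (ex : (D.I → ℤ) → ℕ)
    (g_root : ∀ a, D.Rt a → D.Rt (g a))
    (F_x : ∀ a, D.Rt a → ∃ c : k, c ≠ 0 ∧ ∀ u, α (D.x a u) = D.x (g a) (c * u ^ 2 ^ ex a))
    (F_τ : ∀ c, α (D.τ c) = D.τ (mon A c)) (hc : ∀ y, α (F y) = F (α y)) (hπ : ∀ i, g (sr i) = sr (π i))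
    (hε : ∀ i, ex (sr i) = ε i) : Sym D α A π ε := by
  have h1 : (D.withF amb g ex g_root F_x A F_τ).QSp π := hπ
  have h2 := Sym.self h1.qs
  have h3 : (D.withF amb g ex g_root F_x A F_τ).σ = π := Equiv.ext h1.σ_eq
  rw [h3] at h2
  rw [← funext hε]
  exact ⟨⟨hc, h2.au.memG, h2.au.memT, h2.au.memU, F_τ⟩, h2.kap, h2.wt, h2.cw⟩

theorem Sym.one : Sym D 1 1 1 fun _ => 0 where
  au := ⟨fun _ => rfl, fun _ => Iff.rfl, fun _ => Iff.rfl, fun _ => Iff.rfl, fun c => by rw [mon_one]; rfl⟩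
  kap i := ⟨1, one_ne_zero, fun u _ => by simp⟩
  wt i := by simp
  cw i := by simp

theorem Sym.mul (h : Sym D α A π ε) (h' : Sym D β B π' ε') :
    Sym D (α * β) (A * B) (π * π') fun i => ε' i + ε (π' i) where
  au := ⟨fun y => by rw [MulAut.mul_apply, h'.au.comm, h.au.comm, MulAut.mul_apply],
    fun y => (h.au.memG _).trans (h'.au.memG y), fun y => (h.au.memT _).trans (h'.au.memT y),
    fun y => (h.au.memU _).trans (h'.au.memU y), fun c => by rw [MulAut.mul_apply, h'.au.tau, h.au.tau, mon_mul]⟩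
  kap i := by
    obtain ⟨c, h1, h2⟩ := h.kap (π' i)
    obtain ⟨c', h1', h2'⟩ := h'.kap i
    exact ⟨c * c' ^ 2 ^ ε (π' i), mul_ne_zero h1 (pow_ne_zero _ h1'), fun u hu => by
      rw [MulAut.mul_apply, Equiv.Perm.mul_apply, h2 _ ((h'.au.memU u).2 hu), h2' u hu, mul_pow, ← pow_mul, pow_add,
        mul_assoc]⟩
  wt i := by rw [← vecMul_vecMul, Equiv.Perm.mul_apply, h.wt, smul_vecMul, h'.wt, smul_smul, pow_add, mul_comm]
  cw i := by rw [← mulVec_mulVec, Equiv.Perm.mul_apply, h'.cw, mulVec_smul, h.cw, smul_smul, pow_add]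

theorem sc_of_surj (h : ∀ y ∈ GF F G, y ∈ ι.range) : ∀ y ∈ GF F G, y ∈ Gd D → y ∈ ι.range := fun y hy _ => h y hy

theorem Sym.mem_GF (h : Sym D α A π ε) {y : Y} (hy : y ∈ GF F G) : α y ∈ GF F G :=
  ⟨(h.au.memG y).2 hy.1, (h.au.comm y).symm.trans (congrArg α hy.2)⟩

/-! ### the statements -/

/-- **the generic theorem** -/
def GenBox : Prop :=
  ∀ {k : Type} [Field k] [CharP k 2] {Y : Type} [Group Y] {N : Type} [Fintype N] [DecidableEq N] {ρ : Y →* GL N k}
    {F : MulAut Y} {G : Subgroup Y} [IsAlgClosed k] {D : Datum 2 ρ F G} {X S : Type} [Group X] [Group S] [Finite S]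
    {ι : X →* Y} {pr : X →* S} {r : Equiv.Perm D.I} {P : D.I → Prop}, Subgroup.center S = ⊥ → Sit D ι pr r P →
    ∀ Φ : Subgroup (MulAut S), (∀ a ∈ Φ, Al D ι pr r P a) → Odd (outOf Φ).index → Box S

/-- `Out S` has odd order -/
def Box0 : Prop :=
  ∀ {k : Type} [Field k] [CharP k 2] {Y : Type} [Group Y] {N : Type} [Fintype N] [DecidableEq N] {ρ : Y →* GL N k}
    {F : MulAut Y} {G : Subgroup Y} [IsAlgClosed k] {D : Datum 2 ρ F G} {X S : Type} [Group X] [Group S] [Finite S]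
    {ι : X →* Y} {pr : X →* S} {r : Equiv.Perm D.I} {P : D.I → Prop}, Subgroup.center S = ⊥ → Sit D ι pr r P →
    (∃ m, Odd m ∧ Nat.card (MulAut S) = Nat.card S * m) → Box S

/-- field automorphisms -/
def Box1 : Prop :=
  ∀ {k : Type} [Field k] [CharP k 2] {Y : Type} [Group Y] {N : Type} [Fintype N] [DecidableEq N] {ρ : Y →* GL N k}
    {F : MulAut Y} {G : Subgroup Y} [IsAlgClosed k] {D : Datum 2 ρ F G} {X S : Type} [Group X] [Group S] [Finite S]
    {ι : X →* Y} {pr : X →* S} {r : Equiv.Perm D.I} {P : D.I → Prop}, Subgroup.center S = ⊥ → Sit D ι pr r P →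
    ∀ {φ : MulAut Y} {A : Matrix D.R D.R ℤ}, Sym D φ A 1 (fun _ => 1) → (∀ s, φ (ι s) ∈ ι.range) →
    ∀ {e l : ℕ} (j : D.I), (∀ i, D.ex (sr i) = e) → Function.minimalPeriod D.σ j = l →
    (∀ s, (φ ^ (l * e)) (ι s) = ι s) → (∃ m, Odd m ∧ Nat.card (MulAut S) = Nat.card S * (l * e) * m) → Box S

/-- field and graph automorphisms; `ψ` is the product of `φ` with a graph automorphism of order two -/
def Box2 : Prop :=
  ∀ {k : Type} [Field k] [CharP k 2] {Y : Type} [Group Y] {N : Type} [Fintype N] [DecidableEq N] {ρ : Y →* GL N k}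
    {F : MulAut Y} {G : Subgroup Y} [IsAlgClosed k] {D : Datum 2 ρ F G} {X S : Type} [Group X] [Group S] [Finite S]
    {ι : X →* Y} {pr : X →* S} {P : D.I → Prop}, Subgroup.center S = ⊥ → Sit D ι pr 1 P →
    ∀ {φ ψ : MulAut Y} {A B : Matrix D.R D.R ℤ} {π : Equiv.Perm D.I}, Sym D φ A 1 (fun _ => 1) →
    Sym D ψ B π (fun _ => 1) → (∀ s, φ (ι s) ∈ ι.range) → (∀ s, ψ (ι s) ∈ ι.range) → Commute φ ψ → ψ ^ 2 = φ ^ 2 →
    π * π = 1 → π ≠ 1 → (∀ i, P (π i) ↔ P i) → ∀ {e : ℕ}, D.σ = 1 → (∀ i, D.ex (sr i) = e) →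
    (∀ s, (φ ^ e) (ι s) = ι s) → (∃ m, Odd m ∧ Nat.card (MulAut S) = Nat.card S * (2 * e) * m) → Box S

/-- the special isogeny (`B₂`, `F₄`) -/
def Box3 : Prop :=
  ∀ {k : Type} [Field k] [CharP k 2] {Y : Type} [Group Y] {N : Type} [Fintype N] [DecidableEq N] {ρ : Y →* GL N k}
    {F : MulAut Y} {G : Subgroup Y} [IsAlgClosed k] {D : Datum 2 ρ F G} {X S : Type} [Group X] [Group S] [Finite S]
    {ι : X →* Y} {pr : X →* S} {π : Equiv.Perm D.I} {P : D.I → Prop}, Subgroup.center S = ⊥ → Sit D ι pr π P →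
    ∀ {ψ : MulAut Y} {B : Matrix D.R D.R ℤ} {ε : D.I → ℕ}, Sym D ψ B π ε → (∀ s, ψ (ι s) ∈ ι.range) →
    π * π = 1 → π ≠ 1 → (∀ i, ε i + ε (π i) = 1) → (∀ i, P (π i) ↔ P i) → ∀ {e : ℕ}, D.σ = 1 →
    (∀ i, D.ex (sr i) = e) → (∀ s, (ψ ^ (2 * e)) (ι s) = ι s) →
    (∃ m, Odd m ∧ Nat.card (MulAut S) = Nat.card S * (2 * e) * m) → Box S

/-- the four forms -/
structure Boxes : Prop where
  b0 : Box0
  b1 : Box1
  b2 : Box2
  b3 : Box3

end Cfsg.Agent.GAL.C2
end

-- part: GAL/C2/Cl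
section
set_option linter.all false
open scoped Cfsg.Agent.FastGrp

/-!
# S4617 / S4618, characteristic 2: Clifford theory (helper89, GAL)

`ι : S →* K` is injective.

* `exists_up` : an invariant odd character of `K` over an invariant odd character of `S` (odd index);
* `exists_cj`, `exists_tw` : two constituents are conjugate, two characters over `θ` differ by a linear character;
* `orbit` : if the mean over the regular elements of `U` has absolute value one, the constituents differ on `U`.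
-/

set_option autoImplicit false
set_option maxHeartbeats 400000

namespace Cfsg.Agent.GAL.C2

open Cfsg Cfsg.Agent.H601.K4 Cfsg.Agent.ODD.Red Cfsg.Agent.Characters Cfsg.Agent.Characters.Core
open Cfsg.Agent.H40.OC
open scoped ComplexConjugate

section

variable {K S : Type} [Group K] [Group S] [Fintype K] [Fintype S] {ι : S →* K} (hι : Function.Injective ι)

/-- the transport to the range -/
noncomputable def tr (θ : S → ℂ) : ι.range → ℂ := fun n => θ ((MonoidHom.ofInjective hι).symm n)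

omit [Fintype K] [Fintype S] in
theorem tr_apply (θ : S → ℂ) (s : S) (h : ι s ∈ ι.range) : tr hι θ ⟨ι s, h⟩ = θ s :=
  congrArg θ ((MonoidHom.ofInjective hι).symm_apply_apply s)

omit [Fintype K] [Fintype S] in
theorem tr_irr {θ : S → ℂ} (h : IsIrrCharacter S θ) : IsIrrCharacter ι.range (tr hι θ) :=
  isIrr_comp' (MonoidHom.ofInjective hι).symm.toMonoidHom (MonoidHom.ofInjective hι).symm.surjective h

omit [Fintype K] in
theorem inner_tr [Fintype ι.range] (χ : K → ℂ) (θ : S → ℂ) :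
    classInner (fun n : ι.range => χ n) (tr hι θ) = classInner (fun s => χ (ι s)) θ := by
  rw [← Clifford.classInner_comp_mulEquiv (MonoidHom.ofInjective hι)]
  congr 1
  exact funext fun s => tr_apply hι θ s _

include hι

theorem exists_up (ho : Odd ι.range.index) {θ : S → ℂ} (hθ : OddIrr θ) {Γ : Type} [Group Γ] (hΓ : IsPGroup 2 Γ)
    (φ : Γ →* MulAut K) (h : ∀ γ s, ∃ s', φ γ (ι s) = ι s' ∧ θ s' = θ s) :
    ∃ χ, OddIrr χ ∧ classInner (fun s => χ (ι s)) θ ≠ 0 ∧ ∀ γ k, χ (φ γ k) = χ k := by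
  have := Fintype.ofFinite ι.range
  have h0 := tr_irr hι hθ.1
  have h1 := Brauer.isCharacter_indFun ι.range (isIrr_isCharacter h0)
  have h2 : Odd (charDegree (indFun ι.range (tr hι θ))) := by
    rw [charDegree_of (n := ι.range.index * charDegree θ) (by
      rw [CharactersDeep.NormalInd.indFun_one, Nat.cast_mul, ← apply_one (isIrr_isCharacter hθ.1)]
      exact congrArg _ (congrArg θ (map_one _)))]
    exact ho.mul (odd_iff'.2 hθ.2)
  have h3 : ∀ γ y, extendByZero ι.range (tr hι θ) (φ γ y) = extendByZero ι.range (tr hι θ) y := by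
    intro γ y
    by_cases hy : y ∈ ι.range
    · obtain ⟨s, rfl⟩ := hy
      obtain ⟨s', h4, h5⟩ := h γ s
      rw [h4, extendByZero_of_mem ι.range _ ⟨s', rfl⟩, extendByZero_of_mem ι.range _ ⟨s, rfl⟩]
      exact (tr_apply hι θ s' _).trans (h5.trans (tr_apply hι θ s _).symm)
    · rw [extendByZero_of_notMem _ _ hy, extendByZero_of_notMem]
      rintro ⟨s, hs⟩
      obtain ⟨s', h4, -⟩ := h γ⁻¹ s
      rw [hs, map_inv, MulAut.inv_apply_self] at h4
      exact hy ⟨s', h4.symm⟩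
  obtain ⟨χ, h4, h5⟩ := exists_OC_inv h1 h2 hΓ φ fun γ k => by
    rw [indFun_apply, indFun_apply, ← Equiv.sum_comp (φ γ).toEquiv]
    refine congrArg _ (Finset.sum_congr rfl fun x _ => ?_)
    rw [← h3 γ (x⁻¹ * k * x), map_mul, map_mul, map_inv]
    rfl
  exact ⟨χ, ⟨h4.1, odd_iff'.1 h4.2.1⟩, inner_tr hι χ θ ▸ ODD.C2.inner_of_ind _ h4.1 h4.ne_zero, h5⟩

theorem exists_cj [ι.range.Normal] {χ : K → ℂ} (hχ : IsIrrCharacter K χ) {θ η : S → ℂ} (hθ : IsIrrCharacter S θ)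
    (hη : IsIrrCharacter S η) (h1 : classInner (fun s => χ (ι s)) θ ≠ 0) (h2 : classInner (fun s => χ (ι s)) η ≠ 0) :
    ∃ k : K, ∀ s s', ι s' = k * ι s * k⁻¹ → η s = θ s' := by
  have := Fintype.ofFinite ι.range
  obtain ⟨k, hk⟩ := Clifford.exists_conj_of_constituents ι.range hχ (tr_irr hι hθ) (tr_irr hι hη)
    (by rwa [inner_tr]) (by rwa [inner_tr])
  refine ⟨k, fun s s' e => ?_⟩
  rw [← tr_apply hι η s ⟨s, rfl⟩, hk, ← tr_apply hι θ s' ⟨s', rfl⟩]
  exact congrArg (tr hι θ) (Subtype.ext e.symm)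

theorem exists_tw [ι.range.Normal] (hab : ∀ a b : K, (a * b)⁻¹ * (b * a) ∈ ι.range) {χ ψ : K → ℂ}
    (hχ : IsIrrCharacter K χ) (hψ : IsIrrCharacter K ψ) {θ : S → ℂ} (hθ : IsIrrCharacter S θ)
    (h1 : classInner (fun s => χ (ι s)) θ ≠ 0) (h2 : classInner (fun s => ψ (ι s)) θ ≠ 0) :
    ∃ β : K →* ℂˣ, (∀ s, β (ι s) = 1) ∧ ∀ g, ψ g = β g * χ g := by
  classical
  let : CommGroup (K ⧸ ι.range) := { (inferInstance : Group (K ⧸ ι.range)) with
    mul_comm := fun a b => QuotientGroup.induction_on a fun a => QuotientGroup.induction_on b fun b =>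
      QuotientGroup.eq.2 (hab a b) }
  have : NeZero ((Monoid.exponent (K ⧸ ι.range) : ℕ) : ℂ) := ⟨Nat.cast_ne_zero.2 Monoid.exponent_ne_zero_of_finite⟩
  have : Finite ((K ⧸ ι.range) →* ℂˣ) :=
    Finite.of_equiv _ (CommGroup.monoidHom_mulEquiv_of_hasEnoughRootsOfUnity (K ⧸ ι.range) ℂ).some.symm.toEquiv
  have := Fintype.ofFinite ((K ⧸ ι.range) →* ℂˣ)
  have h3 := DL.PP.inner_ne_zero (isCharacter_comp' ι (isIrr_isCharacter hχ))
    (isCharacter_comp' ι (isIrr_isCharacter hψ)) hθ h1 h2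
  have h4 : ∀ g : K, ∑ β : (K ⧸ ι.range) →* ℂˣ, ((β g : ℂˣ) : ℂ) =
      if g ∈ ι.range then (Fintype.card ((K ⧸ ι.range) →* ℂˣ) : ℂ) else 0 := by
    intro g
    split_ifs with hg
    · simp [(QuotientGroup.eq_one_iff g).2 hg]
    · obtain ⟨β, hβ⟩ := CommGroup.exists_apply_ne_one_of_hasEnoughRootsOfUnity (K ⧸ ι.range) ℂ
        (a := (g : K ⧸ ι.range)) fun e => hg ((QuotientGroup.eq_one_iff g).1 e)
      refine sum_hom_units_eq_zero ((Units.coeHom ℂ).comp (MonoidHom.eval (g : K ⧸ ι.range))) fun e => hβ ?_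
      exact Units.ext (DFunLike.congr_fun e β)
  by_contra h5
  have h6 : ∀ β : (K ⧸ ι.range) →* ℂˣ, classInner (fun g : K => ((β g : ℂˣ) : ℂ) * χ g) ψ = 0 := fun β =>
    classInner_irr_ne (isIrr_lin_mul (β.comp (QuotientGroup.mk' _)) hχ) hψ fun e =>
      h5 ⟨β.comp (QuotientGroup.mk' _), fun s => by
        rw [MonoidHom.comp_apply, QuotientGroup.mk'_apply, (QuotientGroup.eq_one_iff (N := ι.range) (ι s)).2 ⟨s, rfl⟩,
          map_one],
        fun g => (congrFun e g).symm⟩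
  have h7 : ∑ β : (K ⧸ ι.range) →* ℂˣ, ∑ g : K, ((β g : ℂˣ) : ℂ) * χ g * conj (ψ g) = 0 :=
    Finset.sum_eq_zero fun β _ => (mul_eq_zero.1 (h6 β)).resolve_left (inv_ne_zero card_ne_zero_complex)
  rw [Finset.sum_comm] at h7
  simp only [mul_assoc, ← Finset.sum_mul, h4, ite_mul, zero_mul] at h7
  rw [← Finset.sum_filter, ← Finset.mul_sum, mul_eq_zero, Nat.cast_eq_zero] at h7
  refine h3 ?_
  rw [classInner_def, Finset.sum_bij (t := Finset.univ.filter (· ∈ ι.range)) (g := fun g => χ g * conj (ψ g))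
    (fun s _ => ι s) (fun s _ => by simp) (fun _ _ _ _ e => hι e) (fun g hg => by simpa using hg) fun _ _ => rfl,
    h7.resolve_left Fintype.card_ne_zero, mul_zero]

end

theorem sum_coset {T : Type} [Group T] [Fintype T] (L : Subgroup T) [Fintype (T ⧸ L)] (g : T → ℂ)
    (h : ∀ t, ∀ l ∈ L, g (t * l) = g t) : ∑ t, g t = Nat.card L * ∑ q : T ⧸ L, g q.out := by
  classical
  have := Fintype.ofFinite L
  have hb : Function.Bijective fun x : (T ⧸ L) × L => x.1.out * x.2 := by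
    refine ⟨fun x y e => ?_, fun t => ?_⟩
    · have e1 : x.1 = y.1 := by
        simpa using congrArg (fun t : T => (t : T ⧸ L)) e
      exact Prod.ext e1 (Subtype.ext (mul_left_cancel (a := x.1.out) (by simpa only [e1] using e)))
    · obtain ⟨l, hl⟩ := QuotientGroup.mk_out_eq_mul L t
      exact ⟨(t, l⁻¹), by simp [hl]⟩
  rw [← hb.sum_comp, Fintype.sum_prod_type, Finset.mul_sum]
  refine Finset.sum_congr rfl fun q _ => ?_
  rw [Nat.card_eq_fintype_card, ← nsmul_eq_mul, ← Finset.card_univ, ← Finset.sum_const]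
  exact Finset.sum_congr rfl fun l _ => h _ _ l.2

/-- **the constituents differ on `U`** -/
theorem orbit {H S I : Type} [Group H] [Group S] [Finite H] [Fintype S] [Fintype I] {U T : Subgroup H} [Fintype U]
    {D : I → Subgroup H} (hS : Sys U T D) {lam : I → (↥U →* ℂˣ)} (hl : Lam U D lam) (κ : H →* MulAut S)
    (j : U →* S) (hj : ∀ t ∈ T, ∀ u u' : U, (u' : H) = t * u * t⁻¹ → κ t (j u) = j u') {χ : H → ℂ}
    (hm : Complex.normSq (mr U D χ) = 1) {X : S → ℂ} (hX : IsCharacter S X) (hχ : ∀ u : U, χ u = X (j u))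
    {θ : S → ℂ} (hθ : IsIrrCharacter S θ) (hinv : ∀ t ∈ T, ∀ s, X (κ t s) = X s)
    (hcon : ∀ η, IsIrrCharacter S η → classInner X η ≠ 0 → ∃ t ∈ T, ∀ s, η s = θ (κ t s)) {t : H} (ht : t ∈ T)
    (h : ∀ u, θ (κ t (j u)) = θ (j u)) (s : S) : θ (κ t s) = θ s := by
  classical
  have := Fintype.ofFinite T
  have := @Fintype.ofFinite _ (finite_irr (G := S))
  let St : Subgroup T :=
    { carrier := {t | ∀ s, θ (κ t s) = θ s}
      one_mem' := fun s => by simp
      mul_mem' := fun {a b} ha hb s => by rw [Subgroup.coe_mul, map_mul, MulAut.mul_apply, ha, hb]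
      inv_mem' := fun {a} ha s => by rw [← ha, Subgroup.coe_inv, map_inv, MulAut.apply_inv_self] }
  have cj : ∀ (a : T) (u : U), ∃ u' : U, (u' : H) = a * u * (a : H)⁻¹ := fun a u => ⟨⟨_, hS.conj_U' a.2 u.2⟩, rfl⟩
  let KU : Subgroup T :=
    { carrier := {t | ∀ u, θ (κ t (j u)) = θ (j u)}
      one_mem' := fun s => by simp
      mul_mem' := fun {a b} ha hb u => by
        obtain ⟨u', hu⟩ := cj b u
        rw [Subgroup.coe_mul, map_mul, MulAut.mul_apply, hj _ b.2 u u' hu, ha, ← hj _ b.2 u u' hu, hb]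
      inv_mem' := fun {a} ha u => by
        obtain ⟨u', hu⟩ := cj a⁻¹ u
        rw [hj _ a⁻¹.2 u u' hu, ← ha, ← hj _ a⁻¹.2 u u' hu, Subgroup.coe_inv, map_inv, MulAut.apply_inv_self] }
  have hle : St ≤ KU := fun a ha u => ha _
  have := Fintype.ofFinite (T ⧸ St)
  have := Fintype.ofFinite (T ⧸ KU)
  have hirr : ∀ a : T, IsIrrCharacter S fun s => θ (κ (a⁻¹ : T) s) := fun a =>
    isIrr_comp' (κ (a⁻¹ : T)).toMonoidHom (κ _).surjective hθ
  obtain ⟨e, he⟩ := classInner_isNat hX (isIrr_isCharacter hθ)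
  have h1 : ∀ a : T, classInner X (fun s => θ (κ (a⁻¹ : T) s)) = e := fun a => by
    rw [← he, ← Clifford.classInner_comp_mulEquiv (κ (a⁻¹ : T)) X θ]
    congr 1
    exact funext fun s => (hinv _ a⁻¹.2 s).symm
  have h2 : ∀ a b : T, (fun s => θ (κ (a⁻¹ : T) s)) = (fun s => θ (κ (b⁻¹ : T) s)) → (a : T ⧸ St) = b := by
    intro a b hab
    refine QuotientGroup.eq.2 fun s => ?_
    have := congrFun hab (κ b s)
    simp only [Subgroup.coe_inv, map_inv, MulAut.inv_apply_self] at this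
    rwa [Subgroup.coe_mul, map_mul, MulAut.mul_apply, Subgroup.coe_inv, map_inv]
  have h3 : ∀ (a : T), ∀ l ∈ St, ∀ s, θ (κ ((a * l)⁻¹ : T) s) = θ (κ (a⁻¹ : T) s) := fun a l hl s => by
    rw [mul_inv_rev, Subgroup.coe_mul, map_mul, MulAut.mul_apply, St.inv_mem hl]
  have h4 : X = (e : ℂ) • ∑ q : T ⧸ St, fun s => θ (κ (q.out⁻¹ : T) s) := by
    have hc : IsCharacter S (∑ q : T ⧸ St, fun s => θ (κ (q.out⁻¹ : T) s)) :=
      isCharacter_sum _ fun q _ => isIrr_isCharacter (hirr _)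
    obtain ⟨m, hm⟩ := exists_nat_comb hX
    obtain ⟨m', hm'⟩ := exists_nat_comb hc
    have h5 : ∀ η : IrrCharacter S, (m η : ℂ) = e * m' η := by
      intro η
      rw [← classInner_sum_nsmul_irr m η, ← hm, ← classInner_sum_nsmul_irr m' η, ← hm', classInner_sum_left]
      by_cases h6 : ∃ a : T, (fun s => θ (κ (a⁻¹ : T) s)) = η
      · obtain ⟨a, ha⟩ := h6
        obtain ⟨l, hl⟩ := QuotientGroup.mk_out_eq_mul St a
        rw [← ha, h1, Finset.sum_eq_single (a : T ⧸ St), hl, funext (h3 a l l.2), classInner_irr_self (hirr a), mul_one]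
        · exact fun q _ hq => classInner_irr_ne (hirr _) (hirr a) fun e' => hq (q.out_eq'.symm.trans (h2 _ _ e'))
        · simp
      · rw [Finset.sum_eq_zero fun q _ => classInner_irr_ne (hirr _) η.2 fun e' => h6 ⟨_, e'⟩, mul_zero]
        by_contra h7
        obtain ⟨a, ha, h8⟩ := hcon η η.2 h7
        exact h6 ⟨⟨a, ha⟩⁻¹, funext fun s => by rw [inv_inv, h8]⟩
    rw [hm, hm', Finset.smul_sum]
    refine Finset.sum_congr rfl fun η _ => ?_
    rw [← Nat.cast_smul_eq_nsmul ℂ, ← Nat.cast_smul_eq_nsmul ℂ, smul_smul, h5]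
  let φ : U → ℂ := ∑ q : T ⧸ KU, fun u => θ (κ (q.out⁻¹ : T) (j u))
  have h5 : ∀ u : U, (Nat.card St : ℂ) * χ u = e * Nat.card KU * φ u := by
    intro u
    have h6 := sum_coset St (fun a => θ (κ (a⁻¹ : T) (j u))) fun a l hl => h3 a l hl _
    have h7 := sum_coset KU (fun a => θ (κ (a⁻¹ : T) (j u))) fun a l hl => by
      obtain ⟨u', hu⟩ := cj a⁻¹ u
      rw [mul_inv_rev, Subgroup.coe_mul, map_mul, MulAut.mul_apply, hj _ a⁻¹.2 u u' hu, KU.inv_mem hl]
    rw [hχ, h4, Pi.smul_apply, smul_eq_mul, Finset.sum_apply, mul_left_comm, ← h6, h7, mul_assoc]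
    simp only [φ, Finset.sum_apply]
  have hSt : (Nat.card St : ℂ) ≠ 0 := card_ne_zero_complex
  have hKU : (Nat.card KU : ℂ) ≠ 0 := card_ne_zero_complex
  have h6 : (Nat.card St : ℂ) * mr U D χ = e * Nat.card KU * mr U D (extendByZero U φ) := by
    rw [mr_def, mr_def, ← mul_div_assoc, ← mul_div_assoc, Finset.mul_sum, Finset.mul_sum]
    exact congrArg (· / _) (Finset.sum_congr rfl fun u _ => by rw [h5, extendByZero_of_mem _ _ u.2])
  have he0 : (e : ℂ) ≠ 0 := fun e0 => by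
    rw [e0, zero_mul, zero_mul, mul_eq_zero, or_iff_right hSt] at h6
    rw [h6, map_zero] at hm
    exact zero_ne_one hm
  obtain ⟨m, -, hc⟩ := mr_isInt hS hl (χ := extendByZero U φ) (by
      rw [show (fun u : U => extendByZero U φ u) = φ from funext fun u => extendByZero_of_mem _ _ u.2]
      exact isCharacter_sum _ fun q _ => isCharacter_comp' j (isIrr_isCharacter (hirr _))) (by
      intro a ha u hu
      rw [extendByZero_of_mem _ _ hu, extendByZero_of_mem _ _ (hS.conj_U ha hu)]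
      refine mul_left_cancel₀ (mul_ne_zero he0 hKU) ?_
      rw [← h5, ← h5, hχ, hχ, ← hj _ (inv_mem ha) ⟨u, hu⟩ _ (by rw [inv_inv]), hinv _ (inv_mem ha)])
  generalize (∑ J : Finset I, _ : ℤ) = c at hc
  have h7 := congrArg Complex.normSq h6
  rw [hc, map_mul, map_mul, map_mul, hm, Complex.normSq_natCast, Complex.normSq_natCast, Complex.normSq_natCast,
    Complex.normSq_intCast, mul_one] at h7
  have h8 : (Nat.card St : ℤ) * Nat.card St = (e * Nat.card KU * c) * (e * Nat.card KU * c) := by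
    have : ((Nat.card St : ℤ) * Nat.card St : ℝ) = (e * Nat.card KU * c) * (e * Nat.card KU * c) := by
      push_cast
      rw [h7]
      ring
    exact_mod_cast this
  have h9 : Nat.card KU ∣ Nat.card St := by
    rw [← Int.natCast_dvd_natCast]
    rcases mul_self_eq_mul_self_iff.1 h8 with h9 | h9 <;> rw [h9]
    · exact ⟨e * c, by ring⟩
    · exact ⟨-(e * c), by ring⟩
  have h10 := Subgroup.eq_of_le_of_card_ge hle (Nat.le_of_dvd Nat.card_pos h9)
  exact (h10 ▸ (h : (⟨t, ht⟩ : T) ∈ KU) : (⟨t, ht⟩ : T) ∈ St) s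

end Cfsg.Agent.GAL.C2
end

-- part: GAL/C2/Lab
section
prune_inst 0x104021000600000000180000300000103000000200030000180000000802b02120012e0100200900083200c0000001400010004000000000000002004000000000200000a1080100200080003800400000000000000000000000000000041000000000000
set_option linter.all false
open scoped Cfsg.Agent.FastGrp

/-!
# S4617 / S4618, characteristic 2: labels, central characters, twists (helper89, GAL)

* `mr_sq` : the mean of an odd character over the regular unipotent elements has absolute value one;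
* `Zc D` : the centre; `lb_cen`, `lb_triv` : a character is trivial on the centre iff its label is trivial on the
  central cocharacters;
* `lb_tw` : the label of the product with a linear character.
-/

set_option autoImplicit false
set_option maxHeartbeats 400000
set_option linter.unusedSectionVars false

namespace Cfsg.Agent.GAL.C2

open Cfsg CoxeterSystem Cfsg.Agent.Tits.Roots Cfsg.Agent.Nodes.Reps Cfsg.Agent.Nodes.BNOf
open Cfsg.Agent.DL Cfsg.Agent.DL.PP Cfsg.Agent.DL.Asm Cfsg.Agent.DL.Uni Cfsg.Agent.DL.Mk Cfsg.Agent.ODD.C2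
open Cfsg.Agent.Characters.Core Cfsg.Agent.H40.OC Matrix
open scoped ComplexConjugate

theorem nrm_mem_of {Y : Type} [Group Y] {F : MulAut Y} {K : Subgroup Y} (h : ∀ y ∈ K, F y ∈ K) (d : ℕ) {t : Y}
    (ht : t ∈ K) : nrm F d t ∈ K := by
  induction d with
  | zero => exact one_mem _
  | succ d ih => rw [nrm_succ]; exact mul_mem ih (CF.pow_apply_mem (S := (K : Set Y)) h d ht)

theorem RV_central {Y : Type} [Group Y] {F : MulAut Y} {G T V : Subgroup Y} {θ : Y → ℂ} (hθ : IsLin (T ⊓ GF F G) θ)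
    {z : Y} (hz : z ∈ T ⊓ GF F G) (hc : ∀ g ∈ G, z * g = g * z) (g : Y) :
    RV F G T V θ (g * z) = RV F G T V θ g * θ z := by
  have h2 : ∀ t, CF.lam F G V (g * z) (t * z) = CF.lam F G V g t := fun t => congrArg CF.glef (funext fun m =>
    congrArg Nat.cast (congrArg (fun s : Set Y => Nat.card s) (Set.ext fun x => and_congr_right fun hx =>
      and_congr_right fun _ => by rw [mul_assoc g, hc x hx]; simp only [mul_assoc, _root_.MulEquiv.toMonoidHom_eq_coe, _root_.MonoidHom.coe_coe, _root_.mul_inv_rev, _root_.mul_inv_cancel_left])))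
  rw [CF.ind_apply, CF.ind_apply, ← finsum_comp_equiv (Equiv.mulRight (⟨z, hz⟩ : ↥(T ⊓ GF F G))), mul_assoc,
    finsum_mul]
  refine congrArg _ (finsum_congr fun t => ?_)
  rw [Equiv.coe_mulRight, Subgroup.coe_mul, h2, hθ.mul _ t.2 _ hz, mul_assoc]

variable {k : Type} [Field k] [CharP k 2] {Y : Type} [Group Y] {N : Type} [Fintype N]
  [DecidableEq N] {ρ : Y →* GL N k} {F : MulAut Y} {G : Subgroup Y} [IsAlgClosed k] (D : Datum 2 ρ F G)

/-- the centre -/
def Zc : Subgroup Y where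
  carrier := {z | z ∈ D.T ∧ ∀ i, D.χ (sr i) z = 1}
  one_mem' := ⟨one_mem _, fun _ => D.χ_one _⟩
  mul_mem' ha hb := ⟨mul_mem ha.1 hb.1, fun i => by rw [D.χ_mul _ ha.1 hb.1, ha.2, hb.2, mul_one]⟩
  inv_mem' ha := ⟨inv_mem ha.1, fun i => by rw [D.χ_inv _ ha.1, ha.2, inv_one]⟩

variable {D}

theorem Zc_comm {z : Y} (hz : z ∈ Zc D) {g : Y} (hg : g ∈ G) : z * g = g * z := by
  have h1 : ∀ a, D.χ a z = 1 := fun a => by
    rw [D.eq_sum_sr a]
    refine Finset.sum_induction _ (fun b => D.χ b z = 1) (fun b c hb hc => ?_) (D.χ_zero z) fun i _ => ?_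
    · rw [D.χ_add, hb, hc, mul_one]
    · rw [D.χ_zsmul, hz.2, _root_.one_zpow]
  have h2 : G ≤ Subgroup.centralizer {z} := D.G_eq.ge.trans (sup_le
    (fun t ht => Subgroup.mem_centralizer_singleton_iff.2 (D.T_comm ht hz.1)) (RGD.Sup_le fun a ha y hy => by
      obtain ⟨u, rfl⟩ := (D.mem_X a ha y).1 hy
      have := D.tor' ha hz.1 u
      rw [h1, one_mul] at this
      exact Subgroup.mem_centralizer_singleton_iff.2 (mul_inv_eq_iff_eq_mul.1 this).symm))
  exact (Subgroup.mem_centralizer_singleton_iff.1 (h2 hg)).symm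

theorem Zc_cj {z : Y} (hz : z ∈ Zc D) {g : Y} (hg : g ∈ G) : g * z * g⁻¹ = z := by
  rw [← Zc_comm hz hg, mul_inv_cancel_right]

theorem Zc_F (h : D.QS) : ∀ z ∈ Zc D, F z ∈ Zc D := fun z hz => ⟨D.F_mem_T hz.1, fun i => by
  obtain ⟨j, rfl⟩ := D.σ.surjective i
  rw [← h.g_sr, D.χ_F (isRoot_sr _ _ j) hz.1, hz.2, one_pow]⟩

theorem χ_coch (i : D.I) (v : D.R → ℤ) (a : kˣ) : D.χ (sr i) (D.τ (coch v a)) = (a ^ (Wt D *ᵥ v) i : kˣ) := by
  rw [D.χ_τ, chr_coch]
  rfl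

theorem coch_mem_Zc {v : D.R → ℤ} (hv : Wt D *ᵥ v = 0) (a : kˣ) : D.τ (coch v a) ∈ Zc D :=
  ⟨D.τ_mem _, fun i => by rw [χ_coch, hv, Pi.zero_apply, zpow_zero, Units.val_one]⟩

theorem Wm_fix {v : D.R → ℤ} (hv : Wt D *ᵥ v = 0) (u : D.W) : D.Wm u *ᵥ v = v := by
  induction u using D.cs.simple_induction_left with
  | one => rw [D.Wm_one, one_mulVec]
  | mul_simple_left u i ih =>
    rw [D.Wm_mul, ← mulVec_mulVec, ih, D.Wm_simple, sub_mulVec, one_mulVec, vecMulVec_mulVec,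
      show D.wt (sr i) ⬝ᵥ v = 0 from congrFun hv i]
    simp

theorem Wt_pi {m : ℕ} {ϖ : D.I → D.R → ℤ} (h : ∀ b i, D.wt b ⬝ᵥ ϖ i = (2 : ℕ) ^ m * b i) (i : D.I) :
    Wt D *ᵥ ϖ i = (2 ^ m : ℤ) • Pi.single i 1 := funext fun j => by
  refine (h (sr j) i).trans ?_
  simp [sr, Pi.single_apply, eq_comm]

theorem Wt_sum {m : ℕ} {ϖ : D.I → D.R → ℤ} (h : ∀ b i, D.wt b ⬝ᵥ ϖ i = (2 : ℕ) ^ m * b i) (s : D.I → ℤ) :
    Wt D *ᵥ ∑ i, s i • ϖ i = (2 ^ m : ℤ) • s := by
  rw [mulVec_sum]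
  simp only [mulVec_smul, Wt_pi h, ← Pi.single_smul, smul_eq_mul, mul_one, Finset.univ_sum_single]
  exact funext fun i => mul_comm _ _

theorem cw_mem_Gd (i : D.I) (a : kˣ) : D.τ (coch (D.cw i) a) ∈ Gd D := by
  obtain ⟨c₁, c₂, -, -, t, -, h⟩ := D.rank_one i
  have h0 : ∀ {b}, D.Rt b → ∀ u, D.x b u ∈ Gd D := fun hb u => RGD.le_Sup (S := {a | D.Rt a}) hb (D.x_mem hb u)
  have h1 : ∀ u : kˣ, D.τ (coch (D.cw i) u⁻¹) * t * D.n i ∈ Gd D := fun u => by
    have := h0 (isRoot_sr _ _ i).neg u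
    rwa [h u, mul_mem_cancel_right (h0 (isRoot_sr _ _ i) _), mul_assoc, mul_mem_cancel_left (h0 (isRoot_sr _ _ i) _)]
      at this
  simpa only [_root_.inv_inv, _root_.inv_one, _root_.map_one, _root_.one_mul, _root_.mul_inv_rev, _root_.mul_mul_inv_mul_cancel, _root_.mul_inv_cancel_right] using mul_mem (h1 a⁻¹) (inv_mem (h1 1))

theorem Gd_cj {g y : Y} (hg : g ∈ G) (hy : y ∈ Gd D) : g * y * g⁻¹ ∈ Gd D := by
  obtain ⟨s, hs, t, ht, rfl⟩ := (D.mem_TS (A := {a | D.Rt a}) fun _ h => h).1 (D.G_eq.ge hg)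
  rw [show s * t * y * (s * t)⁻¹ = s * (t * y * t⁻¹) * s⁻¹ by group]
  exact mul_mem (mul_mem hs (D.conj_mem_S_of_T (fun _ h => h) ht hy)) (inv_mem hs)

theorem Gd_F : ∀ y ∈ Gd D, F y ∈ Gd D := fun _ hy => D.F_mem_S (fun _ h => h) (fun a h => D.g_root a h) hy

section lvl

variable {d e : ℕ} {ζ : kˣ} (L : Lvl D d e) (hζ : IsPrimitiveRoot ζ (2 ^ e - 1))
include L

theorem Lvl_T {t : Y} (ht : t ∈ D.T) : (F ^ d) t = t ^ 2 ^ e :=
  (L.tor (y := 1) (w := 1) (one_mem _) (by simpa using rp_one)).frob t (by rwa [cj_one])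

include hζ

theorem exists_cen (hZ : CZ D) {z : Y} (hz : z ∈ Zc D) (h : (F ^ d) z = z) :
    ∃ v, Wt D *ᵥ v = 0 ∧ z = D.τ (coch v ζ) := by
  obtain ⟨m, ϖ, hϖ⟩ := hZ
  obtain ⟨x, hx⟩ := exists_coch L hζ (y := 1) (w := 1) (one_mem _) (by simpa using rp_one) (by rw [cj_one]; exact hz.1) h
  rw [one_mul, inv_one, mul_one] at hx
  have h1 : D.τ (coch ((2 ^ m : ℤ) • x - ∑ i, (Wt D *ᵥ x) i • ϖ i) ζ) = z ^ 2 ^ m := by
    have h2 : coch (∑ i, (Wt D *ᵥ x) i • ϖ i) ζ = 1 :=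
      Finset.sum_induction _ (fun v => coch v ζ = 1) (fun a b ha hb => by rw [coch_add, ha, hb, mul_one])
        (funext fun _ => zpow_zero _) fun i _ => by
          have h3 := hz.2 i
          rw [hx, χ_coch, Units.val_eq_one] at h3
          rw [coch_zsmul, h3, map_one]
    rw [sub_eq_add_neg, coch_add, coch_neg, h2, inv_one, mul_one, coch_zsmul, hx, ← map_pow, ← map_pow]
    norm_cast
  have h2 : ∀ j, z ^ 2 ^ (e * j) = z := fun j => by
    induction j with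
    | zero => simp
    | succ j ih => rw [mul_add, mul_one, pow_add, pow_mul, ih, ← Lvl_T L hz.1, h]
  refine ⟨(2 ^ (e * m - m) : ℤ) • ((2 ^ m : ℤ) • x - ∑ i, (Wt D *ᵥ x) i • ϖ i), ?_, ?_⟩
  · rw [mulVec_smul, mulVec_sub, mulVec_smul, Wt_sum hϖ, sub_self, smul_zero]
  · rw [coch_zsmul, map_zpow, map_zpow, h1, ← h2 m]
    norm_cast
    rw [h2, ← pow_mul, ← pow_add, Nat.add_sub_cancel' (Nat.le_mul_of_pos_left m L.e_pos), h2]

theorem exists_nrm_cen (h : D.QS) (hZ : CZ D) {z : Y} (hz : z ∈ Zc D) (hF : F z = z) :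
    ∃ v, Wt D *ᵥ v = 0 ∧ z = nrm F d (D.τ (coch v ζ)) := by
  obtain ⟨v, hv, rfl⟩ := exists_cen L hζ hZ hz (CF.pow_apply_of_fixed hF d)
  have h0 : 1 < 2 ^ e := Nat.one_lt_two_pow L.e_pos.ne'
  obtain ⟨b, hb⟩ := exists_zpow_eq (n := ((2 ^ e - 1 : ℕ) : ℤ)) (by omega) ζ⁻¹
  rw [zpow_natCast] at hb
  have h1 := coch_mem_Zc hv b
  have h2 : (F ^ d) (D.τ (coch v b)) = D.τ (coch v b) * (D.τ (coch v ζ))⁻¹ := by
    rw [Lvl_T L h1.1, ← map_inv, ← map_inv, ← hb, map_pow, map_pow, ← pow_succ', Nat.sub_add_cancel h0.le]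
  obtain ⟨v', hv', h3⟩ := exists_cen L hζ hZ (mul_mem h1 (inv_mem (Zc_F h _ h1))) (by
    rw [map_mul, map_inv, ← MulAut.mul_apply _ (F ^ d) F, ← pow_succ, pow_succ', MulAut.mul_apply, h2, map_mul F, map_inv F, hF,
      _root_.mul_inv_rev, inv_inv, mul_assoc, inv_mul_cancel_left])
  exact ⟨v', hv', by rw [← h3, nrm_lang, h2, _root_.mul_inv_rev, inv_inv, D.T_comm (D.τ_mem _) (inv_mem h1.1),
    mul_inv_cancel_left]⟩

end lvl

variable [Fintype (GF F G)] {T : Subgroup Y} {θ : Y → ℂ} {χ : GF F G → ℂ} {d e : ℕ} {ζ : kˣ} {c : D.R → ℂˣ}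

theorem mr_sq (h : _root_.Cfsg.Agent.ODD.C2.Good D) [Fintype (UH D)] (hχ : IsIrrCharacter (GF F G) χ) (hp : ¬ 2 ∣ charDegree χ) :
    Complex.normSq (mr (UH D) (Do D) χ) = 1 := by
  classical
  have := @Fintype.ofFinite _ (finite_irr (G := GF F G))
  have := Fintype.ofFinite (TH D)
  have := Fintype.ofFinite (Ob D)
  obtain ⟨lam, hl⟩ := exists_lam h.qs h.cz
  obtain ⟨d, e, L⟩ := exists_lvl D
  obtain ⟨ζ, hζ⟩ := exists_prim (p := 2) (k := k) L.e_pos
  have h1 : ∀ ψ : IrrCharacter (GF F G),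
      (if ¬ 2 ∣ charDegree ψ.1 then 1 else 0 : ℝ) ≤ Complex.normSq (mr (UH D) (Do D) ψ) := fun ψ => by
    obtain ⟨c, n, h1, h2, h3⟩ := mr_congr (_root_.Cfsg.Agent.DL.PP.sys h.qs h.cz) hl (D.isPGroup_U.comap_subtype) (fun f u hu =>
      h.hn (f.comp (MonoidHom.mk' (fun x => ⟨⟨x.1, x.2.2⟩, x.2.1⟩) fun _ _ => rfl)) ⟨u, u.2, u.1.2⟩ fun i =>
        (hu _).2 i rfl) (χ := ψ.1) (isCharacter_comp (UH D).subtype (isIrr_isCharacter ψ.2))
      fun t _ u _ => by simpa only [_root_.inv_inv] using isIrr_isClassFunction ψ.2 u t⁻¹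
    rw [h1, deg_of_eq h2, Complex.normSq_intCast]
    split_ifs with h4
    · simpa only [] using mul_self_nonneg (c : ℝ)
    · have : c ≠ 0 := fun e => h4 (by rwa [e, sub_zero, Int.natCast_dvd_natCast] at h3)
      exact_mod_cast mul_self_pos.2 this
  have h2 : Nat.card (Quotient (clsSetoid D)) ≤
      Nat.card {ψ : IrrCharacter (GF F G) // ¬ 2 ∣ charDegree (ψ : GF F G → ℂ)} := by
    choose f f1 f2 f3 using fun ω : Quotient (clsSetoid D) => exists_of_fx L hζ h.cz ω.out.2.choose_spec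
    exact Nat.card_le_card_of_injective (fun ω => ⟨⟨f ω, f1 ω⟩, f2 ω⟩) fun ω ω' e =>
      Quotient.out_equiv_out.1 ((f3 ω).rel L hζ (f1 ω) ((congrArg (·.1.1) e : f ω = f ω') ▸ f3 ω'))
  have h3 : ∑ ψ : IrrCharacter (GF F G), (if ¬ 2 ∣ charDegree ψ.1 then 1 else 0 : ℝ) =
      ∑ ψ : IrrCharacter (GF F G), Complex.normSq (mr (UH D) (Do D) ψ) := by
    refine le_antisymm (Finset.sum_le_sum fun ψ _ => h1 ψ) ((sum_mr_le_cls h.qs h.cz).trans
      ((Nat.cast_le.2 h2).trans_eq ?_))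
    rw [Nat.card_eq_fintype_card, Fintype.card_subtype, Finset.card_filter, Nat.cast_sum]
    simp only [_root_.Nat.two_dvd_ne_zero, _root_.Nat.cast_ite, _root_.Nat.cast_one, _root_.CharP.cast_eq_zero, _root_.Finset.sum_boole]
  have h4 := (Finset.sum_eq_sum_iff_of_le fun ψ _ => h1 ψ).1 h3 ⟨χ, hχ⟩ (Finset.mem_univ _)
  rw [if_pos hp] at h4
  exact h4.symm

theorem ov_central (h : Ov D T θ χ) (hχ : IsIrrCharacter (GF F G) χ) {z : GF F G} (hz : (z : Y) ∈ T)
    (hc : ∀ g ∈ G, z * g = g * (z : Y)) : χ z = θ z * χ 1 := by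
  have h0 : z ∈ Subgroup.center (GF F G) := Subgroup.mem_center_iff.2 fun g => Subtype.ext (hc g g.2.1).symm
  obtain ⟨a, h1, -⟩ := ODD.Red.exists_central hχ h0
  have h2 : ∀ g, χ (g * z⁻¹) = χ g / a ∧ a ≠ 0 := fun g => by
    have ha : a ≠ 0 := fun e => isIrr_apply_one_ne_zero hχ (by simpa [e] using h1 z⁻¹)
    refine ⟨eq_div_of_mul_eq ha ?_, ha⟩
    rw [mul_comm, ← h1, Subgroup.mem_center_iff.1 (inv_mem h0), mul_inv_cancel_left]
  have h3 : classInner (res (GF F G) (R D T θ)) χ =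
      θ z * conj a * classInner (res (GF F G) (R D T θ)) χ := by
    conv_lhs => rw [classInner_def, ← Equiv.sum_comp (Equiv.mulRight z)]
    rw [classInner_def, mul_left_comm, Finset.mul_sum (a := θ z * conj a)]
    refine congrArg _ (Finset.sum_congr rfl fun g _ => ?_)
    simp only [Equiv.coe_mulRight, res, R]
    rw [Subgroup.coe_mul, RV_central h.lin ⟨hz, z.2⟩ hc, Subgroup.mem_center_iff.1 h0 g, h1, map_mul]
    ring
  have h4 : θ z * conj a = 1 := (mul_right_eq_self₀.1 (by rw [mul_comm]; exact h3.symm)).resolve_right h.ne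
  have h5 : conj a = a⁻¹ := by
    have h6 := isCharacter_apply_inv (isIrr_isCharacter hχ) z
    have h7 := h1 1
    have h8 := isCharacter_apply_inv (isIrr_isCharacter hχ) 1
    rw [mul_one] at h7
    rw [inv_one] at h8
    rw [← one_mul z⁻¹, (h2 1).1, h7, map_mul, ← h8, div_eq_inv_mul] at h6
    exact (mul_right_cancel₀ (isIrr_apply_one_ne_zero hχ) h6).symm
  rw [h5, mul_inv_eq_one₀ (h2 1).2] at h4
  rw [h4, ← h1, mul_one]

section

variable (L : Lvl D d e) (hζ : IsPrimitiveRoot ζ (2 ^ e - 1)) (hχ : IsIrrCharacter (GF F G) χ) (h : Lb D d ζ χ c)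
include L hζ h

include hχ in
theorem lb_nrm (hq : D.QS) {v : D.R → ℤ} (hv : Wt D *ᵥ v = 0) {z : GF F G} (hz : (z : Y) = nrm F d (D.τ (coch v ζ))) :
    χ z = chr v c * χ 1 := by
  obtain ⟨y, hy, w, hw, θ, c', u, h1, h2, h3⟩ := h
  have h4 : (z : Y) ∈ Zc D := hz ▸ nrm_mem_of (Zc_F hq) d (coch_mem_Zc hv ζ)
  rw [ov_central h3 hχ (Zc_cj h4 hy ▸ conj_mem_cj.2 h4.1) fun g hg => Zc_comm h4 hg, hz,
    ← Zc_cj (coch_mem_Zc hv ζ) hy, h1, ← h2, Wm_fix hv]

include hχ in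
theorem lb_cen (hq : D.QS) (hz : ∀ z : GF F G, (z : Y) ∈ Zc D → χ z = χ 1) {v : D.R → ℤ} (hv : Wt D *ᵥ v = 0) :
    chr v c = 1 := by
  have h1 := (nrm_mem L hζ (y := 1) (w := 1) (one_mem _) (by simpa using rp_one) v).2
  rw [one_mul, inv_one, mul_one] at h1
  have h2 := lb_nrm L hζ hχ h hq hv (z := ⟨_, h1⟩) rfl
  rw [hz _ (nrm_mem_of (Zc_F hq) d (coch_mem_Zc hv ζ))] at h2
  exact Units.ext ((mul_left_eq_self₀.1 h2.symm).resolve_right (isIrr_apply_one_ne_zero hχ))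

include hχ in
theorem lb_triv (hq : D.QS) (hZ : CZ D) (hc : ∀ v, Wt D *ᵥ v = 0 → chr v c = 1) {z : GF F G} (hz : (z : Y) ∈ Zc D) :
    χ z = χ 1 := by
  obtain ⟨v, hv, h1⟩ := exists_nrm_cen L hζ hq hZ hz z.2.2
  rw [lb_nrm L hζ hχ h hq hv h1, hc v hv, Units.val_one, one_mul]

/-- the label of the product with a linear character -/
theorem lb_tw (β : GF F G →* ℂˣ) (hβ : ∀ g : GF F G, (g : Y) ∈ Gd D → β g = 1)
    (hu : ∀ g : GF F G, IsUni 2 (g : Y) → β g = 1) :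
    ∃ z : D.R → ℂˣ, (∀ i, chr (D.cw i) z = 1) ∧ Lb D d ζ (fun g => β g * χ g) (c * z) ∧ ∃ y ∈ G, ∃ w,
      D.Rp w (y⁻¹ * F y) ∧ ∀ v (g : GF F G), (g : Y) = nrm F d (y * D.τ (coch v ζ) * y⁻¹) → β g = chr v z := by
  obtain ⟨y, hy, w, hw, θ, c', u, h1, h2, h3⟩ := h
  let φ : Y → ℂ := extendByZero (GF F G) fun g => β g
  have e1 : ∀ g : GF F G, φ g = β g := fun g => extendByZero_of_mem _ _ g.2
  have e2 : ∀ a ∈ GF F G, ∀ b ∈ GF F G, φ (a * b) = φ a * φ b := fun a ha b hb => by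
    rw [← Subgroup.coe_mk _ a ha, ← Subgroup.coe_mk _ b hb, ← Subgroup.coe_mul, e1, e1, e1, map_mul, Units.val_mul]
  have e3 : IsLin (cj y D.T ⊓ GF F G) φ :=
    ⟨(e1 1).trans (by rw [map_one, Units.val_one]), fun a ha b hb => e2 a ha.2 b hb.2⟩
  have e4 : PConst 2 (GF F G) φ := ⟨fun g hg a ha => by
      rw [← Subgroup.coe_mk _ a ha, ← Subgroup.coe_mk _ g hg, ← Subgroup.coe_inv, ← Subgroup.coe_mul,
        ← Subgroup.coe_mul, e1, e1, map_mul, map_mul, map_inv, mul_inv_cancel_comm],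
    fun s hs a ha _ h4 _ => by rw [e2 s hs a ha, e1 ⟨a, ha⟩, hu ⟨a, ha⟩ h4, Units.val_one, mul_one]⟩
  have e5 : res (GF F G) (R D (cj y D.T) (φ * θ)) = fun g => β g * res (GF F G) (R D (cj y D.T) θ) g :=
    funext fun g => ((sys' D).pconst _ h3.tor φ θ e4 g g.2).trans (by rw [e1]; rfl)
  obtain ⟨z, hz⟩ := exists_lab L hζ hy hw e3
  have h5 : ∀ i, chr (D.cw i) z = 1 := fun i => Units.ext (by
    rw [← hz, e1 ⟨_, (nrm_mem L hζ hy hw _).2⟩, hβ _ (nrm_mem_of Gd_F d (Gd_cj hy (cw_mem_Gd i ζ)))])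
  have h6 : ∀ u v, chr (D.Wm u *ᵥ v) z = chr v z := fun u v => by
    induction u using D.cs.simple_induction_left with
    | one => rw [D.Wm_one, one_mulVec]
    | mul_simple_left u i ih =>
      rw [D.Wm_mul, ← mulVec_mulVec, D.Wm_simple, sub_mulVec, one_mulVec, vecMulVec_mulVec, chr_sub, ih, op_smul_eq_smul,
        chr_zsmul, h5, _root_.one_zpow, inv_one, mul_one]
  refine ⟨z, h5, ⟨y, hy, w, hw, φ * θ, z * c', u, fun v => ?_, fun v => ?_, h3.tor, ⟨?_, fun a ha b hb => ?_⟩, ?_, ?_⟩,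
    y, hy, w, hw, fun v g hg => Units.ext (by rw [← e1, hg, hz])⟩
  · rw [Pi.mul_apply, hz, h1, map_mul, Units.val_mul]
  · rw [map_mul, map_mul, h2, h6, mul_comm]
  · rw [Pi.mul_apply, e3.one, h3.lin.one, mul_one]
  · rw [Pi.mul_apply, Pi.mul_apply, Pi.mul_apply, e3.mul a ha b hb, h3.lin.mul a ha b hb, mul_mul_mul_comm]
  · obtain ⟨ε, h7, h8⟩ := h3.tru
    refine ⟨ε, h7, ?_⟩
    have h9 := isCharacter_mul (isIrr_isCharacter (ODD.Red.isIrr_lin_mul β isIrr_one)) h8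
    convert h9 using 1
    funext g
    have := congrFun e5 g
    simp only [res, Pi.smul_apply, Pi.mul_apply, Pi.one_apply, smul_eq_mul] at this ⊢
    rw [this]
    ring
  · rw [e5, classInner_def]
    refine fun e => h3.ne (Eq.trans ?_ e)
    rw [classInner_def]
    refine congrArg _ (Finset.sum_congr rfl fun g _ => ?_)
    have h7 : (β g : ℂ) * conj (β g : ℂ) = 1 := by
      have := isCharacter_apply_inv (isIrr_isCharacter (ODD.Red.isIrr_lin_mul β isIrr_one)) g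
      simp only [Pi.one_apply, mul_one] at this
      rw [← this, ← Units.val_mul, ← map_mul, mul_inv_cancel, map_one, Units.val_one]
    rw [map_mul, mul_mul_mul_comm, h7, one_mul]

end

end Cfsg.Agent.GAL.C2
end

-- part: GAL/Two/Grp
section
prune_inst 0x10602d0507000000001c0002d000009531000002006b000088a409000480eb222902af21b4a007080832aa44203c01481110007080100000000004004119018010a812063300a104000086808004410000000000000000000000000000000000004010000
set_option linter.all false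
open scoped Cfsg.Agent.FastGrp

/-!
# S4617 / S4618, characteristic 2: the group side for a Deligne-Lusztig datum (helper10, GAL)

`Cx D K π` : `K` is a subgroup of `G^F` which contains `U^F`, and `π : K →* S` is onto with kernel `K ∩ Z(G)`.

* `Cen G t` : `t` commutes with `G`; `cen_iff_chi`;
* `Cx.Q` : the Sylow subgroup `π (U^F)`; `Cx.exists_norm` : its normalizer is `π (B^F ∩ K)`; `Cx.noC`;
* `Ind π α r` : `α` induces `r`; `Cx.dda_iff` : `DDA` in terms of the torus `T ∩ K`;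
* `Cx.kap_of_inner` : an inner automorphism of 2-power order which normalizes `Q` fixes the coordinates `kap`.
-/

set_option autoImplicit false
set_option linter.unusedSectionVars false

namespace Cfsg.Agent.GAL.Two

open Cfsg Subgroup Cfsg.Agent.GAL.Nrm Cfsg.Agent.DL Cfsg.Agent.DL.PP Cfsg.Agent.DL.St Cfsg.Agent.Tits.Roots

universe u

variable {k : Type} [Field k] [CharP k 2] {Y : Type} [Group Y] {N : Type} [Fintype N] [DecidableEq N]
  {ρ : Y →* GL N k} {F : MulAut Y} {G : Subgroup Y} [IsAlgClosed k] {D : Datum 2 ρ F G}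

/-- `t` commutes with `G` -/
def Cen (G : Subgroup Y) (t : Y) : Prop := ∀ g ∈ G, g * t = t * g

theorem Cen.one : Cen G 1 := fun g _ => by rw [mul_one, one_mul]

theorem Cen.mul {s t : Y} (hs : Cen G s) (ht : Cen G t) : Cen G (s * t) := fun g hg => by
  rw [← mul_assoc, hs g hg, mul_assoc, ht g hg, mul_assoc]

theorem Cen.inv {t : Y} (ht : Cen G t) : Cen G t⁻¹ := fun g hg => by
  rw [mul_inv_eq_iff_eq_mul, mul_assoc, ht g hg, inv_mul_cancel_left]

theorem Cen.pow {t : Y} (ht : Cen G t) (n : ℕ) : Cen G (t ^ n) := fun g hg =>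
  (Commute.pow_right (ht g hg) n).eq

theorem Cen.mem_T {t : Y} (ht : Cen G t) (D : Datum 2 ρ F G) (hG : t ∈ G) : t ∈ D.T := by
  rw [← D.centralizer_T]
  exact ⟨hG, mem_centralizer_iff.2 fun s hs => ht s (D.T_le_G hs)⟩

theorem cen_of_chi {t : Y} (ht : t ∈ D.T) (h : ∀ i, D.χ (sr i) t = 1) : Cen G t := by
  have h1 : ∀ a, D.χ a t = 1 := fun a => by
    rw [D.eq_sum_sr a]
    induction (Finset.univ : Finset D.I) using Finset.induction_on with
    | empty => exact D.χ_zero t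
    | insert i s hi ih => rw [Finset.sum_insert hi, D.χ_add, ih, D.χ_zsmul, h, one_zpow, mul_one]
  have h2 : D.cen {t} ≤ centralizer {t} := D.cen_le_centralizer (Set.singleton_subset_iff.2 ht)
  have h3 : G ≤ D.cen {t} := by
    refine D.G_eq.ge.trans ?_
    have h4 : {a | D.Rt a} ⊆ D.Sz {t} := fun a ha => ⟨ha, fun z hz => by rw [hz]; exact h1 a⟩
    exact sup_le_sup_left (Nodes.BNOf.RGD.Sup_mono h4) _
  exact fun g hg => (mem_centralizer_iff.1 (h2 (h3 hg)) t rfl).symm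

theorem Cen.chi {t : Y} (ht : Cen G t) (hT : t ∈ D.T) {a : D.I → ℤ} (ha : D.Rt a) : D.χ a t = 1 := by
  have h1 := D.tor' ha hT 1
  rw [← ht _ (D.X_le_G ha (D.x_mem ha 1)), mul_inv_cancel_right, mul_one] at h1
  exact (D.x_inj a ha h1).symm

theorem cen_iff_chi {t : Y} (ht : t ∈ D.T) : Cen G t ↔ ∀ i, D.χ (sr i) t = 1 :=
  ⟨fun h i => h.chi ht (isRoot_sr _ _ i), cen_of_chi ht⟩

variable (D) in
theorem odd_T {t : Y} (ht : t ∈ D.T) : Odd (orderOf t) := by
  have := fact2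
  rw [odd_iff']
  rintro ⟨m, hm⟩
  have h0 := (D.amb.isOfFinOrder t).orderOf_pos
  have h1 := eq_one_of_pow D (pow_mem ht m) (by rw [← pow_mul, mul_comm, ← hm, pow_orderOf_eq_one])
  have h2 := Nat.le_of_dvd (by omega) (orderOf_dvd_of_pow_eq_one h1)
  omega

variable (D) in
theorem pow_U {u : Y} (hu : u ∈ D.U) : ∃ n : ℕ, u ^ 2 ^ n = 1 :=
  let ⟨n, hn⟩ := D.isPGroup_U ⟨u, hu⟩
  ⟨n, congrArg Subtype.val hn⟩

theorem eq_one_of_odd_two {H : Type*} [Group H] {z : H} (ho : Odd (orderOf z)) {n : ℕ} (h : z ^ 2 ^ n = 1) : z = 1 :=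
  orderOf_eq_one_iff.1 (Nat.eq_one_of_dvd_coprimes (ho.coprime_two_right.pow_right n) dvd_rfl
    (orderOf_dvd_of_pow_eq_one h))

/-- two 2-elements which differ by a central element are equal -/
theorem eq_of_cen (D : Datum 2 ρ F G) {a b : Y} (ha : a ∈ G) (hb : b ∈ G) (ha2 : ∃ n : ℕ, a ^ 2 ^ n = 1) (hb2 : ∃ n : ℕ, b ^ 2 ^ n = 1)
    (h : Cen G (a⁻¹ * b)) : a = b := by
  obtain ⟨m, hm⟩ := ha2
  obtain ⟨n, hn⟩ := hb2
  have h1 : (a * (a⁻¹ * b)) ^ 2 ^ (m + n) = 1 := by rw [mul_inv_cancel_left, pow_add, mul_comm, pow_mul, hn, one_pow]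
  rw [Commute.mul_pow (h a ha), pow_add 2 m, pow_mul a, hm, one_pow, one_mul, ← pow_add] at h1
  exact inv_mul_eq_one.1 (eq_one_of_odd_two (odd_T D (h.mem_T D (mul_mem (inv_mem ha) hb))) h1)

theorem exists_regU (h : D.QS) : ∃ u ∈ D.U ⊓ GF F G, ∀ i, kap D i u ≠ 0 := by
  obtain ⟨a, ha⟩ := exists_fix_unit h
  obtain ⟨u, hu, h1⟩ := exists_kap_fix h (a := fun i => a i) fun i => by rw [ha]; simp
  exact ⟨u, hu, fun i => by rw [h1]; exact (a i).ne_zero⟩

/-- the normalizer of `U^F` in `G^F` is `U^F T^F` -/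
theorem exists_BF (h : D.QS) {y : Y} (hy : y ∈ GF F G) (hn : ∀ u ∈ D.U ⊓ GF F G, y⁻¹ * u * y ∈ D.U) :
    ∃ u ∈ D.U ⊓ GF F G, ∃ t ∈ D.T ⊓ GF F G, y = u * t := by
  obtain ⟨v, hv, h1⟩ := exists_regU h
  obtain ⟨u, hu, t, ht, rfl⟩ := (mem_Par_empty D.sbn).1 (mem_B_of_reg hv.1 h1 hy.1 (hn v hv))
  have h2 : F u * F t = u * t := by rw [← map_mul, (mem_GF.1 hy).2]
  have h3 : u⁻¹ * F u = t * (F t)⁻¹ := by rw [inv_mul_eq_iff_eq_mul, ← mul_assoc, ← h2, mul_inv_cancel_right]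
  have h4 : u⁻¹ * F u = 1 := D.eq_one_of_mem_U_of_mem_T (mul_mem (inv_mem hu) ((h.F_mem_U u).2 hu))
    (h3 ▸ mul_mem ht (inv_mem (D.F_mem_T ht)))
  rw [h4] at h3
  exact ⟨u, ⟨hu, D.U_le_G hu, (inv_mul_eq_one.1 h4).symm⟩, t, ⟨ht, D.T_le_G ht, (mul_inv_eq_one.1 h3.symm).symm⟩, rfl⟩

theorem kap_conj_B {u t v : Y} (hu : u ∈ D.U) (ht : t ∈ D.T) (hv : v ∈ D.U) (i : D.I) :
    kap D i (u * t * v * (u * t)⁻¹) = D.χ (sr i) t * kap D i v := by
  have h1 := D.conj_mem_U_of_T ht hv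
  rw [show u * t * v * (u * t)⁻¹ = u * (t * v * t⁻¹) * u⁻¹ by group, kap_mul i (mul_mem hu h1) (inv_mem hu),
    kap_mul i hu h1, kap_inv i hu, kap_conj i ht hv]
  ring

variable (D) in
/-- `S` is the quotient of `K` by the centre, `U^F ≤ K ≤ G^F` -/
structure Cx {S : Type u} [Group S] (K : Subgroup Y) (π : K →* S) : Prop where
  qs : D.QS
  le : K ≤ GF F G
  U_le : D.U ⊓ GF F G ≤ K
  surj : Function.Surjective π
  ker : ∀ x : K, π x = 1 ↔ Cen G x

/-- `α` induces `r` -/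
def Ind {S : Type u} [Group S] {K : Subgroup Y} (π : K →* S) (α : MulAut Y) (r : MulAut S) : Prop :=
  ∀ x : K, ∃ hx : α x ∈ K, r (π x) = π ⟨α x, hx⟩

variable {S : Type u} [Group S] {K : Subgroup Y} {π : K →* S}

theorem Ind.one : Ind π 1 1 := fun x => ⟨x.2, rfl⟩

theorem Ind.mul {α β : MulAut Y} {r s : MulAut S} (h : Ind π α r) (h' : Ind π β s) : Ind π (α * β) (r * s) := by
  intro x
  obtain ⟨h1, h2⟩ := h' x
  obtain ⟨h3, h4⟩ := h ⟨_, h1⟩
  exact ⟨h3, by rw [MulAut.mul_apply, h2, h4]; rfl⟩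

theorem Ind.pow {α : MulAut Y} {r : MulAut S} (h : Ind π α r) (n : ℕ) : Ind π (α ^ n) (r ^ n) := by
  induction n with
  | zero => simpa using Ind.one
  | succ n ih =>
    rw [pow_succ, pow_succ]
    exact ih.mul h

namespace Cx

variable (C : Cx D K π)
include C

theorem finK : Finite K :=
  have := D.amb.finite_GF G
  Finite.of_injective _ (inclusion_injective C.le)

theorem finS : Finite S :=
  have := C.finK
  Finite.of_surjective π C.surj

theorem eq_iff (x y : K) : π x = π y ↔ Cen G ((x : Y)⁻¹ * y) := by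
  rw [← inv_mul_eq_one, ← map_inv, ← map_mul, C.ker]
  rfl

theorem not_dvd_index : ¬ 2 ∣ (D.U.subgroupOf K).index := by
  have := fact2
  have := D.amb.finite_GF G
  have e1 := Subgroup.subgroupOfEquivOfLe (inf_le_right : D.U ⊓ GF F G ≤ GF F G)
  have h1 := (Sylow.ofCard ((D.U ⊓ GF F G).subgroupOf (GF F G)) (by
    rw [Nat.card_congr e1.toEquiv,
      card_U D.sbn (aut_qs C.qs) (fun _ => mem_GF) D.isPGroup_U (fun _ => eq_one_of_pow D) (move C.qs)])).not_dvd_index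
  have h2 : (D.U ⊓ GF F G).relIndex K * K.relIndex (GF F G) = (D.U ⊓ GF F G).relIndex (GF F G) :=
    relIndex_mul_relIndex _ _ _ C.U_le C.le
  have h3 : (D.U ⊓ GF F G).subgroupOf K = D.U.subgroupOf K :=
    Subgroup.ext fun x => ⟨fun hx => hx.1, fun hx => ⟨hx, C.le x.2⟩⟩
  intro h4
  refine h1 ?_
  show 2 ∣ (D.U ⊓ GF F G).relIndex (GF F G)
  rw [← h2, relIndex, h3]
  exact h4.mul_right _

/-- the Sylow subgroup `π (U^F)` -/
noncomputable def Q : Sylow 2 S :=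
  have := fact2
  have := C.finK
  ((D.isPGroup_U.comap_subtype (K := K)).toSylow C.not_dvd_index).mapSurjective C.surj

theorem mk_mem_Q {u : Y} (hu : u ∈ D.U ⊓ GF F G) : π ⟨u, C.U_le hu⟩ ∈ (C.Q : Subgroup S) := ⟨_, hu.1, rfl⟩

theorem mem_Q_T {t : K} (ht : (t : Y) ∈ D.T) : π t ∈ (C.Q : Subgroup S) ↔ Cen G t := by
  refine ⟨fun h => (C.ker t).1 (eq_one_of_odd_of_mem C.Q.isPGroup' h ?_), fun h => ?_⟩
  · exact Odd.of_dvd_nat (odd_T D ht) ((orderOf_map_dvd π t).trans (by rw [orderOf_coe]))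
  · rw [(C.ker t).2 h]
    exact one_mem _

theorem mem_U {x : K} (h2 : ∃ n : ℕ, (x : Y) ^ 2 ^ n = 1) (h : π x ∈ (C.Q : Subgroup S)) : (x : Y) ∈ D.U := by
  obtain ⟨u, hu, h1⟩ := h
  rw [← eq_of_cen D (C.le u.2).1 (C.le x.2).1 (pow_U D hu) h2 ((C.eq_iff u x).1 h1)]
  exact hu

theorem exists_norm {y : S} (hy : y ∈ normalizer ((C.Q : Subgroup S) : Set S)) :
    ∃ u t : K, (u : Y) ∈ D.U ∧ (t : Y) ∈ D.T ∧ y = π u * π t := by
  obtain ⟨x, rfl⟩ := C.surj y
  obtain ⟨u, hu, t, ht, h1⟩ := exists_BF C.qs (C.le x.2) fun v hv => by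
    have h2 := (mem_normalizer_iff.1 (inv_mem hy) _).1 (C.mk_mem_Q hv)
    rw [inv_inv, ← map_inv, ← map_mul, ← map_mul] at h2
    refine C.mem_U ?_ h2
    obtain ⟨n, hn⟩ := pow_U D hv.1
    refine ⟨n, ?_⟩
    have h3 := conj_pow (a := (x : Y)⁻¹) (b := v) (i := 2 ^ n)
    rw [inv_inv, hn, mul_one, inv_mul_cancel] at h3
    exact h3
  have h2 : t ∈ K := by
    rw [eq_inv_mul_of_mul_eq h1.symm]
    exact mul_mem (inv_mem (C.U_le hu)) x.2
  exact ⟨⟨u, C.U_le hu⟩, ⟨t, h2⟩, hu.1, ht.1, by rw [← map_mul]; exact congrArg π (Subtype.ext h1)⟩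

theorem T_mem_norm {t : K} (ht : (t : Y) ∈ D.T) : π t ∈ normalizer ((C.Q : Subgroup S) : Set S) := by
  have := C.finS
  refine mem_normalizer_fintype ?_
  rintro _ ⟨u, hu, rfl⟩
  exact ⟨t * u * t⁻¹, D.conj_mem_U_of_T ht hu, by rw [map_mul, map_mul, map_inv]⟩

/-- conjugation with `π (u t)` multiplies the coordinates with the simple roots -/
theorem kap_conj {u t v w : K} (hu : (u : Y) ∈ D.U) (ht : (t : Y) ∈ D.T) (hv : (v : Y) ∈ D.U) (hw : (w : Y) ∈ D.U)
    (h : π u * π t * π v * (π u * π t)⁻¹ = π w) (i : D.I) : kap D i w = D.χ (sr i) t * kap D i v := by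
  rw [← map_mul, ← map_mul, ← map_inv, ← map_mul] at h
  have h1 : (u : Y) * t * v * ((u : Y) * t)⁻¹ ∈ D.U := by
    rw [show (u : Y) * t * v * ((u : Y) * t)⁻¹ = u * (t * v * (t : Y)⁻¹) * (u : Y)⁻¹ by group]
    exact mul_mem (mul_mem hu (D.conj_mem_U_of_T ht hv)) (inv_mem hu)
  rw [← eq_of_cen D (D.U_le_G h1) (D.U_le_G hw) (pow_U D h1) (pow_U D hw) ((C.eq_iff _ _).1 h), kap_conj_B hu ht hv]

theorem noC : NoC S := by
  have := C.finS
  refine noC_of_le C.Q fun y hy => ?_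
  obtain ⟨u, t, hu, ht, rfl⟩ := C.exists_norm (centralizer_le_normalizer _ hy)
  refine mul_mem ⟨u, hu, rfl⟩ ((C.mem_Q_T ht).2 (cen_of_chi ht fun i => ?_))
  obtain ⟨v, hv, h1⟩ := exists_regU C.qs
  have h2 := C.kap_conj hu ht (v := ⟨v, C.U_le hv⟩) hv.1 hv.1
    (by rw [← mem_centralizer_iff.1 hy _ (C.mk_mem_Q hv), mul_inv_cancel_right]) i
  exact (mul_eq_right₀ (h1 i)).1 h2.symm

theorem map_Q {α : MulAut Y} {r : MulAut S} (h : Ind π α r) (hU : ∀ u ∈ D.U, α u ∈ D.U) :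
    ∀ q ∈ (C.Q : Subgroup S), r q ∈ (C.Q : Subgroup S) := by
  rintro _ ⟨u, hu, rfl⟩
  obtain ⟨h1, h2⟩ := h u
  exact ⟨⟨_, h1⟩, hU u hu, h2.symm⟩

/-- an inner automorphism of 2-power order which normalizes `Q` fixes the coordinates -/
theorem kap_of_inner (hZ : center S = ⊥) {α : MulAut Y} {r : MulAut S} (h : Ind π α r) (hU : ∀ u ∈ D.U, α u ∈ D.U)
    (hr : Inner r) {n : ℕ} (h2 : r ^ 2 ^ n = 1) {v : Y} (hv : v ∈ D.U ⊓ GF F G) (i : D.I) :
    kap D i (α v) = kap D i v := by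
  have := C.finS
  obtain ⟨s, rfl⟩ := hr
  have h1 : s ∈ (C.Q : Subgroup S) := by
    refine mem_of_pow_mem C.Q (mem_normalizer_fintype (C.map_Q h hU)) (k := n) ?_
    rw [← map_pow] at h2
    have h3 : s ^ 2 ^ n ∈ center S := mem_center_iff.2 fun g => by
      have h4 := congrArg (fun φ : MulAut S => φ g) h2
      exact (mul_inv_eq_iff_eq_mul.1 h4).symm
    rw [hZ, mem_bot] at h3
    rw [h3]
    exact one_mem _
  obtain ⟨u, hu, rfl⟩ := h1
  obtain ⟨h3, h4⟩ := h ⟨v, C.U_le hv⟩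
  have h5 := C.kap_conj hu (t := 1) (one_mem _) (v := ⟨v, C.U_le hv⟩) (w := ⟨_, h3⟩) hv.1 (hU v hv.1)
    (by rw [map_one, mul_one]; exact h4) i
  rw [h5, OneMemClass.coe_one, D.χ_one, one_mul]

/-- `DDA` in terms of the torus, modulo the centre -/
theorem dda_iff' {A : Subgroup (MulAut S)}
    (hA : ∀ r ∈ A, ∃ α, Ind π α r ∧ (∀ u ∈ D.U, α u ∈ D.U) ∧ ∀ t ∈ D.T, α t ∈ D.T) :
    DDA C.Q A ↔ ∀ t : K, (t : Y) ∈ D.T → (∀ r ∈ A, r (π t) = π t) → Cen G t := by
  constructor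
  · intro h t ht h1
    refine (C.ker t).1 (h _ (C.T_mem_norm ht) ?_ fun r hr => ?_)
    · exact Odd.of_dvd_nat (odd_T D ht) ((orderOf_map_dvd π t).trans (by rw [orderOf_coe]))
    · rw [h1 r hr, inv_mul_cancel]
      exact one_mem _
  · intro h y hy ho h1
    obtain ⟨u, t, hu, ht, rfl⟩ := C.exists_norm hy
    have hu' : π u ∈ (C.Q : Subgroup S) := ⟨u, hu, rfl⟩
    refine eq_one_of_odd_of_mem C.Q.isPGroup' (mul_mem hu' ((C.mem_Q_T ht).2 (h t ht fun r hr => ?_))) ho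
    obtain ⟨α, h2, h3, h4⟩ := hA r hr
    obtain ⟨h5, h6⟩ := h2 t
    have h7 := (mem_normalizer_iff.1 (inv_mem (C.T_mem_norm ht)) _).1 (mul_mem (inv_mem hu') (C.map_Q h2 h3 _ hu'))
    have h8 := mul_mem (inv_mem h7) (h1 r hr)
    rw [map_mul, show ((π t)⁻¹ * ((π u)⁻¹ * r (π u)) * (π t)⁻¹⁻¹)⁻¹ * ((π u * π t)⁻¹ * (r (π u) * r (π t))) =
      (π t)⁻¹ * r (π t) by group, h6, ← map_inv, ← map_mul] at h8
    rw [h6]
    exact ((C.eq_iff _ _).2 ((C.mem_Q_T (mul_mem (inv_mem ht) (h4 t ht))).1 h8)).symm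

end Cx

end Cfsg.Agent.GAL.Two
end

-- part: GAL/Two/Bx
section
prune_inst 0x30404d011300000000040002d0000095410001000028000088a409000481ab230902a120b600060809c22a240034410811000079c20000000a000600011901a09088100631000004020087800804410000000000000000000000000000000000004010000
set_option linter.all false
open scoped Cfsg.Agent.FastGrp

/-!
# S4617 / S4618, characteristic 2: the model `Md`, induced automorphisms, the four boxes (helper10, GAL)

* `mdQ` : the Sylow subgroup of the model; `mem_mdQ`, `md_noC`, `map_mdQ`;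
* `exists_ind` : an automorphism which preserves the image of `ι` induces an automorphism of `S`;
* `not_inner_graph`, `not_inner_field`;
* `boxes_of : GenBox → Boxes`.
-/

set_option autoImplicit false
set_option linter.unusedSectionVars false

namespace Cfsg.Agent.GAL.Two

open Cfsg Subgroup Cfsg.Agent.GAL.Nrm Cfsg.Agent.DL Cfsg.Agent.DL.PP Cfsg.Agent.DL.St Cfsg.Agent.Tits.Roots
  Cfsg.Agent.GAL.C2 Matrix

variable {k : Type} [Field k] [CharP k 2] {Y : Type} [Group Y] {N : Type} [Fintype N] [DecidableEq N]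
  {ρ : Y →* GL N k} {F : MulAut Y} {G : Subgroup Y} [IsAlgClosed k] {D : Datum 2 ρ F G}
  {X S : Type} [Group X] [Group S] {ι : X →* Y} {pr : X →* S}

theorem md_inj (M : Md D ι pr) : Function.Injective ι := M.emb.choose_spec.2.inj

theorem md_mem (M : Md D ι pr) (x : X) : ι x ∈ GF F G := M.emb.choose_spec.2.mem x

theorem md_U (M : Md D ι pr) {u : Y} (hu : u ∈ D.U ⊓ GF F G) : u ∈ ι.range :=
  M.sc u hu.2 (Nodes.BNOf.RGD.Sup_mono (fun _ ha => ha.1) hu.1)

/-- the quotient map on the image of `ι` -/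
noncomputable def prK (M : Md D ι pr) : ι.range →* S :=
  pr.comp (MonoidHom.ofInjective (md_inj M)).symm.toMonoidHom

theorem prK_apply (M : Md D ι pr) (x : X) (h : ι x ∈ ι.range) : prK M ⟨ι x, h⟩ = pr x :=
  congrArg pr ((MonoidHom.ofInjective (md_inj M)).symm_apply_apply x)

theorem cen_of_center (M : Md D ι pr) {s : X} (hs : s ∈ center X) : Cen G (ι s) := by
  have hc : ∀ y ∈ ι.range, y * ι s = ι s * y := by
    rintro _ ⟨x, rfl⟩
    rw [← map_mul, mem_center_iff.1 hs x, map_mul]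
  obtain ⟨u, hu, t, ht, h1⟩ := exists_BF M.good.qs (md_mem M s) fun v hv => by
    rw [mul_assoc, hc v (md_U M hv), inv_mul_cancel_left]
    exact hv.1
  have h2 : Cen G t := cen_of_chi ht.1 fun i => by
    obtain ⟨v, hv, h2⟩ := exists_regU M.good.qs
    have h3 := kap_conj_B hu.1 ht.1 hv.1 i
    rw [← h1, ← hc v (md_U M hv), mul_inv_cancel_right] at h3
    exact (mul_eq_right₀ (h2 i)).1 h3.symm
  obtain ⟨m, hm, hF⟩ := D.exists_rp_fix (map_w0 (cs := D.cs) (φ := D.Fw) M.good.qs.Fw_simple)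
  obtain ⟨x, t', ht', h3⟩ := M.emb.choose_spec.2.split m ⟨hm.mem_G, hF⟩
  have h4 : u = 1 := by
    refine opp D ⟨_, hm⟩ hm.pr_eq hu.1 ?_
    have h5 : u * ι x = ι x * u := by
      have h6 := hc _ ⟨x, rfl⟩
      rw [h1, mul_assoc u, ← h2 _ (md_mem M x).1, ← mul_assoc, ← mul_assoc] at h6
      exact (mul_right_cancel h6).symm
    have h6 := D.conj_mem_U_of_T (inv_mem ht'.1) hu.1
    rwa [h3, show (ι x * t')⁻¹ * u * (ι x * t') = t'⁻¹ * ((ι x)⁻¹ * (u * ι x)) * t'⁻¹⁻¹ by group, h5,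
      inv_mul_cancel_left]
  rwa [h1, h4, one_mul]

theorem center_of_cen (M : Md D ι pr) {s : X} (hs : Cen G (ι s)) : s ∈ center X :=
  mem_center_iff.2 fun x => md_inj M (by rw [map_mul, map_mul, hs _ (md_mem M x).1])

theorem md_cx (M : Md D ι pr) : Cx D ι.range (prK M) where
  qs := M.good.qs
  le := M.emb.choose_spec.2.range_le
  U_le _ := md_U M
  surj s := by
    obtain ⟨x, rfl⟩ := M.surj s
    exact ⟨⟨ι x, x, rfl⟩, prK_apply M x _⟩
  ker := by
    rintro ⟨y, hy⟩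
    obtain ⟨x, rfl⟩ := id hy
    rw [prK_apply, M.ker]
    exact ⟨cen_of_center M, center_of_cen M⟩

theorem md_finX (M : Md D ι pr) : Finite X :=
  have := (md_cx M).finK
  Finite.of_equiv _ (MonoidHom.ofInjective (md_inj M)).symm.toEquiv

theorem pr_eq_iff (M : Md D ι pr) (x y : X) : pr x = pr y ↔ Cen G ((ι x)⁻¹ * ι y) := by
  rw [← inv_mul_eq_one, ← map_inv, ← map_mul, M.ker, ← map_inv, ← map_mul]
  exact ⟨cen_of_center M, center_of_cen M⟩

/-- the Sylow subgroup of the model -/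
noncomputable def mdQ (M : Md D ι pr) : Sylow 2 S := (md_cx M).Q

theorem mem_mdQ (M : Md D ι pr) {s : S} : s ∈ (mdQ M : Subgroup S) ↔ ∃ x, ι x ∈ D.U ∧ pr x = s := by
  constructor
  · rintro ⟨⟨_, x, rfl⟩, h1, rfl⟩
    exact ⟨x, h1, (prK_apply M x _).symm⟩
  · rintro ⟨x, h1, rfl⟩
    exact ⟨⟨ι x, x, rfl⟩, h1, prK_apply M x _⟩

theorem md_noC (M : Md D ι pr) : NoC S := (md_cx M).noC

variable {α β : MulAut Y} {a b : MulAut S} {A B : Matrix D.R D.R ℤ} {π : Equiv.Perm D.I} {ε : D.I → ℕ}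

theorem ind_K (M : Md D ι pr) (h : C2.Ind ι pr α a) : Two.Ind (prK M) α a := by
  rintro ⟨z, hz⟩
  obtain ⟨x, rfl⟩ := id hz
  obtain ⟨y, h1, h2⟩ := h x
  refine ⟨⟨y, h1.symm⟩, ?_⟩
  rw [prK_apply, h2, ← prK_apply M y ⟨y, rfl⟩]
  exact congrArg _ (Subtype.ext h1.symm)

theorem map_mdQ (M : Md D ι pr) (hα : Au D α A) (h : C2.Ind ι pr α a) :
    ∀ q ∈ (mdQ M : Subgroup S), a q ∈ (mdQ M : Subgroup S) :=
  (md_cx M).map_Q (ind_K M h) fun u hu => (hα.memU u).2 hu

theorem ind_one : C2.Ind ι pr 1 1 := fun s => ⟨s, rfl, rfl⟩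

theorem ind_mul (h : C2.Ind ι pr α a) (h' : C2.Ind ι pr β b) : C2.Ind ι pr (α * β) (a * b) := fun s => by
  obtain ⟨s', h1, h2⟩ := h' s
  obtain ⟨s'', h3, h4⟩ := h s'
  exact ⟨s'', by rw [MulAut.mul_apply, h1, h3], by rw [MulAut.mul_apply, h2, h4]⟩

theorem ind_pow (h : C2.Ind ι pr α a) (n : ℕ) : C2.Ind ι pr (α ^ n) (a ^ n) := by
  induction n with
  | zero => simpa using ind_one
  | succ n ih =>
    rw [pow_succ, pow_succ]
    exact ind_mul ih h

theorem ind_eq (M : Md D ι pr) (h : C2.Ind ι pr α a) (h' : C2.Ind ι pr β b) (e : ∀ s, α (ι s) = β (ι s)) : a = b := by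
  ext s
  obtain ⟨s, rfl⟩ := M.surj s
  obtain ⟨x, h1, h2⟩ := h s
  obtain ⟨y, h3, h4⟩ := h' s
  rw [h2, h4, md_inj M (h1.symm.trans ((e s).trans h3))]

theorem exists_ind (M : Md D ι pr) (h : ∀ s, α (ι s) ∈ ι.range) : ∃ a, C2.Ind ι pr α a := by
  have := md_finX M
  have := (md_cx M).finS
  choose f hf using h
  have h1 : ∀ x y, f (x * y) = f x * f y := fun x y => md_inj M (by simp only [map_mul, hf])
  have h2 : Function.Surjective f := Finite.injective_iff_surjective.1 fun x y e =>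
    md_inj M (α.injective (by rw [← hf, ← hf, e]))
  have h3 : pr.ker ≤ (pr.comp (MonoidHom.mk' f h1)).ker := fun s hs => (M.ker _).2 (mem_center_iff.2 fun x => by
    obtain ⟨x, rfl⟩ := h2 x
    show f x * f s = f s * f x
    rw [← h1, ← h1, mem_center_iff.1 ((M.ker s).1 hs) x])
  set g := pr.liftOfRightInverse (Function.surjInv M.surj) (Function.rightInverse_surjInv M.surj) ⟨_, h3⟩ with hg
  have h4 : ∀ x, g (pr x) = pr (f x) := fun x => MonoidHom.liftOfRightInverse_comp_apply _ _ _ _ x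
  have h5 : Function.Surjective g := fun s => by
    obtain ⟨x, rfl⟩ := M.surj s
    obtain ⟨x, rfl⟩ := h2 x
    exact ⟨pr x, h4 x⟩
  exact ⟨MulEquiv.ofBijective g (Finite.surjective_iff_bijective.1 h5), fun s => ⟨f s, (hf s).symm, h4 s⟩⟩

/-! ### outer automorphisms -/

theorem kap_inner (M : Md D ι pr) (hZ : center S = ⊥) (hα : Au D α A) (h : C2.Ind ι pr α a) (hi : Inner a)
    (h2 : a ^ 2 = 1) {v : Y} (hv : v ∈ D.U ⊓ GF F G) (i : D.I) : kap D i (α v) = kap D i v :=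
  (md_cx M).kap_of_inner hZ (ind_K M h) (fun u hu => (hα.memU u).2 hu) hi (n := 1) h2 hv i

theorem exists_kap_mul (h : D.QS) : ∃ c : D.I → kˣ, ∀ s : D.I → k, FixT D.σ (fun i => D.ex (sr i)) s →
    ∃ v ∈ D.U ⊓ GF F G, ∀ i, kap D i v = c i * s i := by
  obtain ⟨c, hc⟩ := exists_fix_unit h
  exact ⟨c, fun s hs => exists_kap_fix h fun i => by rw [hc, hs i, mul_pow]; simp [mul_assoc]⟩

theorem not_inner_graph (M : Md D ι pr) (hZ : center S = ⊥) (hα : Sym D α A π ε) (h : C2.Ind ι pr α a)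
    (h2 : a ^ 2 = 1) (hσ : D.σ = 1) (hπ : π ≠ 1) : ¬ Inner a := by
  intro hi
  obtain ⟨j, hj⟩ : ∃ j, π j ≠ j := not_forall.1 fun h3 => hπ (Equiv.ext h3)
  obtain ⟨c, hc⟩ := exists_kap_mul M.good.qs
  obtain ⟨v, hv, h3⟩ := hc (Pi.single j 1) fun i => by
    rw [hσ, Equiv.Perm.one_apply, Pi.single_apply]
    split_ifs <;> simp
  obtain ⟨d, hd, h4⟩ := hα.kap j
  have h5 := kap_inner M hZ hα.au h hi h2 hv (π j)
  rw [h4 v hv.1, h3, h3, Pi.single_eq_same, Pi.single_eq_of_ne hj] at h5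
  simp [hd] at h5

theorem exists_fixT {I : Type} [DecidableEq I] (σ : Equiv.Perm I) (j : I) {e l : ℕ} (hl : l ≠ 0)
    (hj : Function.minimalPeriod σ j = l) {y : k} (hy : y ^ 2 ^ (l * e) = y) :
    ∃ s : I → k, FixT σ (fun _ => e) s ∧ s j = y := by
  have := fact2
  refine ⟨fun i => ∑ m ∈ Finset.range l, if σ^[m] j = i then y ^ 2 ^ (m * e) else 0, fun i => ?_, ?_⟩
  · have h1 := Finset.sum_range_succ' (fun m => if σ^[m] j = σ i then y ^ 2 ^ (m * e) else 0) l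
    rw [Finset.sum_range_succ, ← hj, Function.iterate_minimalPeriod, hj, hy] at h1
    simp only [Function.iterate_zero, id, zero_mul, pow_zero, pow_one] at h1
    show ∑ m ∈ Finset.range l, _ = (∑ m ∈ Finset.range l, _) ^ 2 ^ e
    rw [add_right_cancel h1, sum_pow_char_pow]
    refine Finset.sum_congr rfl fun m _ => ?_
    simp only [Function.iterate_succ_apply', EmbeddingLike.apply_eq_iff_eq]
    split_ifs
    · rw [← pow_mul, ← pow_add, add_mul, one_mul]
    · rw [zero_pow (by positivity)]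
  · show ∑ m ∈ Finset.range l, _ = y
    rw [Finset.sum_eq_single 0 (fun m hm h0 => if_neg fun h1 => ?_) (by simp [hl])]
    · simp
    · have h2 := Function.IsPeriodicPt.minimalPeriod_le (Nat.pos_of_ne_zero h0) h1
      have h3 := Finset.mem_range.1 hm
      omega

theorem exists_not_pow {i n : ℕ} (hi : 0 < i) (hin : i < n) : ∃ y : k, y ^ 2 ^ n = y ∧ y ^ 2 ^ i ≠ y := by
  have := fact2
  by_contra h
  push Not at h
  have h1 : Finite {a : k // a ^ 2 ^ i = a} := (finite_pow_eq hi).to_subtype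
  have h2 := Nat.card_le_card_of_injective (fun y : {a : k // a ^ 2 ^ n = a} => (⟨y.1, h _ y.2⟩ : {a : k // a ^ 2 ^ i = a}))
    fun x y e => Subtype.ext (congrArg (·.1) e)
  rw [card_pow_eq hi, card_pow_eq (hi.trans hin)] at h2
  exact absurd (Nat.pow_lt_pow_right one_lt_two hin) (not_lt.2 h2)

theorem not_inner_field (M : Md D ι pr) (hZ : center S = ⊥) {i : ℕ} (hα : Sym D α A 1 fun _ => i)
    (h : C2.Ind ι pr α a) (h2 : a ^ 2 = 1) {e l : ℕ} (j : D.I) (he : ∀ i, D.ex (sr i) = e)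
    (hj : Function.minimalPeriod D.σ j = l) (hi : 0 < i) (hin : i < l * e) : ¬ Inner a := by
  intro hin'
  obtain ⟨c, hc⟩ := exists_kap_mul M.good.qs
  obtain ⟨d, -, h4⟩ := hα.kap j
  have key : ∀ y : k, y ^ 2 ^ (l * e) = y → d * (c j * y) ^ 2 ^ i = c j * y := fun y hy => by
    obtain ⟨s, h5, rfl⟩ := exists_fixT D.σ j (by rintro rfl; simp at hin) hj hy
    obtain ⟨v, hv, h3⟩ := hc s (by simpa only [he] using h5)
    have h6 := kap_inner M hZ hα.au h hin' h2 hv j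
    rwa [show kap D j (α v) = _ from h4 v hv.1, h3] at h6
  obtain ⟨y, hy, h5⟩ := exists_not_pow (k := k) hi hin
  have h6 := key 1 (one_pow _)
  have h7 := key y hy
  rw [mul_one] at h6
  rw [mul_pow, ← mul_assoc, h6] at h7
  exact h5 (mul_left_cancel₀ (c j).ne_zero h7)

/-! ### the four boxes -/

theorem sym_pow {c : ℕ} (h : Sym D α A 1 fun _ => c) (n : ℕ) : Sym D (α ^ n) (A ^ n) 1 fun _ => c * n := by
  induction n with
  | zero => simpa using Sym.one
  | succ n ih => simpa [pow_succ, mul_add, add_comm] using ih.mul h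

theorem out_dvd [Finite S] (hZ : center S = ⊥) {n m : ℕ} (h : Nat.card (MulAut S) = Nat.card S * n * m) :
    n ≠ 0 ∧ Nat.card (Out S) ∣ n * m := by
  refine ⟨fun h0 => ?_, ?_⟩
  · rw [h0, mul_zero, zero_mul] at h
    exact Nat.card_pos.ne' h
  · rw [card_out hZ, mul_assoc, mul_comm] at h
    rw [Nat.eq_of_mul_eq_mul_left Nat.card_pos h]

theorem exists_nat_pow [Finite S] {x : MulAut S} (h : x ∈ zpowers a) : ∃ n : ℕ, x = a ^ n :=
  let ⟨n, hn⟩ := (isOfFinOrder_of_finite a).mem_powers_iff_mem_zpowers.2 h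
  ⟨n, hn.symm⟩

theorem box0 (H : GenBox) : Box0 := by
  intro k _ _ Y _ N _ _ ρ F G _ D X S _ _ _ ι pr r P hZ hS ⟨m, hm, h⟩
  refine H hZ hS ⊥ (fun a ha => ⟨1, 1, 1, _, Sym.one, mem_bot.1 ha ▸ ind_one, fun _ => ⟨rfl, rfl⟩, fun _ => Iff.rfl⟩) ?_
  rw [outOf, Subgroup.map_bot, index_bot]
  exact Odd.of_dvd_nat hm (one_mul m ▸ (out_dvd hZ (n := 1) (by rwa [mul_one])).2)

theorem box1 (H : GenBox) : Box1 := by
  intro k _ _ Y _ N _ _ ρ F G _ D X S _ _ _ ι pr r P hZ hS φ A hφ hr e l j he hj h1 ⟨m, hm, h⟩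
  obtain ⟨a, ha⟩ := exists_ind hS.md hr
  obtain ⟨hn, hd⟩ := out_dvd hZ h
  have h2 : a ^ (l * e) = 1 := ind_eq hS.md (ind_pow ha _) ind_one h1
  refine H hZ hS (zpowers a) (fun x hx => ?_) (odd_index_one hn h2 hm hd fun i hi => ?_)
  · obtain ⟨n, rfl⟩ := exists_nat_pow hx
    exact ⟨_, _, _, _, sym_pow hφ n, ind_pow ha n, fun _ => ⟨rfl, rfl⟩, fun _ => Iff.rfl⟩
  · exact not_inner_field hS.md hZ (sym_pow hφ i) (ind_pow ha i) (by rw [← pow_mul, mul_comm, hi, h2]) j he hj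
      (by omega) (by omega)

theorem box2 (H : GenBox) : Box2 := by
  intro k _ _ Y _ N _ _ ρ F G _ D X S _ _ _ ι pr P hZ hS φ ψ A B π hφ hψ hr hr' hc hsq hππ hπ hP e hσ he h1 ⟨m, hm, h⟩
  obtain ⟨a, ha⟩ := exists_ind hS.md hr
  obtain ⟨b, hb⟩ := exists_ind hS.md hr'
  obtain ⟨hn, hd⟩ := out_dvd hZ h
  obtain ⟨e, rfl⟩ := Nat.exists_eq_succ_of_ne_zero (n := e) (by omega)
  have h2 : a ^ (e + 1) = 1 := ind_eq hS.md (ind_pow ha _) ind_one h1
  have h3 : Commute a b := ind_eq hS.md (ind_mul ha hb) (ind_mul hb ha) fun s => by rw [hc.eq]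
  have h4 : b ^ 2 = a ^ 2 := ind_eq hS.md (ind_pow hb 2) (ind_pow ha 2) fun s => by rw [hsq]
  have h5 : ∀ n, 2 * n % (e + 1) = 2 * e % (e + 1) → (a ^ n * b) ^ 2 = 1 := fun n hn => by
    rw [(h3.pow_left n).mul_pow, h4, ← pow_mul, mul_comm n, pow_eq_pow_mod _ h2, hn, ← pow_eq_pow_mod _ h2, ← pow_add,
      show 2 * e + 2 = (e + 1) * 2 by ring, pow_mul, h2, one_pow]
  have h6 : ∀ n, Sym D (φ ^ n * ψ) (A ^ n * B) π fun _ => 1 + 1 * n := fun n => by
    simpa only [one_mul π] using (sym_pow hφ n).mul hψ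
  have h7 : ∀ n, 2 * n % (e + 1) = 2 * e % (e + 1) → ¬ Inner (a ^ n * b) := fun n hn =>
    not_inner_graph hS.md hZ (h6 n) (ind_mul (ind_pow ha n) hb) (h5 n hn) hσ hπ
  have h8 : Commute a (a ^ e * b) := ((Commute.refl a).pow_right e).mul_right h3
  refine H hZ hS (closure {a, a ^ e * b}) (fun x hx => ?_)
    (odd_index_two e.succ_ne_zero h2 (h5 e rfl) h8 hm hd (h7 e rfl) fun i hi => ⟨?_, ?_⟩)
  · obtain ⟨n, rfl | rfl⟩ := mem_closure_two e.succ_ne_zero h2 (h5 e rfl) h8 hx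
    · exact ⟨_, _, _, _, sym_pow hφ n, ind_pow ha n, fun _ => ⟨rfl, rfl⟩, fun _ => Iff.rfl⟩
    · rw [← mul_assoc, ← pow_add]
      exact ⟨_, _, _, _, h6 _, ind_mul (ind_pow ha _) hb, fun i => ⟨congrFun (congrArg DFunLike.coe hππ) i, rfl⟩, hP⟩
  · obtain ⟨j, -⟩ : ∃ j, π j ≠ j := not_forall.1 fun h9 => hπ (Equiv.ext h9)
    exact not_inner_field hS.md hZ (sym_pow hφ i) (ind_pow ha i) (by rw [← pow_mul, mul_comm, hi, h2]) (l := 1) j he
      (by rw [hσ]; exact Function.minimalPeriod_id) (by omega) (by omega)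
  · rw [← mul_assoc, ← pow_add]
    exact h7 _ (by rw [mul_add, hi, Nat.succ_eq_add_one, Nat.add_mod_left])

theorem box3 (H : GenBox) : Box3 := by
  intro k _ _ Y _ N _ _ ρ F G _ D X S _ _ _ ι pr π P hZ hS ψ B ε hψ hr hππ hπ hε hP e hσ he h1 ⟨m, hm, h⟩
  obtain ⟨b, hb⟩ := exists_ind hS.md hr
  obtain ⟨hn, hd⟩ := out_dvd hZ h
  have h0 : ∀ i, π (π i) = i := fun i => congrFun (congrArg DFunLike.coe hππ) i
  have h2 : b ^ (2 * e) = 1 := ind_eq hS.md (ind_pow hb _) ind_one h1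
  have h3 : Sym D (ψ ^ 2) (B * B) 1 fun _ => 1 := by simpa only [hππ, hε, sq] using hψ.mul hψ
  have h4 : ∀ n, Sym D (ψ ^ (2 * n)) ((B * B) ^ n) 1 fun _ => 1 * n := fun n => by
    rw [pow_mul]
    exact sym_pow h3 n
  have h5 : ∀ n, Sym D (ψ ^ (2 * n + 1)) ((B * B) ^ n * B) π fun i => ε i + 1 * n := fun n => by
    simpa only [one_mul π, pow_succ] using (h4 n).mul hψ
  refine H hZ hS (zpowers b) (fun x hx => ?_) (odd_index_one hn h2 hm hd fun i hi => ?_)
  · obtain ⟨n, rfl⟩ := exists_nat_pow hx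
    obtain ⟨n, rfl | rfl⟩ := Nat.even_or_odd' n
    · exact ⟨_, _, _, _, h4 n, ind_pow hb _, fun _ => ⟨rfl, rfl⟩, fun _ => Iff.rfl⟩
    · exact ⟨_, _, _, _, h5 n, ind_pow hb _, fun i => ⟨h0 _, by simp only [h0]⟩, hP⟩
  · have h6 : (b ^ i) ^ 2 = 1 := by rw [← pow_mul, mul_comm, hi, h2]
    obtain ⟨n, rfl | rfl⟩ := Nat.even_or_odd' i
    · obtain ⟨j, -⟩ : ∃ j, π j ≠ j := not_forall.1 fun h9 => hπ (Equiv.ext h9)
      exact not_inner_field hS.md hZ (h4 n) (ind_pow hb _) h6 (l := 1) j he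
        (by rw [hσ]; exact Function.minimalPeriod_id) (by omega) (by omega)
    · exact not_inner_graph hS.md hZ (h5 n) (ind_pow hb _) h6 hσ hπ

/-- **the four boxes from the generic theorem** -/
theorem boxes_of (H : GenBox) : Boxes := ⟨box0 H, box1 H, box2 H, box3 H⟩

end Cfsg.Agent.GAL.Two
end

-- part: GAL/Two/Dda
section
prune_inst 0x4010000
set_option linter.all false
open scoped Cfsg.Agent.FastGrp

/-!
# S4617 / S4618, characteristic 2: `DDA` in coordinates (helper10, GAL)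

* `cot D x` : the element `∏ α_i^∨ (x i)` of the torus;
* `XA D ι pr r P A x` : `x` is fixed by `F` and by `A`;
* `dda_iff` : `DDA Q A` holds iff all `x` in `XA` are central; `XA.eq_one` : with `Sep` they are then trivial.
-/

set_option autoImplicit false
set_option linter.unusedSectionVars false

namespace Cfsg.Agent.GAL.Two

open Cfsg Subgroup Cfsg.Agent.GAL.Nrm Cfsg.Agent.DL Cfsg.Agent.DL.PP Cfsg.Agent.DL.St Cfsg.Agent.Tits.Roots
  Cfsg.Agent.GAL.C2 Cfsg.Agent.ChevalleyStructure.CoxeterGeom Matrix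
open scoped commutatorElement

variable {k : Type} [Field k] [CharP k 2] {Y : Type} [Group Y] {N : Type} [Fintype N] [DecidableEq N]
  {ρ : Y →* GL N k} {F : MulAut Y} {G : Subgroup Y} [IsAlgClosed k] {D : Datum 2 ρ F G}
  {X S : Type} [Group X] [Group S] {ι : X →* Y} {pr : X →* S}
  {α β : MulAut Y} {a : MulAut S} {M : Matrix D.R D.R ℤ} {π : Equiv.Perm D.I} {ε : D.I → ℕ}

variable (D) in
/-- the coordinates of `∏ α_i^∨ (x i)` -/
def cot (x : D.I → kˣ) : D.R → kˣ := ∏ i, coch (D.cw i) (x i)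

theorem chr_cot (η : D.R → ℤ) (x : D.I → kˣ) : chr η (cot D x) = chr (fun i => η ⬝ᵥ D.cw i) x := by
  rw [cot, map_prod, chr_apply]
  exact Finset.prod_congr rfl fun i _ => chr_coch _ _ _

theorem chr_wt_cot (j : D.I) (x : D.I → kˣ) : chr (D.wt (sr j)) (cot D x) = chr (fun i => D.A i j) x := by
  rw [chr_cot]
  congr 2
  funext i
  exact (D.pair i (sr j)).trans ((pairing_single D.A i j 1).trans (mul_one _))

theorem τ_coch_mem (i : D.I) (u : kˣ) : D.τ (coch (D.cw i) u) ∈ Gd D := by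
  obtain ⟨c₁, c₂, -, -, t₀, -, h⟩ := D.rank_one i
  have h1 : ∀ {b : D.I → ℤ}, D.Rt b → ∀ c, D.x b c ∈ Gd D := fun hb c => Nodes.BNOf.RGD.le_Sup hb (D.x_mem hb c)
  have hi := isRoot_sr D.cs D.h i
  have h2 : ∀ v : kˣ, D.τ (coch (D.cw i) v⁻¹) * t₀ * D.n i ∈ Gd D := fun v => by
    have h3 := mul_mem (mul_mem (inv_mem (h1 hi (c₁ * (v⁻¹ : kˣ)))) (h1 hi.neg v)) (inv_mem (h1 hi (c₂ * (v⁻¹ : kˣ))))
    rwa [h v, mul_assoc, mul_assoc, mul_inv_cancel, mul_one, mul_assoc, inv_mul_cancel_left] at h3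
  have h3 := mul_mem (h2 u⁻¹) (inv_mem (h2 1))
  rwa [inv_inv, inv_one, map_one, map_one, one_mul, mul_assoc _ t₀, mul_inv_cancel_right] at h3

theorem τ_cot_mem (x : D.I → kˣ) : D.τ (cot D x) ∈ Gd D :=
  Subgroup.prod_mem ((Gd D).comap D.τ) fun i _ => τ_coch_mem i (x i)

theorem mon_cot (h : Sym D α M π ε) (x : D.I → kˣ) :
    mon M (cot D x) = cot D fun i => x (π.symm i) ^ 2 ^ ε (π.symm i) := by
  rw [cot, cot, map_prod, ← Equiv.prod_comp π fun i => coch (D.cw i) _]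
  refine Finset.prod_congr rfl fun i _ => ?_
  rw [mon_coch, h.cw, coch_zsmul, Equiv.symm_apply_apply]
  norm_cast

theorem fixT_iff {x : D.I → kˣ} : FixT π ε (fun i => (x i : k)) ↔ (fun i => x (π.symm i) ^ 2 ^ ε (π.symm i)) = x := by
  constructor
  · refine fun h => funext fun i => Units.ext ?_
    have h1 := h (π.symm i)
    simp only [Equiv.apply_symm_apply] at h1
    rw [h1, Units.val_pow_eq_pow_val]
  · intro h i
    have h1 := congrFun h (π i)
    simp only [Equiv.symm_apply_apply] at h1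
    simp only [← h1, Units.val_pow_eq_pow_val]

theorem fix_cot (h : Sym D α M π ε) {x : D.I → kˣ} (hx : FixT π ε fun i => (x i : k)) :
    α (D.τ (cot D x)) = D.τ (cot D x) := by rw [h.au.tau, mon_cot h, fixT_iff.1 hx]

theorem chr_wt_mon (h : Sym D α M π ε) (c : D.R → kˣ) (i : D.I) :
    chr (D.wt (sr (π i))) (mon M c) = chr (D.wt (sr i)) c ^ 2 ^ ε i := by
  rw [chr_mon, h.wt, chr_zsmul]
  norm_cast

theorem cen_τ_iff {c : D.R → kˣ} : Cen G (D.τ c) ↔ ∀ j, chr (D.wt (sr j)) c = 1 := by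
  simp only [cen_iff_chi (D.τ_mem c), D.χ_τ, Units.val_eq_one]

theorem chr_mon_of_fix (Md : Md D ι pr) (h : Au D α M) (hi : C2.Ind ι pr α a) {s : X} {c : D.R → kˣ}
    (hs : ι s = D.τ c) (ha : a (pr s) = pr s) (j : D.I) : chr (D.wt (sr j)) (mon M c) = chr (D.wt (sr j)) c := by
  obtain ⟨s', h1, h2⟩ := hi s
  have h3 := (pr_eq_iff Md s s').1 (ha.symm.trans h2)
  rw [← h1, hs, h.tau, ← map_inv, ← map_mul, cen_τ_iff] at h3
  have h4 := h3 j
  rw [map_mul, map_inv, inv_mul_eq_one] at h4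
  exact h4.symm

/-- for perfect `X` the automorphism of `X` is determined by the induced automorphism of `S` -/
theorem ind_unique (Md : Md D ι pr) (hp : commutator X = ⊤) (h : C2.Ind ι pr α a) (h' : C2.Ind ι pr β a) (s : X) :
    α (ι s) = β (ι s) := by
  have h1 : ∀ x, ∃ y z, α (ι x) = ι y ∧ β (ι x) = ι y * ι z ∧ z ∈ center X := fun x => by
    obtain ⟨y, h1, h2⟩ := h x
    obtain ⟨y', h3, h4⟩ := h' x
    refine ⟨y, y⁻¹ * y', h1, by rw [h3, ← map_mul, mul_inv_cancel_left], (Md.ker _).1 ?_⟩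
    rw [map_mul, map_inv, ← h2, ← h4, inv_mul_cancel]
  have h2 : commutator X ≤ (α.toMonoidHom.comp ι).eqLocus (β.toMonoidHom.comp ι) := by
    rw [commutator_eq_closure, closure_le]
    rintro _ ⟨x, y, rfl⟩
    obtain ⟨x', z, h3, h4, h5⟩ := h1 x
    obtain ⟨y', w, h6, h7, h8⟩ := h1 y
    show α (ι ⁅x, y⁆) = β (ι ⁅x, y⁆)
    rw [map_commutatorElement, map_commutatorElement, map_commutatorElement, h3, h4, h6, h7, ← map_mul, ← map_mul,
      ← map_commutatorElement, ← map_commutatorElement]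
    congr 1
    have h9 := fun g => mem_center_iff.1 h5 g
    have h10 := fun g => mem_center_iff.1 h8 g
    rw [commutatorElement_def, commutatorElement_def, mul_assoc x' z, ← h9, ← mul_assoc x', _root_.mul_inv_rev x' z,
      ← mul_assoc _ z⁻¹, mul_inv_cancel_right, ← mul_assoc x', mul_assoc _ w, ← h10, ← mul_assoc, _root_.mul_inv_rev y' w,
      ← mul_assoc, mul_inv_cancel_right]
  exact h2 (hp ▸ mem_top s)

variable (D ι pr) in
/-- the points which are fixed by `F` and by `A` -/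
def XA (r : Equiv.Perm D.I) (P : D.I → Prop) (A : Subgroup (MulAut S)) (x : D.I → kˣ) : Prop :=
  FixT D.σ (fun i => D.ex (sr i)) (fun i => (x i : k)) ∧ ∀ a ∈ A, ∀ α M π ε, Sym D α M π ε → C2.Ind ι pr α a →
    Cr r π ε → (∀ i, P (π i) ↔ P i) → FixT π ε fun i => (x i : k)

variable {r : Equiv.Perm D.I} {P : D.I → Prop} {A : Subgroup (MulAut S)}

theorem fixT_ite {I : Type} {π : Equiv.Perm I} {ε : I → ℕ} {x : I → kˣ} (h : FixT π ε fun i => (x i : k))
    {P : I → Prop} [DecidablePred P] (hP : ∀ i, P (π i) ↔ P i) :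
    FixT π ε fun i => ((if P i then x i else 1 : kˣ) : k) := fun i => by
  by_cases h1 : P i
  · simpa only [if_pos h1, if_pos ((hP i).2 h1)] using h i
  · simp only [if_neg h1, if_neg (mt (hP i).1 h1), Units.val_one, one_pow]

/-- with `Sep`, if all points of `XA` are central, they are trivial -/
theorem XA.eq_one (hs : Sep k D.A P) (hst : ∀ i, P (D.σ i) ↔ P i)
    (h : ∀ x, XA D ι pr r P A x → ∀ j, chr (fun i => D.A i j) x = 1) {x : D.I → kˣ} (hx : XA D ι pr r P A x) :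
    x = 1 := by
  classical
  have h1 := hs.t1 _ (h (fun i => if P i then x i else 1) ⟨fixT_ite hx.1 hst, fun a ha α M π ε h1 h2 h3 h4 =>
    fixT_ite (hx.2 a ha α M π ε h1 h2 h3 h4) h4⟩) fun i hi => if_neg hi
  have h2 := hs.t0 _ (h (fun i => if ¬ P i then x i else 1) ⟨fixT_ite hx.1 fun i => (hst i).not,
    fun a ha α M π ε h1 h2 h3 h4 => fixT_ite (hx.2 a ha α M π ε h1 h2 h3 h4) fun i => (h4 i).not⟩)
    fun i hi => if_neg (not_not.2 hi)
  funext i
  by_cases hi : P i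
  · simpa only [if_pos hi] using congrFun h1 i
  · simpa only [if_pos hi] using congrFun h2 i

/-- **`DDA` in coordinates** -/
theorem dda_iff (hS : Sit D ι pr r P) (h2 : IsPGroup 2 A) (hA : ∀ a ∈ A, Al D ι pr r P a) :
    DDA (mdQ hS.md) A ↔ ∀ x, XA D ι pr r P A x → ∀ j, chr (fun i => D.A i j) x = 1 := by
  have hF := Sym.self hS.md.good.qs
  rw [mdQ, (md_cx hS.md).dda_iff' fun a ha => by
    obtain ⟨α, M, π, ε, h1, h3, -⟩ := hA a ha
    exact ⟨α, ind_K hS.md h3, fun u hu => (h1.au.memU u).2 hu, fun t ht => (h1.au.memT t).2 ht⟩]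
  constructor
  · intro h x hx j
    obtain ⟨s, hs⟩ := hS.md.sc _ ⟨D.T_le_G (D.τ_mem _), fix_cot hF hx.1⟩ (τ_cot_mem x)
    have h0 : ι s ∈ D.T := hs ▸ D.τ_mem _
    have h1 : Cen G (ι s) := h ⟨ι s, s, rfl⟩ h0 fun a ha => by
      obtain ⟨α, M, π, ε, h1, h3, h4, h5⟩ := hA a ha
      obtain ⟨s', h6, h7⟩ := h3 s
      rw [hs, fix_cot h1 (hx.2 a ha α M π ε h1 h3 h4 h5), ← hs] at h6
      rw [← md_inj hS.md h6] at h7
      exact (congrArg a (prK_apply hS.md s _)).trans (h7.trans (prK_apply hS.md s _).symm)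
    rw [← chr_wt_cot]
    exact cen_τ_iff.1 (hs ▸ h1) j
  · rintro h ⟨t, ht'⟩ ht h1
    obtain ⟨s, rfl⟩ := id ht'
    obtain ⟨c, hc⟩ := (D.mem_T (ι s)).1 ht
    simp only [prK_apply] at h1
    show Cen G (ι s)
    rw [← hc, cen_τ_iff]
    have hcF : mon D.Mx c = c := D.τ_inj (by rw [← D.F_τ, hc]; exact (md_mem hS.md s).2)
    rcases hS.br with hs | ⟨-, hd⟩
    · have h3 := XA.eq_one hs hS.st h (x := fun i => chr (D.wt (sr i)) c) ⟨fun i => ?_, fun a ha α M π ε h3 h4 _ _ i => ?_⟩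
      · exact congrFun h3
      · show ((chr _ c : kˣ) : k) = _
        rw [← Units.val_pow_eq_pow_val, ← chr_wt_mon hF, hcF]
      · show ((chr _ c : kˣ) : k) = _
        rw [← Units.val_pow_eq_pow_val, ← chr_wt_mon h3, chr_mon_of_fix hS.md h3.au h4 hc.symm (h1 a ha)]
    · obtain ⟨δ, ν, v, ω, m, -, h3, h4, -, h5, h6⟩ := hd.ex
      have := fact2
      have := (md_cx hS.md).finS
      have := Fintype.ofFinite A
      choose α M π ε hα hi _ using fun a : A => hA a a.2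
      set c' := ∏ a : A, mon (M a) c with hc'
      have h7 : ∀ a : A, D.τ (mon (M a) c) ∈ ι.range := fun a => by
        obtain ⟨s', h7, -⟩ := hi a s
        exact ⟨s', by rw [← h7, ← hc, (hα a).au.tau]⟩
      have h8 : D.τ c' ∈ ι.range := Subgroup.prod_mem (ι.range.comap D.τ) fun a _ => h7 a
      have h9 : D.τ c' ∈ GF F G := (md_cx hS.md).le h8
      have h10 : chr ν c' = 1 := by rw [← h3]; exact (h4 _ h9).1 h8
      set x : D.I → kˣ := fun i => chr (ω i) c' with hx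
      have h11 : cot D x = c' := funext fun b => by
        rw [← chr_single b (cot D x), chr_cot, chr_apply]
        simp only [hx, ← chr_zsmul, ← chr_sum]
        rw [← mul_one (chr _ c'), ← _root_.one_zpow (v b), ← h10, ← chr_zsmul, ← chr_add, ← chr_single b c']
        congr 2
        funext a'
        simp only [Pi.add_apply, Finset.sum_apply, Pi.smul_apply, smul_eq_mul, single_dotProduct, one_mul,
          Pi.single_apply, ← h6 a' b, mul_comm]
      have h12 : ∀ y, (fun i => chr (ω i) (cot D y)) = y := fun y => funext fun i => by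
        rw [chr_cot, ← chr_single i y]
        congr 2
        funext j
        rw [h5, Pi.single_apply]
        simp only [eq_comm]
      have h13 : ∀ {β : MulAut Y} {B π' ε'}, Sym D β B π' ε' → mon B c' = c' → FixT π' ε' fun i => (x i : k) :=
        fun hβ hB => fixT_iff.2 (by rw [← h12 fun i => _ ^ _, ← mon_cot hβ, h11, hB])
      have h14 := h x ⟨h13 hF (D.τ_inj (by rw [← D.F_τ]; exact h9.2)), fun b hb β B π' ε' hβ hb' _ _ => h13 hβ (by
        rw [hc', map_prod, ← Equiv.prod_comp (Equiv.mulLeft (⟨b, hb⟩ : A)) fun a => mon (M a) c]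
        refine Finset.prod_congr rfl fun a _ => D.τ_inj ?_
        rw [← hβ.au.tau, ← (hα a).au.tau, ← (hα _).au.tau, hc]
        exact ind_unique hS.md hd.perf (ind_mul hb' (hi a)) (hi _) s)⟩
      intro j
      have h15 := h14 j
      rw [← chr_wt_cot, h11, hc', map_prod, Finset.prod_congr rfl fun a _ =>
        chr_mon_of_fix hS.md (hα a).au (hi a) hc.symm (h1 a a.2) j, Finset.prod_const, Finset.card_univ] at h15
      obtain ⟨n, hn⟩ := h2.exists_card_eq
      rw [← Nat.card_eq_fintype_card, hn] at h15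
      exact C2.eq_one_of_pow h15

end Cfsg.Agent.GAL.Two

private theorem dce_214e5a7670c7 : _root_.True := by
  try have : _root_.True := by simp only [_root_.Cfsg.Agent.GAL.Two.mdQ.eq_1]
  try have : _root_.True := by simp only [_root_.Cfsg.Agent.GAL.Two.prK.congr_simp]
  try have : _root_.True := by simp only [_root_.Cfsg.Agent.GAL.Two.cot.eq_1]
  exact _root_.True.intro
end

-- part: GAL/Two/Kp
section
prune_inst 0x4010000
set_option linter.all false
open scoped Cfsg.Agent.FastGrp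

/-!
# S4617 / S4618, characteristic 2: from `S` to `G^F` and back (helper10, GAL)

`kp M : G^F →* MulAut S` is the action by conjugation; its kernel is the centre, its image `K` contains the inner
automorphisms as a normal subgroup of odd index with abelian quotient.

* `ff_of` : `FF A` from the invariant characters of `G^F` which are trivial on the centre;
* `tw_of_ff` : under `FF A`, the Galois conjugate of such a character is a twist with a linear character.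
-/

set_option autoImplicit false
set_option linter.unusedSectionVars false

namespace Cfsg.Agent.GAL.Two

open Cfsg Subgroup Cfsg.Agent.GAL.Nrm Cfsg.Agent.DL Cfsg.Agent.DL.PP Cfsg.Agent.DL.St Cfsg.Agent.Tits.Roots
  Cfsg.Agent.GAL.C2 Cfsg.Agent.H601.K4 Cfsg.Agent.TAB.Use Cfsg.Agent.ODD.Red Cfsg.Agent.Characters
  Cfsg.Agent.Characters.Core

theorem mul_conj_mul {S : Type} [Group S] (a : MulAut S) (s : S) :
    a * MulAut.conj s * a⁻¹ = MulAut.conj (a s) := by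
  ext x
  simp only [_root_.MulAut.mul_apply, _root_.MulAut.inv_apply, _root_.MulAut.conj_apply, _root_.map_mul, _root_.MulEquiv.apply_symm_apply, _root_.map_inv]

variable {k : Type} [Field k] [CharP k 2] {Y : Type} [Group Y] {N : Type} [Fintype N] [DecidableEq N]
  {ρ : Y →* GL N k} {F : MulAut Y} {G : Subgroup Y} [IsAlgClosed k] {D : Datum 2 ρ F G}
  {X S : Type} [Group X] [Group S] {ι : X →* Y} {pr : X →* S} (M : Md D ι pr)

include M in
theorem exists_kp (g : GF F G) : ∃ a, C2.Ind ι pr (MulAut.conj (g : Y)) a :=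
  exists_ind M fun s => M.emb.choose_spec.2.norm g g.2 s

/-- the action of `G^F` on `S` -/
noncomputable def kp : GF F G →* MulAut S :=
  MonoidHom.mk' (fun g => (exists_kp M g).choose) fun a b =>
    ind_eq M (exists_kp M (a * b)).choose_spec (ind_mul (exists_kp M a).choose_spec (exists_kp M b).choose_spec)
      fun s => by rw [coe_mul, map_mul]

theorem kp_ind (g : GF F G) : C2.Ind ι pr (MulAut.conj (g : Y)) (kp M g) := (exists_kp M g).choose_spec

theorem kp_pr {g : GF F G} {x x' : X} (h : ι x' = g * ι x * (g : Y)⁻¹) : kp M g (pr x) = pr x' := by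
  obtain ⟨y, h1, h2⟩ := kp_ind M g x
  rw [h2, md_inj M (h1.symm.trans h.symm)]

theorem kp_ι {g : GF F G} {x : X} (h : ι x = g) : kp M g = MulAut.conj (pr x) := by
  ext s
  obtain ⟨s, rfl⟩ := M.surj s
  rw [kp_pr M (x' := x * s * x⁻¹) (by rw [map_mul, map_mul, map_inv, h]), map_mul, map_mul, map_inv, MulAut.conj_apply]

theorem kp_aut {α : MulAut Y} {B : Matrix D.R D.R ℤ} {a : MulAut S} (ha : Au D α B) (hi : C2.Ind ι pr α a)
    (g : GF F G) : kp M (ha.aut g) = a * kp M g * a⁻¹ :=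
  eq_mul_inv_of_mul_eq (ind_eq M (ind_mul (kp_ind M _) hi) (ind_mul hi (kp_ind M g)) fun s => by
    simp only [Au.coe_aut, _root_.MulAut.mul_apply, _root_.MulAut.conj_apply, _root_.map_mul, _root_.map_inv])

theorem kp_Zc {g : GF F G} (hg : (g : Y) ∈ Zc D) : kp M g = 1 :=
  ind_eq M (kp_ind M g) ind_one fun s => by
    rw [MulAut.conj_apply, Zc_comm hg (md_mem M s).1, mul_inv_cancel_right, MulAut.one_apply]

theorem Zc_of_kp (hZ : center S = ⊥) {g : GF F G} (hg : kp M g = 1) : (g : Y) ∈ Zc D := by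
  have hc : ∀ v ∈ D.U ⊓ GF F G, g * v * (g : Y)⁻¹ = v := fun v hv => by
    obtain ⟨x, rfl⟩ := md_U M hv
    obtain ⟨y, h1, h2⟩ := kp_ind M g x
    obtain ⟨n, hn⟩ := pow_U D hv.1
    rw [hg, MulAut.one_apply, pr_eq_iff M] at h2
    exact h1.trans (eq_of_cen D (md_mem M x).1 (md_mem M y).1 ⟨n, hn⟩
      ⟨n, by rw [← h1, ← map_pow, hn, map_one]⟩ h2).symm
  obtain ⟨u, hu, t, ht, h1⟩ := exists_BF M.good.qs g.2 fun v hv => by
    rw [← hc v hv, show (g : Y)⁻¹ * (g * v * (g : Y)⁻¹) * g = v by group]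
    exact hv.1
  have h2 : t ∈ Zc D := ⟨ht.1, fun i => by
    obtain ⟨v, hv, h2⟩ := exists_regU M.good.qs
    have h3 := kap_conj_B hu.1 ht.1 hv.1 i
    rw [← h1, hc v hv] at h3
    exact (mul_eq_right₀ (h2 i)).1 h3.symm⟩
  obtain ⟨x, rfl⟩ := md_U M hu
  have h3 : MulAut.conj (pr x) = 1 := by
    rw [← kp_ι M (g := ⟨ι x, hu.2⟩) rfl, ← hg, show g = ⟨ι x, hu.2⟩ * ⟨t, ht.2⟩ from Subtype.ext h1, map_mul,
      kp_Zc M (g := ⟨t, ht.2⟩) h2, mul_one]
  have h4 : pr x ∈ center S := mem_center_iff.2 fun s =>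
    (mul_inv_eq_iff_eq_mul.1 (congrArg (fun φ : MulAut S => φ s) h3)).symm
  rw [hZ, mem_bot, M.ker] at h4
  rwa [h1, D.eq_one_of_mem_U_of_mem_T hu.1 ((cen_of_center M h4).mem_T D hu.2.1), one_mul]

/-- the inner automorphisms -/
noncomputable def iK : S →* (kp M).range :=
  (MulAut.conj (G := S)).codRestrict _ fun s => by
    obtain ⟨x, rfl⟩ := M.surj s
    exact ⟨⟨ι x, md_mem M x⟩, kp_ι M rfl⟩

theorem rr_ι {g : GF F G} {x : X} (h : ι x = g) : (kp M).rangeRestrict g = iK M (pr x) := Subtype.ext (kp_ι M h)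

theorem iK_inj (hZ : center S = ⊥) : Function.Injective (iK M) := (injective_iff_map_eq_one _).2 fun s hs => by
  rw [← mem_bot, ← hZ]
  exact mem_center_iff.2 fun x =>
    (mul_inv_eq_iff_eq_mul.1 (congrArg (fun φ : (kp M).range => (φ : MulAut S) x) hs)).symm

theorem iK_conj (a : (kp M).range) (s : S) : iK M ((a : MulAut S) s) = a * iK M s * a⁻¹ :=
  Subtype.ext (mul_conj_mul _ s).symm

theorem iK_normal : (iK M).range.Normal := ⟨by
  rintro _ ⟨s, rfl⟩ a
  exact ⟨_, iK_conj M a s⟩⟩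

theorem K_split (a : (kp M).range) : ∃ s, ∃ t ∈ TH D, a = iK M s * (kp M).rangeRestrict t := by
  obtain ⟨g, rfl⟩ := (kp M).rangeRestrict_surjective a
  obtain ⟨x, t, ht, h⟩ := M.emb.choose_spec.2.split g g.2
  exact ⟨pr x, ⟨t, D.T_le_G ht.1, ht.2⟩, ht.1, by
    rw [← rr_ι M (g := ⟨ι x, md_mem M x⟩) rfl, ← map_mul]
    exact congrArg _ (Subtype.ext h)⟩

theorem iK_odd [Finite S] : Odd (iK M).range.index := by
  have := iK_normal M
  have := fact2
  rw [odd_iff', index_eq_card]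
  intro h
  obtain ⟨q, hq⟩ := exists_prime_orderOf_dvd_card' 2 h
  obtain ⟨a, rfl⟩ := QuotientGroup.mk'_surjective _ q
  obtain ⟨g, rfl⟩ := (kp M).rangeRestrict_surjective a
  obtain ⟨x, hx⟩ := M.emb.choose_spec.2.pow g g.2
  refine odd_iff'.1 M.emb.choose_spec.1 (hq.symm.dvd.trans (orderOf_dvd_of_pow_eq_one ?_))
  rw [← map_pow, ← map_pow, rr_ι M (x := x) hx, QuotientGroup.mk'_apply, QuotientGroup.eq_one_iff]
  exact ⟨_, rfl⟩

theorem iK_ab (a b : (kp M).range) : (a * b)⁻¹ * (b * a) ∈ (iK M).range := by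
  have := iK_normal M
  have h : ∀ s, ((iK M s : (kp M).range) : _ ⧸ (iK M).range) = 1 := fun s => (QuotientGroup.eq_one_iff _).2 ⟨s, rfl⟩
  obtain ⟨s, t, ht, rfl⟩ := K_split M a
  obtain ⟨s', t', ht', rfl⟩ := K_split M b
  rw [← QuotientGroup.eq]
  simp only [QuotientGroup.mk_mul, h, one_mul]
  rw [← QuotientGroup.mk_mul, ← QuotientGroup.mk_mul, ← map_mul, ← map_mul,
    show t * t' = t' * t from Subtype.ext (D.T_comm ht ht')]

/-- the map from `U^F` to `S` -/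
noncomputable def jU : UH D →* S :=
  (prK M).comp (((GF F G).subtype.comp (UH D).subtype).codRestrict _ fun u => md_U M ⟨u.2, u.1.2⟩)

theorem exists_jU (u : UH D) : ∃ x, ι x = (u : GF F G) ∧ jU M u = pr x := by
  obtain ⟨x, hx⟩ := md_U M (u := (u : GF F G)) ⟨u.2, u.1.2⟩
  exact ⟨x, hx, by rw [← prK_apply M x ⟨x, rfl⟩]; exact congrArg (prK M) (Subtype.ext hx.symm)⟩

/-- a Galois conjugate constituent is equal to the given one -/
theorem fix_of_res [Finite S] [Fintype (GF F G)] (hZ : center S = ⊥) {ψ : (kp M).range → ℂ} (hψ : OddIrr ψ)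
    {θ : S → ℂ} (hθ : IsIrrCharacter S θ) [Fintype S] (h0 : classInner (fun s => ψ (iK M s)) θ ≠ 0) {σ : ℂ ≃+* ℂ}
    (hσ : Sig σ) (h : _root_.Cfsg.Agent.ODD.Red.Fix σ fun s => ψ (iK M s)) : _root_.Cfsg.Agent.ODD.Red.Fix σ θ := by
  have := iK_normal M
  have := Fintype.ofFinite (kp M).range
  have := Fintype.ofFinite (UH D)
  have := Fintype.ofFinite (Ob D)
  have hcon : ∀ η, IsIrrCharacter S η → classInner (fun s => ψ (iK M s)) η ≠ 0 →
      ∃ t ∈ TH D, ∀ s, η s = θ (kp M t s) := fun η hη h1 => by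
    obtain ⟨a, ha⟩ := exists_cj (iK_inj M hZ) hψ.1 hθ hη h0 h1
    obtain ⟨s, t, ht, rfl⟩ := K_split M a
    exact ⟨t, ht, fun x => (ha x _ (iK_conj M _ x)).trans (isIrr_isClassFunction hθ _ s)⟩
  obtain ⟨t, ht, h1⟩ := hcon _ (GaloisIrr.isIrr_map σ hθ) (by
    rw [← funext h, GaloisIrr.classInner_map σ (isIrr_isCharacter hθ)]
    exact (map_ne_zero σ).2 h0)
  obtain ⟨lam, hl⟩ := exists_lam M.good.qs M.good.cz
  have h2 := oddIrr_comp (kp M).rangeRestrict_surjective hψ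
  obtain ⟨n, hn, hn'⟩ := exists_k S
  refine fun s => (h1 s).trans (orbit (_root_.Cfsg.Agent.DL.PP.sys M.good.qs M.good.cz) hl (kp M) (jU M) (fun t _ u u' e => ?_)
    (mr_sq M.good h2.1 h2.2) (isCharacter_comp' (iK M) (isIrr_isCharacter hψ.1)) (fun u => ?_) hθ (fun t _ s => ?_)
    hcon ht (fun u => ?_) s)
  · obtain ⟨x, h3, h4⟩ := exists_jU M u
    obtain ⟨x', h3', h4'⟩ := exists_jU M u'
    rw [h4, h4', kp_pr M (x' := x') (by rw [h3, h3', e]; rfl)]
  · obtain ⟨x, h3, h4⟩ := exists_jU M u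
    rw [h4, rr_ι M h3]
  · exact (congrArg ψ (iK_conj M ((kp M).rangeRestrict t) s)).trans (isIrr_isClassFunction hψ.1 _ _)
  · have := fact2
    obtain ⟨x, h3, h4⟩ := exists_jU M u
    rw [← h1, map_eq_pow hσ hn hn' (isIrr_isCharacter hθ), hn]
    exact (IsPGroup.iff_orderOf.1 (mdQ M).isPGroup' ⟨_, (mem_mdQ M).2 ⟨x, h3 ▸ u.2, h4.symm⟩⟩).imp fun j hj => by
      rwa [← orderOf_coe] at hj

include M

theorem ff_of [Finite S] [Fintype (GF F G)] (hZ : center S = ⊥) {A : Subgroup (MulAut S)} (h2 : IsPGroup 2 A)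
    (hA : ∀ a ∈ A, ∃ α B, Au D α B ∧ C2.Ind ι pr α a)
    (h : ∀ χ : GF F G → ℂ, OddIrr χ → (∀ z : GF F G, (z : Y) ∈ Zc D → χ z = χ 1) →
      (∀ a ∈ A, ∀ α B (ha : Au D α B), C2.Ind ι pr α a → ∀ g, χ (ha.aut g) = χ g) →
      ∀ σ, Sig σ → ∀ g : GF F G, (g : Y) ∈ ι.range → σ (χ g) = χ g) : FF A := by
  intro θ hθ _ hi σ hσ
  have := Fintype.ofFinite S
  have := Fintype.ofFinite (kp M).range
  have hN : A ≤ normalizer ((kp M).range : Set (MulAut S)) := fun a ha => mem_normalizer_fintype (by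
    obtain ⟨α, B, h3, h4⟩ := hA a ha
    rintro _ ⟨g, rfl⟩
    exact ⟨_, kp_aut M h3 h4 g⟩)
  obtain ⟨ψ, h3, h4, h5⟩ := exists_up (iK_inj M hZ) (iK_odd M) hθ h2
    ((kp M).range.normalizerMonoidHom.comp (inclusion hN)) fun a s =>
      ⟨a.1 s, Subtype.ext (mul_conj_mul a.1 s), hi _ a.2 s⟩
  refine fix_of_res M hZ h3 hθ.1 h4 hσ fun s => ?_
  obtain ⟨x, rfl⟩ := M.surj s
  beta_reduce
  rw [← rr_ι M (g := ⟨ι x, md_mem M x⟩) rfl]
  refine h _ (oddIrr_comp (kp M).rangeRestrict_surjective h3) (fun z hz => ?_) (fun a ha α B h6 h7 g => ?_) σ hσ _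
    ⟨x, rfl⟩
  · exact congrArg ψ (Subtype.ext ((kp_Zc M hz).trans (map_one _).symm))
  · exact (congrArg ψ (Subtype.ext (kp_aut M h6 h7 g))).trans (h5 ⟨a, ha⟩ _)

theorem tw_of_ff [Finite S] [Fintype (GF F G)] (hZ : center S = ⊥) {A : Subgroup (MulAut S)} (h2 : IsPGroup 2 A)
    (hF : FF A) {χ : GF F G → ℂ} (hχ : OddIrr χ) (hz : ∀ z : GF F G, (z : Y) ∈ Zc D → χ z = χ 1)
    (hA : ∀ a ∈ A, ∃ α B, ∃ ha : Au D α B, C2.Ind ι pr α a ∧ ∀ g, χ (ha.aut g) = χ g) {σ : ℂ ≃+* ℂ} (hσ : Sig σ) :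
    ∃ β : GF F G →* ℂˣ, (∀ g : GF F G, (g : Y) ∈ ι.range → β g = 1) ∧ ∀ g, σ (χ g) = β g * χ g := by
  have := iK_normal M
  have := Fintype.ofFinite S
  have := Fintype.ofFinite (kp M).range
  obtain ⟨ψ, h3, h4⟩ := exists_quot (kp M).rangeRestrict (kp M).rangeRestrict_surjective hχ.1 fun z h =>
    hz z (Zc_of_kp M hZ (congrArg Subtype.val h))
  obtain ⟨θ, h5, h6⟩ := exists_OC_inv (isCharacter_comp' (iK M) (isIrr_isCharacter h3))
    (odd_iff'.2 (by rw [charDegree_congr (ψ := χ) (by rw [map_one, ← h4, map_one])]; exact hχ.2)) h2 A.subtype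
    fun a s => by
      obtain ⟨α, B, ha, h5, h6⟩ := hA _ a.2
      obtain ⟨x, rfl⟩ := M.surj s
      obtain ⟨x', h7, h8⟩ := h5 x
      rw [coe_subtype, h8, ← rr_ι M (g := ⟨ι x, md_mem M x⟩) rfl, h4, ← h6,
        ← rr_ι M (g := ha.aut ⟨ι x, md_mem M x⟩) h7.symm, h4]
  have h7 : OddIrr θ := ⟨h5.1, odd_iff'.1 h5.2.1⟩
  have h8 := hF θ h7 ((md_noC M).inB0 h7) (fun a ha => h6 ⟨a, ha⟩) σ hσ
  obtain ⟨β, h9, h10⟩ := exists_tw (iK_inj M hZ) (iK_ab M) h3 (GaloisIrr.isIrr_map σ h3) h5.1 h5.ne_zero (by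
    rw [← funext h8, GaloisIrr.classInner_map σ (isIrr_isCharacter h5.1)]
    exact (map_ne_zero σ).2 h5.ne_zero)
  refine ⟨β.comp (kp M).rangeRestrict, ?_, fun g => by rw [← h4, h10]; rfl⟩
  rintro g ⟨x, hx⟩
  rw [MonoidHom.comp_apply, rr_ι M hx, h9]

end Cfsg.Agent.GAL.Two

private theorem dce_d54f6d982a89 : _root_.True := by
  try have : _root_.True := by simp only [_root_.Cfsg.Agent.DL.PP.Au.aut.congr_simp]
  exact _root_.True.intro
end
end
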