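import Cfsg.Agent.GAL.Rows
import Cfsg.Prelude.Def_KGroupFacts
import Cfsg.Agent.H408.Pron.Gen
import Cfsg.Agent.S2431
import Cfsg.Agent.H803.S74.Sys
import Cfsg.Agent.H419.Count_m3
import Cfsg.Agent.H627.BR.Grp
import Cfsg.Agent.S0542
import Cfsg.Agent.CharactersDeep.ExtGroup
import Mathlib
import Cfsg.Agent.H29.AltSelf
import Cfsg.Agent.TAB.Eng.Map
import Cfsg.Agent.H799.SymSyl
import Cfsg.Agent.H614.IndexTwo
import Cfsg.Agent.H615.AltClif
import Cfsg.Agent.Blocks.Over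
import Cfsg.Agent.H600.AltIM_m3
import Cfsg.Agent.H348.PPD.AltFive
import Cfsg.Agent.S2119
import Cfsg.Agent.Lib.FastPerm
import Cfsg.Agent.FastGrp
import Cfsg.Agent.Prune
set_option linter.all false

section
prune_inst 0x7fb0f8f92ba8abffdfff7e3ff6f5cff9f1a8afffe6dff9fbffe969bfaf5f6b23cdc5ab85ebe018fe8ef6623410f87b43f97eeeffea63dc7ffffd5ff41ffbff9ffdf6b5081194883c0f3c2ffe03f07f8e6f3ffffffffffffffffffff7ffffffffffbff3feffff

-- part: GAL/Nrm/Gen
section
prune_inst 0x4c07028451140020000180090810060c555000192006000014924050a0004c3232506a140fc2017001908aa60000900681100005982100000200006004004002090aa7686a348210c24001f80b807190c0000000000000000000080000000000400c010000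
set_option linter.all false
open scoped Cfsg.Agent.FastGrp

/-!
# S4617 / S4618, the group side of the boxes: general lemmas (helper10, GAL)

* `AllDG G`, `NoC G` : `DG` for all Sylow 2-subgroups; their centralizers have no elements of odd order;
* `Mdl Q r` : an automorphism `r` with `r ^ 2 ∈ Q` which has no fixed points on `N(Q) / Q ≠ 1`;
* `Mdl.dd`, `ff_of_delta`, `Mdl.box` : the box if `4` does not divide the order of `Out S`.
-/

set_option autoImplicit false

namespace Cfsg.Agent.GAL.Nrm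

open Cfsg Cfsg.Agent.H601.K4 Cfsg.Agent.TAB.Use Cfsg.Agent.ODD.Red Subgroup

universe u v

/-- `DG` for all Sylow 2-subgroups -/
def AllDG (G : Type u) [Group G] : Prop := ∀ Q : Sylow 2 G, DG Q

/-- the centralizers of the Sylow 2-subgroups have no elements of odd order -/
def NoC (G : Type u) [Group G] : Prop :=
  ∀ (Q : Sylow 2 G), ∀ y ∈ centralizer ((Q : Subgroup G) : Set G), Odd (orderOf y) → y = 1

section

variable {G : Type u} [Group G] {H : Type v} [Group H]

theorem allDG_of [Finite G] (Q : Sylow 2 G) (h : DG Q) : AllDG G := fun P => h.sylow P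

theorem allDG_of_comm [Finite G] (Q : Sylow 2 G)
    (h : ∀ g ∈ normalizer ((Q : Subgroup G) : Set G), Odd (orderOf g) → ∀ s ∈ (Q : Subgroup G), g * s = s * g) :
    AllDG G :=
  allDG_of Q fun y hy ho => mem_centralizer_iff.2 fun s hs => (h y hy ho s hs).symm

theorem allDG_of_aut [Finite G] (S : Sylow 2 G)
    (h : ∀ (φ : MulAut ↥(S : Subgroup G)) (k : ℕ), Odd k → φ ^ k = 1 → φ = 1) : AllDG G := by
  refine allDG_of_comm S fun g hg ho s hs => ?_
  set φ : MulAut ↥(S : Subgroup G) := (S : Subgroup G).normalizerMonoidHom ⟨g, hg⟩ with hφ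
  have h1 : φ ^ orderOf g = 1 := by
    rw [hφ, ← map_pow]
    have : (⟨g, hg⟩ : Subgroup.normalizer ((S : Subgroup G) : Set G)) ^ orderOf g = 1 :=
      Subtype.ext (pow_orderOf_eq_one g)
    rw [this, map_one]
  have h2 := h φ _ ho h1
  have h3 : ((φ ⟨s, hs⟩ : ↥(S : Subgroup G)) : G) = s := by rw [h2]; rfl
  have h4 : ((φ ⟨s, hs⟩ : ↥(S : Subgroup G)) : G) = g * s * g⁻¹ := rfl
  rw [h4] at h3
  exact mul_inv_eq_iff_eq_mul.1 h3

theorem exists_sylow_congr [Finite G] (e : G ≃* H) (Q : Sylow 2 G) :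
    ∃ P : Sylow 2 H, ∀ x : G, e x ∈ (P : Subgroup H) ↔ x ∈ (Q : Subgroup G) := by
  have := fact2
  refine ⟨Q.mapSurjective (f := e.toMonoidHom) e.surjective, fun s => ⟨?_, fun hs => ⟨s, hs, rfl⟩⟩⟩
  rintro ⟨x, hx, h1⟩
  rwa [← e.injective h1]

theorem AllDG.congr [Finite G] (e : G ≃* H) (h : AllDG H) : AllDG G := by
  intro Q y hy ho
  obtain ⟨P, hP⟩ := exists_sylow_congr e Q
  have h1 : e y ∈ normalizer ((P : Subgroup H) : Set H) := by
    rw [mem_normalizer_iff]
    intro x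
    obtain ⟨x, rfl⟩ := e.surjective x
    rw [← map_inv, ← map_mul, ← map_mul, hP, hP]
    exact mem_normalizer_iff.1 hy x
  have h2 := h P _ h1 (by rwa [MulEquiv.orderOf_eq])
  rw [mem_centralizer_iff] at h2 ⊢
  intro x hx
  apply e.injective
  rw [map_mul, map_mul]
  exact h2 _ ((hP x).2 hx)

theorem NoC.congr [Finite G] (e : G ≃* H) (h : NoC H) : NoC G := by
  intro Q y hy ho
  obtain ⟨P, hP⟩ := exists_sylow_congr e Q
  have h1 : e y ∈ centralizer ((P : Subgroup H) : Set H) := by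
    rw [mem_centralizer_iff]
    intro x hx
    obtain ⟨x, rfl⟩ := e.surjective x
    rw [← map_mul, ← map_mul, mem_centralizer_iff.1 hy x ((hP x).1 hx)]
  exact (map_eq_one_iff e e.injective).1 (h P _ h1 (by rwa [MulEquiv.orderOf_eq]))

theorem noC_of [Finite G] (P : Sylow 2 G)
    (h : ∀ y ∈ centralizer ((P : Subgroup G) : Set G), Odd (orderOf y) → y = 1) : NoC G := by
  have := fact2
  intro Q y hy ho
  obtain ⟨g, rfl⟩ := MulAction.exists_smul_eq G P Q
  have hmem : ∀ x, x ∈ (P : Subgroup G) → g * x * g⁻¹ ∈ ((g • P : Sylow 2 G) : Subgroup G) := by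
    intro x hx
    rw [Sylow.coe_subgroup_smul, Subgroup.mem_pointwise_smul_iff_inv_smul_mem, ← map_inv, MulAut.smul_def,
      MulAut.conj_apply, inv_inv]
    rwa [show g⁻¹ * (g * x * g⁻¹) * g = x by group]
  have h1 : g⁻¹ * y * g⁻¹⁻¹ = 1 := by
    refine h _ ?_ (by rwa [orderOf_conj'])
    rw [mem_centralizer_iff]
    intro x hx
    have h2 := mem_centralizer_iff.1 hy _ (hmem x hx)
    calc x * (g⁻¹ * y * g⁻¹⁻¹) = g⁻¹ * (g * x * g⁻¹ * y) * g := by group
      _ = g⁻¹ * (y * (g * x * g⁻¹)) * g := by rw [h2]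
      _ = g⁻¹ * y * g⁻¹⁻¹ * x := by group
  calc y = g * (g⁻¹ * y * g⁻¹⁻¹) * g⁻¹ := by group
    _ = 1 := by rw [h1]; group

theorem noC_of_le [Finite G] (P : Sylow 2 G) (h : centralizer ((P : Subgroup G) : Set G) ≤ P) : NoC G :=
  noC_of P fun _ hy ho => eq_one_of_odd_of_mem P.isPGroup' (h hy) ho

/-- all characters of odd degree are in the principal block -/
theorem NoC.inB0 [Finite G] (h : NoC G) {χ : G → ℂ} (hχ : OddIrr χ) : InB0 χ :=
  inB0_of_cent default (h default) hχ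

theorem NoC.not_fg [Finite G] (h : NoC G) (hM : OddMoved G) : ¬ FG G :=
  not_fg_of_moved default (h default) hM

/-- an element with a power `g ^ 2 ^ k` of odd order which has the same cyclic group modulo the 2-elements -/
theorem exists_odd_pow [Finite G] (g : G) : ∃ k : ℕ, Odd (orderOf (g ^ 2 ^ k)) := by
  obtain ⟨k, m, hm, hk⟩ := Nat.exists_eq_pow_mul_and_not_dvd (orderOf_pos g).ne' 2 (by norm_num)
  refine ⟨k, Odd.of_dvd_nat (odd_iff'.2 hm) (orderOf_dvd_of_pow_eq_one ?_)⟩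
  rw [← pow_mul, ← hk, pow_orderOf_eq_one]

/-- a 2-element of the normalizer is in the Sylow subgroup -/
theorem mem_of_pow_mem [Finite G] (Q : Sylow 2 G) {g : G} (hg : g ∈ normalizer ((Q : Subgroup G) : Set G)) {k : ℕ}
    (hk : g ^ 2 ^ k ∈ (Q : Subgroup G)) : g ∈ (Q : Subgroup G) := by
  have := fact2
  obtain ⟨l, hl⟩ := Q.isPGroup' ⟨_, hk⟩
  have h1 : g ^ 2 ^ (k + l) = 1 := by
    rw [pow_add, pow_mul]
    exact congrArg Subtype.val hl
  have h2 : IsPGroup 2 (zpowers g) := by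
    refine IsPGroup.of_card (n := (orderOf g).factorization 2) ?_
    rw [Nat.card_zpowers]
    obtain ⟨j, -, hj⟩ := (Nat.dvd_prime_pow Nat.prime_two).1 (orderOf_dvd_of_pow_eq_one h1)
    rw [hj, Nat.Prime.factorization_pow Nat.prime_two]
    simp
  have h3 := IsPGroup.to_sup_of_normal_left' Q.isPGroup' h2 (zpowers_le.2 hg)
  have h4 := Q.is_maximal' h3 le_sup_left
  rw [← h4]
  exact mem_sup_right (mem_zpowers g)

/-- `DG` fails if the normalizer is larger than the Sylow subgroup and there is no odd centralizer -/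
theorem not_dg [Finite G] (hC : NoC G) (Q : Sylow 2 G) {g : G} (hg : g ∈ normalizer ((Q : Subgroup G) : Set G))
    (hQ : g ∉ (Q : Subgroup G)) : ¬ DG Q := by
  intro h
  obtain ⟨k, hk⟩ := exists_odd_pow g
  have h1 := hC Q _ (h _ (pow_mem hg _) hk) hk
  exact hQ (mem_of_pow_mem Q hg (k := k) (by rw [h1]; exact one_mem _))

/-- two nontrivial elements of a 2-subgroup are equal if `4` does not divide the order of the group -/
theorem eq_of_not_four [Finite H] (h4 : ¬ 4 ∣ Nat.card H) {T : Subgroup H} (hT : IsPGroup 2 T) {x y : H}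
    (hx : x ∈ T) (hy : y ∈ T) (hx1 : x ≠ 1) (hy1 : y ≠ 1) : x = y := by
  have := fact2
  obtain ⟨k, hk⟩ := IsPGroup.iff_card.1 hT
  have h1 : Nat.card T ≤ 2 := by
    rcases k with _ | _ | k
    · omega
    · omega
    · exfalso
      refine h4 (dvd_trans ?_ T.card_subgroup_dvd_card)
      rw [hk]
      exact ⟨2 ^ k, by ring⟩
  by_contra hne
  classical
  have h2 : ({⟨1, T.one_mem⟩, ⟨x, hx⟩, ⟨y, hy⟩} : Finset T).card = 3 := by
    rw [Finset.card_eq_three]
    refine ⟨_, _, _, ?_, ?_, ?_, rfl⟩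
    · exact fun h => hx1 (congrArg Subtype.val h).symm
    · exact fun h => hy1 (congrArg Subtype.val h).symm
    · exact fun h => hne (congrArg Subtype.val h)
  have := Fintype.ofFinite T
  have h3 := Finset.card_le_univ ({⟨1, T.one_mem⟩, ⟨x, hx⟩, ⟨y, hy⟩} : Finset T)
  rw [Nat.card_eq_fintype_card] at h1
  omega

theorem isPGroup_zpowers [Finite H] {x : H} {k : ℕ} (hx : x ^ 2 ^ k = 1) : IsPGroup 2 (zpowers x) := by
  rintro ⟨y, hy⟩
  obtain ⟨l, rfl⟩ := mem_zpowers_iff.1 hy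
  refine ⟨k, Subtype.ext ?_⟩
  show (x ^ l) ^ 2 ^ k = 1
  rw [← zpow_natCast, ← zpow_mul, mul_comm, zpow_mul, zpow_natCast, hx, one_zpow]

end

section

variable {S : Type u} [Group S]

theorem inner_iff (r : MulAut S) : Inner r ↔ (QuotientGroup.mk r : Out S) = 1 := by
  rw [QuotientGroup.eq_one_iff]
  exact ⟨fun ⟨s, hs⟩ => ⟨s, hs.symm⟩, fun ⟨s, hs⟩ => ⟨s, hs.symm⟩⟩

theorem exists_of_mk_eq {r r' : MulAut S} (h : (QuotientGroup.mk r : Out S) = QuotientGroup.mk r') :
    ∃ s : S, r = MulAut.conj s * r' := by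
  have h1 : Inner (r * r'⁻¹) := by
    rw [inner_iff, QuotientGroup.mk_mul, QuotientGroup.mk_inv, h, mul_inv_cancel]
  obtain ⟨s, hs⟩ := h1
  exact ⟨s, by rw [← hs]; group⟩

theorem conj_conj (α : MulAut S) (s : S) : α * MulAut.conj s * α⁻¹ = MulAut.conj (α s) := by
  ext x
  simp only [_root_.MulAut.mul_apply, _root_.MulAut.inv_apply, _root_.MulAut.conj_apply, _root_.map_mul, _root_.MulEquiv.apply_symm_apply, _root_.map_inv]

/-- if the order of `Out S` is odd, the automorphisms of 2-power order are inner -/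
theorem inner_of_odd (h : Odd (Nat.card (Out S))) (r : MulAut S) (hr : ∃ k : ℕ, r ^ 2 ^ k = 1) : Inner r := by
  obtain ⟨k, hk⟩ := hr
  rw [inner_iff, ← orderOf_eq_one_iff]
  have h1 : orderOf (QuotientGroup.mk r : Out S) ∣ 2 ^ k := by
    apply orderOf_dvd_of_pow_eq_one
    rw [← QuotientGroup.mk_pow, hk, QuotientGroup.mk_one]
  exact Nat.eq_one_of_dvd_coprimes (Nat.Coprime.pow_left k (Nat.coprime_two_left.2 h)) h1
    (_root_.orderOf_dvd_natCard _)

theorem card_out [Finite S] (hZ : center S = ⊥) : Nat.card (MulAut S) = Nat.card (Out S) * Nat.card S := by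
  have hinj : Function.Injective (MulAut.conj : S →* MulAut S) := by
    rw [injective_iff_map_eq_one]
    intro z hz
    have h1 : z ∈ center S := by
      rw [mem_center_iff]
      intro g
      have h2 : MulAut.conj z g = g := by rw [hz]; rfl
      rw [MulAut.conj_apply] at h2
      exact (mul_inv_eq_iff_eq_mul.1 h2).symm
    rwa [hZ, mem_bot] at h1
  rw [card_eq_card_quotient_mul_card_subgroup (Inn S), ← Nat.card_congr (MonoidHom.ofInjective hinj).toEquiv]

/-- the outer automorphisms of 2-power order are conjugate -/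
theorem exists_conj [Finite S] (h4 : ¬ 4 ∣ Nat.card (Out S)) {r δ : MulAut S} (hr : ¬ Inner r) (hδ : ¬ Inner δ)
    (hr2 : ∃ k : ℕ, Inner (r ^ 2 ^ k)) (hδ2 : ∃ k : ℕ, Inner (δ ^ 2 ^ k)) :
    ∃ (α : MulAut S) (s : S), r = MulAut.conj s * (α * δ * α⁻¹) := by
  have := fact2
  obtain ⟨k, hk⟩ := hr2
  obtain ⟨l, hl⟩ := hδ2
  rw [inner_iff, QuotientGroup.mk_pow] at hk hl
  rw [inner_iff] at hr hδ
  obtain ⟨P, hP⟩ := (isPGroup_zpowers hk).exists_le_sylow
  obtain ⟨P', hP'⟩ := (isPGroup_zpowers hl).exists_le_sylow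
  obtain ⟨g, rfl⟩ := MulAction.exists_smul_eq (Out S) P' P
  obtain ⟨α, rfl⟩ := QuotientGroup.mk_surjective g
  have h1 : (QuotientGroup.mk (α * δ * α⁻¹) : Out S) ∈
      (((QuotientGroup.mk α : Out S) • P' : Sylow 2 (Out S)) : Subgroup (Out S)) := by
    rw [Sylow.coe_subgroup_smul, Subgroup.mem_pointwise_smul_iff_inv_smul_mem, ← map_inv, MulAut.smul_def,
      MulAut.conj_apply, inv_inv, ← QuotientGroup.mk_inv, ← QuotientGroup.mk_mul, ← QuotientGroup.mk_mul,
      show α⁻¹ * (α * δ * α⁻¹) * α = δ by group]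
    exact hP' (mem_zpowers _)
  have h2 := eq_of_not_four h4 (Sylow.isPGroup' _) (hP (mem_zpowers _)) h1 hr (by
    intro h
    apply hδ
    rw [QuotientGroup.mk_mul, QuotientGroup.mk_mul, QuotientGroup.mk_inv, mul_inv_eq_one, mul_eq_left] at h
    exact h)
  obtain ⟨s, hs⟩ := exists_of_mk_eq h2
  exact ⟨α, s, hs⟩

/-- the characters of odd degree in the principal block which are invariant under `δ` are fixed by `σ` -/
def FD (δ : MulAut S) : Prop :=
  ∀ θ : S → ℂ, OddIrr θ → InB0 θ → (∀ s, θ (δ s) = θ s) → ∀ σ, Sig σ → _root_.Cfsg.Agent.ODD.Red.Fix σ θ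

theorem FD.fg {δ : MulAut S} (h : FD δ) (hδ : Inner δ) : FG S := by
  obtain ⟨t, rfl⟩ := hδ
  exact fun θ h1 h2 => h θ h1 h2 fun s => Cfsg.Agent.Characters.Core.isIrr_isClassFunction h1.1 s t

/-- the character side for a frame with an outer automorphism -/
theorem ff_of_delta [Finite S] (h4 : ¬ 4 ∣ Nat.card (Out S)) {δ : MulAut S} (hδ2 : ∃ k : ℕ, Inner (δ ^ 2 ^ k))
    (hF : FD δ) {R : Subgroup (MulAut S)} (hR : IsPGroup 2 R) (h : ∃ r ∈ R, ¬ Inner r) : FF R := by
  by_cases hδ : Inner δ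
  · exact (hF.fg hδ).ff R
  obtain ⟨r, hr, hr'⟩ := h
  obtain ⟨k, hk⟩ := hR ⟨r, hr⟩
  have hk' : r ^ 2 ^ k = 1 := congrArg Subtype.val hk
  obtain ⟨α, t, ht⟩ := exists_conj h4 hr' hδ ⟨k, 1, by rw [hk', map_one]⟩ hδ2
  intro θ h1 h2 h3 σ hσ s
  have h5 := hF (fun x => θ (α x)) (oddIrr_comp (f := α.toMonoidHom) α.surjective h1) (inB0_equiv α h1 h2)
    (fun x => ?_) σ hσ (α⁻¹ s)
  · simpa using h5
  · have h6 := h3 r hr (α x)
    rw [ht, MulAut.mul_apply, MulAut.conj_apply, Cfsg.Agent.Characters.Core.isIrr_isClassFunction h1.1] at h6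
    simpa only [_root_.MulAut.mul_apply, _root_.MulAut.inv_apply, _root_.MulEquiv.symm_apply_apply] using h6

/-- **a model of the exceptional situation** -/
structure Mdl (Q : Sylow 2 S) (r : MulAut S) : Prop where
  map : ∀ q ∈ (Q : Subgroup S), r q ∈ (Q : Subgroup S)
  sq : ∃ q ∈ (Q : Subgroup S), r * r = MulAut.conj q
  fpf : ∀ y ∈ normalizer ((Q : Subgroup S) : Set S), y⁻¹ * r y ∈ (Q : Subgroup S) → y ∈ (Q : Subgroup S)
  ne : ∃ y ∈ normalizer ((Q : Subgroup S) : Set S), y ∉ (Q : Subgroup S)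
  cent : ∀ y ∈ centralizer ((Q : Subgroup S) : Set S), Odd (orderOf y) → y = 1

theorem Mdl.noC [Finite S] {Q : Sylow 2 S} {r : MulAut S} (h : Mdl Q r) : NoC S := noC_of Q h.cent

theorem Mdl.not_dg [Finite S] {Q : Sylow 2 S} {r : MulAut S} (h : Mdl Q r) (P : Sylow 2 S) : ¬ DG P := by
  obtain ⟨y, hy, hy'⟩ := h.ne
  exact fun hP => Nrm.not_dg h.noC Q hy hy' (hP.sylow Q)

theorem Mdl.frame [Finite S] {Q : Sylow 2 S} {r : MulAut S} (h : Mdl Q r) :
    ∃ R : Subgroup (MulAut S), Frame Q R ∧ r ∈ R := by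
  have := fact2
  obtain ⟨q, hq, hr⟩ := h.sq
  obtain ⟨k, hk⟩ := Q.isPGroup' ⟨q, hq⟩
  have hk' : q ^ 2 ^ k = 1 := congrArg Subtype.val hk
  have h1 : r ^ 2 ^ (k + 1) = 1 := by
    rw [pow_succ', pow_mul, pow_two, hr, ← map_pow, hk', map_one]
  have h2 : r ∈ normalizer (((Q : Subgroup S).map (MulAut.conj : S →* MulAut S) : Subgroup (MulAut S)) :
      Set (MulAut S)) := by
    refine mem_normalizer_fintype ?_
    rintro _ ⟨x, hx, rfl⟩
    exact ⟨r x, h.map x hx, (conj_conj r x).symm⟩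
  refine ⟨_, ⟨IsPGroup.to_sup_of_normal_left' (Q.isPGroup'.map (MulAut.conj : S →* MulAut S)) (isPGroup_zpowers h1)
    (zpowers_le.2 h2), fun x hx => mem_sup_left ⟨x, hx, rfl⟩⟩, mem_sup_right (mem_zpowers r)⟩

theorem Mdl.not_inner [Finite S] (hZ : center S = ⊥) {Q : Sylow 2 S} {r : MulAut S} (h : Mdl Q r) : ¬ Inner r := by
  obtain ⟨R, hR, hr⟩ := h.frame
  rintro ⟨s, rfl⟩
  have hs := hR.mem hZ hr
  obtain ⟨y, hy, hy'⟩ := h.ne
  refine hy' (h.fpf y hy ?_)
  have h2 := (mem_normalizer_iff.1 (inv_mem hy) s).1 hs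
  rw [inv_inv] at h2
  rw [MulAut.conj_apply, show y⁻¹ * (s * y * s⁻¹) = y⁻¹ * s * y * s⁻¹ by group]
  exact (Q : Subgroup S).mul_mem h2 ((Q : Subgroup S).inv_mem hs)

/-- the group side for a frame with an outer automorphism -/
theorem Mdl.dd [Finite S] (hZ : center S = ⊥) (h4 : ¬ 4 ∣ Nat.card (Out S)) {Q₀ : Sylow 2 S} {r₀ : MulAut S}
    (h : Mdl Q₀ r₀) {Q : Sylow 2 S} {R : Subgroup (MulAut S)} (hR : Frame Q R) (hr : ∃ r ∈ R, ¬ Inner r) :
    DD Q R := by
  have := fact2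
  obtain ⟨r, hr, hr'⟩ := hr
  obtain ⟨R₀, hR₀, hr₀⟩ := h.frame
  obtain ⟨P, hP⟩ := hR.two.exists_le_sylow
  obtain ⟨P₀, hP₀⟩ := hR₀.two.exists_le_sylow
  have fP : Frame Q (P : Subgroup (MulAut S)) := ⟨P.isPGroup', fun q hq => hP (hR.inn q hq)⟩
  have fP₀ : Frame Q₀ (P₀ : Subgroup (MulAut S)) := ⟨P₀.isPGroup', fun q hq => hP₀ (hR₀.inn q hq)⟩
  obtain ⟨α, rfl⟩ := MulAction.exists_smul_eq (MulAut S) P₀ P
  have hmem : ∀ x, x ∈ ((α • P₀ : Sylow 2 (MulAut S)) : Subgroup (MulAut S)) ↔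
      α⁻¹ * x * α ∈ (P₀ : Subgroup (MulAut S)) := by
    intro x
    rw [Sylow.coe_subgroup_smul, Subgroup.mem_pointwise_smul_iff_inv_smul_mem, ← map_inv, MulAut.smul_def,
      MulAut.conj_apply, inv_inv]
  have hQ : ∀ x, x ∈ (Q : Subgroup S) ↔ α⁻¹ x ∈ (Q₀ : Subgroup S) := by
    intro x
    have h1 := conj_conj α⁻¹ x
    rw [inv_inv] at h1
    constructor
    · intro hx
      refine fP₀.mem hZ ?_
      rw [← h1, ← hmem]
      exact fP.inn x hx
    · intro hx
      refine fP.mem hZ ?_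
      rw [hmem, h1]
      exact fP₀.inn _ hx
  have h1 : α⁻¹ * r * α ∈ (P₀ : Subgroup (MulAut S)) := (hmem r).1 (hP hr)
  have h2 : (QuotientGroup.mk (α⁻¹ * r * α) : Out S) = QuotientGroup.mk r₀ := by
    refine eq_of_not_four h4 (P₀.isPGroup'.map (QuotientGroup.mk' (Inn S))) ⟨_, h1, rfl⟩ ⟨_, hP₀ hr₀, rfl⟩ ?_ ?_
    · intro h3
      apply hr'
      rw [QuotientGroup.mk_mul, QuotientGroup.mk_mul, QuotientGroup.mk_inv, mul_assoc, inv_mul_eq_one,
        right_eq_mul] at h3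
      exact (inner_iff r).2 h3
    · exact fun h3 => h.not_inner hZ ((inner_iff r₀).2 h3)
  obtain ⟨q, hq⟩ := exists_of_mk_eq h2
  have hq₀ : q ∈ (Q₀ : Subgroup S) := by
    refine fP₀.mem hZ ?_
    rw [eq_mul_inv_of_mul_eq hq.symm]
    exact mul_mem h1 (inv_mem (hP₀ hr₀))
  intro y ho hy
  have h3 : (α⁻¹ y)⁻¹ ∈ normalizer ((Q₀ : Subgroup S) : Set S) := by
    refine mem_normalizer_fintype fun x hx => ?_
    have h5 : α x ∈ (Q : Subgroup S) := by
      rw [hQ, MulAut.inv_apply_self]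
      exact hx
    have h6 := (Q : Subgroup S).mul_mem (hy _ (hR.inn _ h5)) h5
    rw [MulAut.conj_apply, show y⁻¹ * (α x * y * (α x)⁻¹) * α x = y⁻¹ * α x * y by group, hQ, map_mul,
      map_mul, map_inv, MulAut.inv_apply_self] at h6
    rw [inv_inv]
    exact h6
  have h4' : α⁻¹ y ∈ (Q₀ : Subgroup S) := by
    refine h.fpf _ (by simpa using inv_mem h3) ?_
    have h5 := (hQ _).1 (hy r hr)
    have h6 : α⁻¹ (r y) = q * r₀ (α⁻¹ y) * q⁻¹ := by
      have h7 := congrArg (fun φ : MulAut S => φ (α⁻¹ y)) hq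
      simpa only [_root_.MulAut.inv_apply, _root_.MulAut.mul_apply, _root_.MulEquiv.apply_symm_apply, _root_.MulAut.conj_apply] using h7
    rw [map_mul, map_inv, h6] at h5
    have h7 := (mem_normalizer_iff.1 h3 q).1 hq₀
    rw [inv_inv] at h7
    have h8 := mul_mem (mul_mem (inv_mem h7) h5) hq₀
    have h11 : ((α⁻¹ y)⁻¹ * q * α⁻¹ y)⁻¹ * ((α⁻¹ y)⁻¹ * (q * r₀ (α⁻¹ y) * q⁻¹)) * q =
        (α⁻¹ y)⁻¹ * r₀ (α⁻¹ y) := by group
    rwa [h11] at h8
  have h5 : y = 1 := eq_one_of_odd_of_mem Q.isPGroup' ((hQ y).2 h4') ho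
  intro r' _
  rw [h5, map_one]

/-- **the box in the exceptional situation** -/
theorem Mdl.box [Finite S] (hZ : center S = ⊥) (h4 : ¬ 4 ∣ Nat.card (Out S)) {Q₀ : Sylow 2 S} {r₀ : MulAut S}
    (h : Mdl Q₀ r₀) (hM : OddMoved S) {δ : MulAut S} (hδ2 : ∃ k : ℕ, Inner (δ ^ 2 ^ k)) (hF : FD δ) : Box S :=
  box_of_cases hZ Q₀ ⟨fun h1 => absurd h1 (h.not_dg Q₀), fun h1 => absurd h1 (h.noC.not_fg hM)⟩
    fun _ _ hR hr => ⟨fun _ => ff_of_delta h4 hδ2 hF hR.two hr, fun _ => h.dd hZ h4 hR hr⟩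

/-- the model passes to quotients by central 2-subgroups -/
theorem Mdl.quot {G : Type v} [Group G] [Finite G] {P : Sylow 2 G} {ρ : MulAut G} (h : Mdl P ρ) (f : G →* S)
    (hf : Function.Surjective f) (hk : ∀ g, f g = 1 ↔ g ∈ center G) (hP : center G ≤ P) :
    ∃ (Q : Sylow 2 S) (r : MulAut S), Mdl Q r := by
  have := fact2
  have hρ : ∀ g, f (ρ g) = 1 ↔ f g = 1 := by
    intro g
    rw [hk, hk, mem_center_iff, mem_center_iff]
    constructor
    · intro h1 x
      apply ρ.injective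
      rw [map_mul, map_mul, h1]
    · intro h1 x
      obtain ⟨x, rfl⟩ := ρ.surjective x
      rw [← map_mul, ← map_mul, h1]
  have hker : f.ker = (f.comp ρ.toMonoidHom).ker := by
    ext g
    exact (hρ g).symm
  let r : MulAut S := (QuotientGroup.quotientKerEquivOfSurjective f hf).symm.trans
    ((QuotientGroup.quotientMulEquivOfEq hker).trans
      (QuotientGroup.quotientKerEquivOfSurjective (f.comp ρ.toMonoidHom) (hf.comp ρ.surjective)))
  have hr : ∀ g, r (f g) = f (ρ g) := by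
    intro g
    have h1 : (QuotientGroup.quotientKerEquivOfSurjective f hf).symm (f g) = QuotientGroup.mk g := by
      rw [MulEquiv.symm_apply_eq]
      rfl
    show (QuotientGroup.quotientKerEquivOfSurjective (f.comp ρ.toMonoidHom) (hf.comp ρ.surjective))
      ((QuotientGroup.quotientMulEquivOfEq hker)
        ((QuotientGroup.quotientKerEquivOfSurjective f hf).symm (f g))) = _
    rw [h1]
    rfl
  let Q : Sylow 2 S := P.mapSurjective hf
  have hQ : ∀ g, f g ∈ (Q : Subgroup S) ↔ g ∈ (P : Subgroup G) := by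
    intro g
    refine ⟨?_, fun hg => ⟨g, hg, rfl⟩⟩
    rintro ⟨x, hx, h1⟩
    have h2 : x⁻¹ * g ∈ center G := by
      rw [← hk, map_mul, map_inv, h1, inv_mul_cancel]
    have h3 := mul_mem hx (hP h2)
    rwa [mul_inv_cancel_left] at h3
  have hN : ∀ g, f g ∈ normalizer ((Q : Subgroup S) : Set S) ↔ g ∈ normalizer ((P : Subgroup G) : Set G) := by
    intro g
    rw [mem_normalizer_iff, mem_normalizer_iff]
    constructor
    · intro h1 x
      rw [← hQ, ← hQ, map_mul, map_mul, map_inv]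
      exact h1 _
    · intro h1 x
      obtain ⟨x, rfl⟩ := hf x
      rw [← map_inv, ← map_mul, ← map_mul, hQ, hQ]
      exact h1 x
  refine ⟨Q, r, ?_, ?_, ?_, ?_, ?_⟩
  · intro q hq
    obtain ⟨q, rfl⟩ := hf q
    rw [hr, hQ]
    exact h.map q ((hQ q).1 hq)
  · obtain ⟨q, hq, h1⟩ := h.sq
    refine ⟨f q, (hQ q).2 hq, ?_⟩
    ext x
    obtain ⟨x, rfl⟩ := hf x
    rw [MulAut.mul_apply, hr, hr, ← MulAut.mul_apply, h1]
    simp only [_root_.MulAut.conj_apply, _root_.map_mul, _root_.map_inv]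
  · intro y hy h1
    obtain ⟨y, rfl⟩ := hf y
    rw [hr, ← map_inv, ← map_mul, hQ] at h1
    exact (hQ y).2 (h.fpf y ((hN y).1 hy) h1)
  · obtain ⟨y, hy, hy'⟩ := h.ne
    exact ⟨f y, (hN y).2 hy, fun h1 => hy' ((hQ y).1 h1)⟩
  · intro y hy ho
    obtain ⟨g, rfl⟩ := hf y
    obtain ⟨k, hk'⟩ := exists_odd_pow g
    have h1 : g ^ 2 ^ k ∈ centralizer ((P : Subgroup G) : Set G) := by
      rw [mem_centralizer_iff]
      intro x hx
      set a := g ^ 2 ^ k with ha
      have h2 : a⁻¹ * x⁻¹ * a * x ∈ center G := by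
        have h3 := mem_centralizer_iff.1 (pow_mem hy (2 ^ k)) _ ((hQ x).2 hx)
        rw [← map_pow, ← ha] at h3
        rw [← hk, map_mul, map_mul, map_mul, map_inv, map_inv, mul_assoc, ← h3]
        group
      set z := a⁻¹ * x⁻¹ * a * x with hz
      have h3 : x⁻¹ * a * x = a * z := by rw [hz]; group
      have h4 : Commute a z := mem_center_iff.1 h2 a
      have h5 : z ^ orderOf a = 1 := by
        have h6 : (x⁻¹ * a * x⁻¹⁻¹) ^ orderOf a = 1 := by
          rw [conj_pow, pow_orderOf_eq_one]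
          group
        rwa [inv_inv, h3, h4.mul_pow, pow_orderOf_eq_one, one_mul] at h6
      have h6 : z = 1 := eq_one_of_odd_of_mem P.isPGroup' (hP h2)
        (Odd.of_dvd_nat hk' (orderOf_dvd_of_pow_eq_one h5))
      rw [h6, mul_one] at h3
      calc x * a = x * (x⁻¹ * a * x) := by rw [h3]
        _ = a * x := by group
    have h2 := h.cent _ h1 hk'
    have h3 : orderOf (f g) ∣ 2 ^ k := orderOf_dvd_of_pow_eq_one (by rw [← map_pow, h2, map_one])
    exact orderOf_eq_one_iff.1 (((Nat.coprime_two_right.2 ho).pow_right k).eq_one_of_dvd h3)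

end

end Cfsg.Agent.GAL.Nrm
end

-- part: GAL/Two/Red
section
prune_inst 0x4107029451540020000180090810060c565000190002000014824050a080443230542a141dc10170008082ac0600900481000005980000000000006000004002090aa540433342d0c34001f809006090c0000000000000000000080000000000400c010000
set_option linter.all false
open scoped Cfsg.Agent.FastGrp

/-!
# S4617 / S4618, characteristic 2: reduction of the box to a complement (helper10, GAL)

`Φ` is a group of automorphisms which normalizes the Sylow 2-subgroup `Q` and whose image in `Out S` has odd index.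

* `DDA Q A` : `A` has no fixed points on the odd part of `N(Q) / Q`;
* `box_of_phi` : `Box S` follows from `DDA Q A ↔ FF A` for the 2-subgroups `A` of `Φ`;
* `odd_index`, `odd_index_one`, `odd_index_two` : the index is odd by counting;
* `cases_two`, `cases_one` : the 2-subgroups of `⟨f, g⟩` and of `⟨f⟩`.
-/

set_option autoImplicit false

namespace Cfsg.Agent.GAL.Two

open Cfsg Cfsg.Agent.H601.K4 Cfsg.Agent.TAB.Use Cfsg.Agent.ODD.Red Subgroup Cfsg.Agent.GAL.Nrm

universe u v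

variable {S : Type u} [Group S]

/-- `A` has no fixed points on the odd part of `N(Q) / Q` -/
def DDA (Q : Sylow 2 S) (A : Subgroup (MulAut S)) : Prop :=
  ∀ y ∈ normalizer ((Q : Subgroup S) : Set S), Odd (orderOf y) → (∀ r ∈ A, y⁻¹ * r y ∈ (Q : Subgroup S)) → y = 1

/-- the image of a group of automorphisms in `Out S` -/
def outOf (Φ : Subgroup (MulAut S)) : Subgroup (Out S) := Φ.map (QuotientGroup.mk' (Inn S))

theorem dd_conj [Finite S] {Q Q₀ : Sylow 2 S} {R : Subgroup (MulAut S)} (α : MulAut S)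
    (hQ : ∀ x, x ∈ (Q : Subgroup S) ↔ α⁻¹ x ∈ (Q₀ : Subgroup S)) :
    DD Q R ↔ DD Q₀ (R.map (MulAut.conj α⁻¹).toMonoidHom) := by
  have ho : ∀ (β : MulAut S) (y : S), orderOf (β y) = orderOf y := fun β y => MulEquiv.orderOf_eq β y
  constructor
  · rintro h y hy h1 _ ⟨r, hr, rfl⟩
    have h2 := h (α y) (by rwa [ho]) (fun r' hr' => ?_) r hr
    · show α⁻¹ (r (α⁻¹⁻¹ y)) = y
      rw [inv_inv, h2, MulAut.inv_apply_self]
    · have h3 := h1 _ ⟨r', hr', rfl⟩
      rw [hQ, map_mul, map_inv, MulAut.inv_apply_self]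
      exact h3
  · intro h y hy h1 r hr
    have h2 := h (α⁻¹ y) (by rwa [ho]) ?_ _ ⟨r, hr, rfl⟩
    · have h3 : α⁻¹ (r (α (α⁻¹ y))) = α⁻¹ y := h2
      rw [MulAut.apply_inv_self] at h3
      exact (α⁻¹).injective h3
    · rintro _ ⟨r', hr', rfl⟩
      have h3 := (hQ _).1 (h1 r' hr')
      rw [map_mul, map_inv] at h3
      show (α⁻¹ y)⁻¹ * α⁻¹ (r' (α (α⁻¹ y))) ∈ _
      rwa [MulAut.apply_inv_self]

theorem FF.conj [Finite S] {R : Subgroup (MulAut S)} (h : FF R) (α : MulAut S) :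
    FF (R.map (MulAut.conj α⁻¹).toMonoidHom) := by
  intro θ h1 h2 h3 σ hσ s
  have h5 := h (fun x => θ (α⁻¹ x)) (oddIrr_comp (f := (α⁻¹).toMonoidHom) (α⁻¹).surjective h1)
    (inB0_equiv α⁻¹ h1 h2) (fun r hr x => ?_) σ hσ (α s)
  · simpa using h5
  · have h6 := h3 _ ⟨r, hr, rfl⟩ (α⁻¹ x)
    have h7 : θ (α⁻¹ (r (α (α⁻¹ x)))) = θ (α⁻¹ x) := h6
    rwa [MulAut.apply_inv_self] at h7

theorem ff_conj [Finite S] {R : Subgroup (MulAut S)} (α : MulAut S) :
    FF R ↔ FF (R.map (MulAut.conj α⁻¹).toMonoidHom) := by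
  refine ⟨fun h => FF.conj h α, fun h => ?_⟩
  have h1 := FF.conj h α⁻¹
  rw [Subgroup.map_map] at h1
  have h2 : (MulAut.conj α⁻¹⁻¹).toMonoidHom.comp (MulAut.conj α⁻¹).toMonoidHom = MonoidHom.id (MulAut S) := by
    ext1 r
    simp only [MulAut.conj_apply, _root_.inv_inv, _root_.MulEquiv.toMonoidHom_eq_coe, _root_.map_inv, _root_.MonoidHom.coe_comp, _root_.MonoidHom.coe_coe, _root_.MulAut.coe_inv, _root_.Function.comp_apply, _root_.MulAut.conj_symm_apply, _root_.MonoidHom.id_apply]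
    group
  rwa [h2, Subgroup.map_id] at h1

/-- frames inside `Q Φ` -/
theorem dd_iff [Finite S] (hC : NoC S) {Q : Sylow 2 S} {R A : Subgroup (MulAut S)} (hR : Frame Q R) (hA : A ≤ R)
    (h : ∀ r ∈ R, ∃ q ∈ (Q : Subgroup S), ∃ a ∈ A, r = MulAut.conj q * a) : DD Q R ↔ DDA Q A := by
  constructor
  · intro hD y hy ho h1
    refine hC Q y (mem_centralizer_iff.2 fun q hq => ?_) ho
    have h2 := hD y ho (fun r hr => ?_) _ (hR.inn q hq)
    · rw [MulAut.conj_apply] at h2
      exact mul_inv_eq_iff_eq_mul.1 h2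
    · obtain ⟨q', hq', a, ha, rfl⟩ := h r hr
      have h3 := (mem_normalizer_iff.1 (inv_mem hy) q').1 hq'
      rw [inv_inv] at h3
      have h4 := mul_mem (mul_mem h3 (h1 a ha)) (inv_mem hq')
      rw [MulAut.mul_apply, MulAut.conj_apply]
      rwa [show y⁻¹ * q' * y * (y⁻¹ * a y) * q'⁻¹ = y⁻¹ * (q' * a y * q'⁻¹) by group] at h4
  · intro hD y ho h1 r _
    have h2 : y⁻¹ ∈ normalizer ((Q : Subgroup S) : Set S) := by
      refine mem_normalizer_fintype fun x hx => ?_
      have h6 := (Q : Subgroup S).mul_mem (h1 _ (hR.inn _ hx)) hx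
      rw [MulAut.conj_apply, show y⁻¹ * (x * y * x⁻¹) * x = y⁻¹ * x * y by group] at h6
      rwa [inv_inv]
    rw [hD y (by simpa using inv_mem h2) ho fun a ha => h1 a (hA ha), map_one]

theorem ff_iff {Q : Sylow 2 S} {R A : Subgroup (MulAut S)} (hA : A ≤ R)
    (h : ∀ r ∈ R, ∃ q ∈ (Q : Subgroup S), ∃ a ∈ A, r = MulAut.conj q * a) : FF R ↔ FF A := by
  constructor
  · intro hF θ h1 h2 h3
    refine hF θ h1 h2 fun r hr s => ?_
    obtain ⟨q, -, a, ha, rfl⟩ := h r hr
    rw [MulAut.mul_apply, MulAut.conj_apply, Cfsg.Agent.Characters.Core.isIrr_isClassFunction h1.1, h3 a ha]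
  · exact fun hF θ h1 h2 h3 => hF θ h1 h2 fun a ha => h3 a (hA ha)

/-- **the box from the 2-subgroups of `Φ`** -/
theorem box_of_phi [Finite S] (hZ : center S = ⊥) (hC : NoC S) (Q₀ : Sylow 2 S) (Φ : Subgroup (MulAut S))
    (hN : ∀ r ∈ Φ, ∀ q ∈ (Q₀ : Subgroup S), r q ∈ (Q₀ : Subgroup S)) (hO : Odd (outOf Φ).index)
    (h : ∀ A ≤ Φ, IsPGroup 2 A → (DDA Q₀ A ↔ FF A)) : Box S := by
  have := fact2
  intro Q R hR
  obtain ⟨T⟩ : Nonempty (Sylow 2 ↥Φ) := inferInstance
  set T' : Subgroup (MulAut S) := (T : Subgroup ↥Φ).map Φ.subtype with hT'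
  have hT2 : IsPGroup 2 T' := T.isPGroup'.map _
  have hTΦ : T' ≤ Φ := map_subtype_le _
  set C : Subgroup (MulAut S) := (Q₀ : Subgroup S).map (MulAut.conj : S →* MulAut S) with hCdef
  have hC2 : IsPGroup 2 C := Q₀.isPGroup'.map _
  have hn : T' ≤ normalizer (C : Set (MulAut S)) := by
    intro r hr
    refine mem_normalizer_fintype ?_
    rintro _ ⟨q, hq, rfl⟩
    rw [conj_conj]
    exact ⟨_, hN r (hTΦ hr) q hq, rfl⟩
  obtain ⟨P₀, hP₀⟩ := (hC2.to_sup_of_normal_left' hT2 hn).exists_le_sylow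
  obtain ⟨P, hP⟩ := hR.two.exists_le_sylow
  have fP : Frame Q (P : Subgroup (MulAut S)) := ⟨P.isPGroup', fun q hq => hP (hR.inn q hq)⟩
  have fP₀ : Frame Q₀ (P₀ : Subgroup (MulAut S)) :=
    ⟨P₀.isPGroup', fun q hq => hP₀ (le_sup_left (a := C) ⟨q, hq, rfl⟩)⟩
  -- the image of `T'` is a Sylow subgroup of `Out S`
  have hind : ¬ 2 ∣ (outOf T').index := by
    have h1 : (outOf T').relIndex (outOf Φ) ∣ T'.relIndex Φ := by
      rw [outOf, outOf, ← relIndex_comap]
      exact relIndex_dvd_of_le_left Φ (le_comap_map _ _)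
    have h3 : T'.relIndex Φ = (T : Subgroup ↥Φ).index := by
      rw [relIndex, hT', subgroupOf, comap_map_eq_self_of_injective Φ.subtype_injective]
    have h6 : outOf T' ≤ outOf Φ := map_mono hTΦ
    rw [← relIndex_mul_index h6]
    intro h4
    rcases (Nat.Prime.dvd_mul Nat.prime_two).1 h4 with h5 | h5
    · exact T.not_dvd_index (h3 ▸ h5.trans h1)
    · exact odd_iff'.1 hO h5
  have hsyl : outOf (P₀ : Subgroup (MulAut S)) = outOf T' :=
    ((hT2.map (QuotientGroup.mk' (Inn S))).toSylow hind).is_maximal' (P₀.isPGroup'.map _)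
      (map_mono (le_sup_right.trans hP₀))
  have hdec : ∀ r ∈ (P₀ : Subgroup (MulAut S)), ∃ q ∈ (Q₀ : Subgroup S), ∃ a ∈ T', r = MulAut.conj q * a := by
    intro r hr
    have h1 : (QuotientGroup.mk r : Out S) ∈ outOf T' := hsyl ▸ ⟨r, hr, rfl⟩
    obtain ⟨a, ha, h2⟩ := h1
    obtain ⟨q, hq⟩ := exists_of_mk_eq h2.symm
    refine ⟨q, fP₀.mem hZ ?_, a, ha, hq⟩
    rw [eq_mul_inv_of_mul_eq hq.symm]
    exact mul_mem hr (inv_mem (hP₀ (le_sup_right (a := C) ha)))
  obtain ⟨α, rfl⟩ := MulAction.exists_smul_eq (MulAut S) P₀ P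
  have hmem : ∀ x, x ∈ ((α • P₀ : Sylow 2 (MulAut S)) : Subgroup (MulAut S)) ↔
      α⁻¹ * x * α ∈ (P₀ : Subgroup (MulAut S)) := by
    intro x
    rw [Sylow.coe_subgroup_smul, Subgroup.mem_pointwise_smul_iff_inv_smul_mem, ← map_inv, MulAut.smul_def,
      MulAut.conj_apply, inv_inv]
  have hQ : ∀ x, x ∈ (Q : Subgroup S) ↔ α⁻¹ x ∈ (Q₀ : Subgroup S) := by
    intro x
    have h1 := conj_conj α⁻¹ x
    rw [inv_inv] at h1
    constructor
    · intro hx
      refine fP₀.mem hZ ?_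
      rw [← h1, ← hmem]
      exact fP.inn x hx
    · intro hx
      refine fP.mem hZ ?_
      rw [hmem, h1]
      exact fP₀.inn _ hx
  set R₀ := R.map (MulAut.conj α⁻¹).toMonoidHom with hR₀
  have hle : R₀ ≤ P₀ := by
    rintro _ ⟨r, hr, rfl⟩
    have h1 := (hmem r).1 (hP hr)
    simpa only [MulAut.conj_apply, _root_.map_inv, _root_.MulEquiv.toMonoidHom_eq_coe, _root_.MonoidHom.coe_coe, _root_.MulAut.inv_apply, _root_.MulAut.conj_symm_apply] using h1
  have fR₀ : Frame Q₀ R₀ := by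
    refine ⟨hR.two.map _, fun q hq => ⟨MulAut.conj (α q), hR.inn _ ?_, ?_⟩⟩
    · rw [hQ, MulAut.inv_apply_self]
      exact hq
    · show α⁻¹ * MulAut.conj (α q) * α⁻¹⁻¹ = _
      rw [conj_conj, MulAut.inv_apply_self]
  have hdec' : ∀ r ∈ R₀, ∃ q ∈ (Q₀ : Subgroup S), ∃ a ∈ R₀ ⊓ T', r = MulAut.conj q * a := by
    intro r hr
    obtain ⟨q, hq, a, ha, h1⟩ := hdec r (hle hr)
    refine ⟨q, hq, a, Subgroup.mem_inf.2 ⟨?_, ha⟩, h1⟩
    rw [eq_inv_mul_of_mul_eq h1.symm]
    exact mul_mem (inv_mem (fR₀.inn q hq)) hr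
  rw [dd_conj α hQ, ff_conj α, dd_iff hC fR₀ inf_le_left hdec', ff_iff inf_le_left hdec']
  exact h _ (inf_le_right.trans hTΦ) (hT2.to_inf_right)

/-! ### the index is odd -/

theorem odd_index [Finite S] {Γ : Type v} [Group Γ] [Finite Γ] (ρ : Γ →* MulAut S) {m : ℕ} (hm : Odd m)
    (hc : Nat.card (Out S) ∣ Nat.card Γ * m) (hi : ∀ x : Γ, x ^ 2 = 1 → Inner (ρ x) → x = 1) :
    Odd (outOf ρ.range).index := by
  have := fact2
  set π := (QuotientGroup.mk' (Inn S)).comp ρ with hπ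
  have h1 : outOf ρ.range = π.range := by rw [outOf, hπ, MonoidHom.range_comp]
  have h2 : Odd (Nat.card π.ker) := by
    rw [odd_iff']
    intro h3
    obtain ⟨x, hx⟩ := exists_prime_orderOf_dvd_card' 2 h3
    have h4 : (x : Γ) = 1 := hi x (by rw [← hx, ← Subgroup.coe_pow, pow_orderOf_eq_one, OneMemClass.coe_one])
      ((inner_iff _).2 x.2)
    rw [show x = 1 from Subtype.ext h4, orderOf_one] at hx
    omega
  have h3 : Nat.card π.ker * Nat.card π.range = Nat.card Γ := by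
    rw [← index_ker, card_mul_index]
  have h4 := card_mul_index π.range
  rw [← h4, ← h3, mul_comm (Nat.card π.ker), mul_assoc] at hc
  rw [h1]
  exact Odd.of_dvd_nat (h2.mul hm) (Nat.dvd_of_mul_dvd_mul_left Nat.card_pos hc)

/-- the homomorphism from a cyclic group -/
def cyc {G : Type v} [Group G] (f : G) (n : ℕ) (hf : f ^ n = 1) : Multiplicative (ZMod n) →* G :=
  AddMonoidHom.toMultiplicativeLeft (ZMod.lift n ⟨zmultiplesHom (Additive G) (Additive.ofMul f), by
    show Additive.ofMul (f ^ (n : ℤ)) = 0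
    rw [zpow_natCast, hf]
    rfl⟩)

theorem cyc_apply {G : Type v} [Group G] (f : G) (n : ℕ) (hf : f ^ n = 1) (i : ℕ) :
    cyc f n hf (Multiplicative.ofAdd (i : ZMod n)) = f ^ i := by
  have h1 : ((i : ℤ) : ZMod n) = (i : ZMod n) := Int.cast_natCast i
  rw [← h1, cyc, AddMonoidHom.toMultiplicativeLeft_apply_apply, toAdd_ofAdd, ZMod.lift_coe]
  show f ^ (i : ℤ) = f ^ i
  rw [zpow_natCast]

theorem exists_val {n : ℕ} (hn : n ≠ 0) (x : Multiplicative (ZMod n)) :
    ∃ i < n, x = Multiplicative.ofAdd (i : ZMod n) := by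
  have : NeZero n := ⟨hn⟩
  exact ⟨(Multiplicative.toAdd x).val, ZMod.val_lt _, by rw [ZMod.natCast_zmod_val, ofAdd_toAdd]⟩

theorem sq_val {n i : ℕ} (hi : i < n) (h : (Multiplicative.ofAdd (i : ZMod n)) ^ 2 = 1) : i = 0 ∨ 2 * i = n := by
  have h1 : ((2 * i : ℕ) : ZMod n) = 0 := by
    have h2 := congrArg Multiplicative.toAdd h
    rw [toAdd_pow, toAdd_ofAdd, toAdd_one] at h2
    rw [← h2, nsmul_eq_mul, Nat.cast_mul]
  obtain ⟨c, hc⟩ := (ZMod.natCast_eq_zero_iff _ _).1 h1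
  have h3 : c < 2 := by
    by_contra h4
    have : n * 2 ≤ n * c := Nat.mul_le_mul_left n (by omega)
    omega
  interval_cases c <;> omega

theorem odd_index_one [Finite S] {f : MulAut S} {n m : ℕ} (hn : n ≠ 0) (hf : f ^ n = 1) (hm : Odd m)
    (hc : Nat.card (Out S) ∣ n * m) (hi : ∀ i, 2 * i = n → ¬ Inner (f ^ i)) : Odd (outOf (zpowers f)).index := by
  have : NeZero n := ⟨hn⟩
  have h1 := odd_index (cyc f n hf) hm (by simpa only [_root_.Nat.card_eq_fintype_card, _root_.Fintype.card_multiplicative, _root_.ZMod.card] using hc) fun x hx h2 => by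
    obtain ⟨i, hi', rfl⟩ := exists_val hn x
    rcases sq_val hi' hx with h3 | h3
    · rw [h3, Nat.cast_zero, ofAdd_zero]
    · rw [cyc_apply] at h2
      exact absurd h2 (hi i h3)
  refine Odd.of_dvd_nat h1 (index_dvd_of_le (map_mono ?_))
  rintro _ ⟨x, rfl⟩
  obtain ⟨i, -, rfl⟩ := exists_val hn x
  rw [cyc_apply]
  exact npow_mem_zpowers f i

theorem odd_index_two [Finite S] {f g : MulAut S} {n m : ℕ} (hn : n ≠ 0) (hf : f ^ n = 1) (hg : g ^ 2 = 1)
    (hfg : Commute f g) (hm : Odd m) (hc : Nat.card (Out S) ∣ 2 * n * m) (hg' : ¬ Inner g)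
    (hi : ∀ i, 2 * i = n → ¬ Inner (f ^ i) ∧ ¬ Inner (f ^ i * g)) : Odd (outOf (_root_.Subgroup.closure {f, g})).index := by
  have : NeZero n := ⟨hn⟩
  have hcomm : ∀ x y, Commute (cyc f n hf x) (cyc g 2 hg y) := by
    intro x y
    obtain ⟨i, -, rfl⟩ := exists_val hn x
    obtain ⟨j, -, rfl⟩ := exists_val two_ne_zero y
    rw [cyc_apply, cyc_apply]
    exact hfg.pow_pow i j
  have h1 := odd_index ((cyc f n hf).noncommCoprod (cyc g 2 hg) hcomm) hm (by simpa only [mul_comm, _root_.Nat.card_eq_fintype_card, _root_.Fintype.card_prod, _root_.Fintype.card_multiplicative, _root_.ZMod.card] using hc)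
    fun x hx h2 => by
      obtain ⟨x, y⟩ := x
      obtain ⟨i, hi', rfl⟩ := exists_val hn x
      obtain ⟨j, hj, rfl⟩ := exists_val two_ne_zero y
      rw [MonoidHom.noncommCoprod_apply, cyc_apply, cyc_apply] at h2
      rcases sq_val hi' (congrArg Prod.fst hx) with h3 | h3
      · subst h3
        interval_cases j
        · simp
        · exact absurd (by simpa using h2) hg'
      · interval_cases j
        · exact absurd (by simpa using h2) (hi i h3).1
        · exact absurd (by simpa using h2) (hi i h3).2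
  refine Odd.of_dvd_nat h1 (index_dvd_of_le (map_mono ?_))
  rintro _ ⟨⟨x, y⟩, rfl⟩
  obtain ⟨i, -, rfl⟩ := exists_val hn x
  obtain ⟨j, -, rfl⟩ := exists_val two_ne_zero y
  rw [MonoidHom.noncommCoprod_apply, cyc_apply, cyc_apply]
  exact mul_mem (pow_mem (_root_.Subgroup.subset_closure (by simp)) _) (pow_mem (_root_.Subgroup.subset_closure (by simp)) _)

/-! ### the 2-subgroups of `⟨f, g⟩` -/

section

variable {G : Type v} [Group G]

theorem mem_closure_two {f g : G} {n : ℕ} (hn : n ≠ 0) (hf : f ^ n = 1) (hg : g ^ 2 = 1) (hfg : Commute f g) {x : G}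
    (hx : x ∈ _root_.Subgroup.closure ({f, g} : Set G)) : ∃ i : ℕ, x = f ^ i ∨ x = f ^ i * g := by
  have hgg : g * g = 1 := by rw [← hg, sq]
  have hmul : ∀ i j : ℕ, f ^ i * g * f ^ j = f ^ (i + j) * g := fun i j => by
    rw [mul_assoc, ← (hfg.pow_left j).eq, ← mul_assoc, ← pow_add]
  induction hx using closure_induction with
  | mem x hx =>
    rcases hx with rfl | rfl
    · exact ⟨1, Or.inl (pow_one _).symm⟩
    · exact ⟨0, Or.inr (by simp)⟩
  | one => exact ⟨0, Or.inl (pow_zero _).symm⟩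
  | mul x y _ _ hx hy =>
    obtain ⟨i, rfl | rfl⟩ := hx <;> obtain ⟨j, rfl | rfl⟩ := hy
    · exact ⟨i + j, Or.inl (pow_add _ _ _).symm⟩
    · exact ⟨i + j, Or.inr (by rw [pow_add, mul_assoc])⟩
    · exact ⟨i + j, Or.inr (hmul i j)⟩
    · exact ⟨i + j, Or.inl (by rw [← mul_assoc, hmul, mul_assoc, hgg, mul_one])⟩
  | inv x _ hx =>
    obtain ⟨k, rfl⟩ := Nat.exists_eq_succ_of_ne_zero hn
    have h1 : ∀ i : ℕ, f ^ i * f ^ (i * k) = 1 := fun i => by
      rw [← pow_add, show i + i * k = (k + 1) * i by ring, pow_mul, hf, one_pow]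
    obtain ⟨i, rfl | rfl⟩ := hx
    · exact ⟨i * k, Or.inl (inv_eq_of_mul_eq_one_right (h1 i))⟩
    · refine ⟨i * k, Or.inr (inv_eq_of_mul_eq_one_right ?_)⟩
      rw [← mul_assoc, hmul, mul_assoc, hgg, mul_one, pow_add, h1]

end

end Cfsg.Agent.GAL.Two

private theorem dce_99048e39c052 : _root_.True := by
  try have : _root_.True := by simp only [_root_.Cfsg.Agent.GAL.Two.cyc.eq_1]
  try have : _root_.True := by simp only [_root_.Cfsg.Agent.GAL.Two.outOf.eq_1]
  exact _root_.True.intro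
end

-- part: GAL/Nrm/Sp
section
prune_inst 0x4d0506d4555400000001c0090a100608575000190002000000964010a0048c30020428141bc201500100c2a502009006811100040c20000000a00000000040000000804009008200820000080000401000000000000000000000080000000000400c010000
set_option linter.all false
open scoped Cfsg.Agent.FastGrp

/-!
# S4617 / S4618, the group side: the quaternion model of the symplectic groups (helper10, GAL)

* `self_GU` : `2` a square, the Sylow 2-subgroups of `GU n F` are self-normalizing;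
* `mdl_GU` : `2` not a square, conjugation with `1 + i` is a model of the exceptional situation.
-/

set_option autoImplicit false
set_option linter.unusedSectionVars false

namespace Cfsg.Agent.GAL.Nrm

open Quaternion Matrix Equiv
open Cfsg.Agent.H158.PronQ Cfsg.Agent.H158.PronMat Cfsg.Agent.H158.PronMono Cfsg.Agent.H158.PronFrame
open Cfsg.Agent.H158.PronM2 Cfsg.Agent.H408.Pron.Gen

variable {F : Type*} [Field F] {n : Type*} [Fintype n] [DecidableEq n]

/-- conjugation with `1 + i` -/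
def tau (F : Type*) [Field F] : ℍ[F] ≃+* ℍ[F] where
  toFun q := mkQ q.re q.imI (-q.imK) q.imJ
  invFun q := mkQ q.re q.imI q.imK (-q.imJ)
  left_inv q := by apply Quaternion.ext <;> simp
  right_inv q := by apply Quaternion.ext <;> simp
  map_mul' p q := by apply Quaternion.ext <;> simp only [_root_.Quaternion.re_mul, _root_.Quaternion.imI_mul, _root_.Quaternion.imK_mul, _root_.neg_add_rev, _root_.neg_sub, _root_.Quaternion.imJ_mul, _root_.Cfsg.Agent.H158.PronQ.mkQ_re, _root_.Cfsg.Agent.H158.PronQ.mkQ_imI, _root_.Cfsg.Agent.H158.PronQ.mkQ_imJ, _root_.mul_neg, _root_.neg_mul, _root_.neg_neg, _root_.Cfsg.Agent.H158.PronQ.mkQ_imK, _root_.sub_neg_eq_add] <;> ring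
  map_add' p q := by apply Quaternion.ext <;> simp only [_root_.Quaternion.re_add, _root_.Quaternion.imI_add, _root_.Quaternion.imK_add, _root_.neg_add_rev, _root_.Quaternion.imJ_add, _root_.Cfsg.Agent.H158.PronQ.mkQ_re, _root_.Cfsg.Agent.H158.PronQ.mkQ_imI, _root_.Cfsg.Agent.H158.PronQ.mkQ_imJ, _root_.Cfsg.Agent.H158.PronQ.mkQ_imK] <;> ring

theorem tau_apply (q : ℍ[F]) : tau F q = mkQ q.re q.imI (-q.imK) q.imJ := rfl

theorem tau_star (q : ℍ[F]) : tau F (star q) = star (tau F q) := by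
  apply Quaternion.ext <;> simp only [tau_apply, _root_.Quaternion.re_star, _root_.Quaternion.imI_star, _root_.Quaternion.imK_star, _root_.neg_neg, _root_.Quaternion.imJ_star, _root_.Cfsg.Agent.H158.PronQ.mkQ_re, _root_.Cfsg.Agent.H158.PronQ.mkQ_imI, _root_.Cfsg.Agent.H158.PronQ.mkQ_imJ, _root_.Cfsg.Agent.H158.PronQ.mkQ_imK]

theorem tau_symm_star (q : ℍ[F]) : (tau F).symm (star q) = star ((tau F).symm q) := by
  rw [RingEquiv.symm_apply_eq, tau_star, RingEquiv.apply_symm_apply]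

theorem tau_tau (q : ℍ[F]) : tau F (tau F q) = qi * q * star qi := by
  apply Quaternion.ext <;> simp [tau_apply]

theorem tau_isQ8 {q : ℍ[F]} (h : IsQ8 q) : IsQ8 (tau F q) := by
  have h1 : tau F qi = qi := by apply Quaternion.ext <;> simp [tau_apply]
  have h2 : tau F qj = qk := by apply Quaternion.ext <;> simp [tau_apply]
  have h3 : tau F qk = -qj := by apply Quaternion.ext <;> simp [tau_apply]
  rcases h with h | h | h | h | h | h | h | h <;> subst h <;> simp [IsQ8, h1, h2, h3]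

theorem om_mul_tau (h2 : (2 : F) ≠ 0) : IsQ8 (omQ F * tau F (omQ F)) := by
  have ht := two_half h2
  have h1 : omQ F * tau F (omQ F) = -qk := by
    apply Quaternion.ext <;> simp only [omQ, tau_apply, _root_.Cfsg.Agent.H158.PronQ.mkQ_re, _root_.Cfsg.Agent.H158.PronQ.mkQ_imI, _root_.Cfsg.Agent.H158.PronQ.mkQ_imK, _root_.Cfsg.Agent.H158.PronQ.mkQ_imJ, _root_.Quaternion.re_mul, _root_.mul_neg, _root_.neg_mul, _root_.neg_neg, _root_.sub_self, _root_.sub_neg_eq_add, _root_.zero_add, _root_.Quaternion.re_neg, _root_.Cfsg.Agent.H158.PronQ.qk_re, _root_.neg_zero, _root_.Quaternion.imI_mul, _root_.neg_add_cancel_right, _root_.Quaternion.imI_neg, _root_.Cfsg.Agent.H158.PronQ.qk_imI, _root_.Quaternion.imJ_mul, _root_.neg_add_cancel, _root_.Quaternion.imJ_neg, _root_.Cfsg.Agent.H158.PronQ.qk_imJ, _root_.Quaternion.imK_mul, _root_.Quaternion.imK_neg, _root_.Cfsg.Agent.H158.PronQ.qk_imK] <;> field_simp <;> ring1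
  rw [h1]
  simp [IsQ8]

/-- entrywise application of a ring automorphism which commutes with the conjugation -/
def mapGU (t : ℍ[F] ≃+* ℍ[F]) (ht : ∀ q, t (star q) = star (t q)) (g : GU n F) : GU n F :=
  ⟨g.1.map t, by
    have h1 : (g.1.map t)ᴴ = g.1ᴴ.map t := by
      ext1 a b
      rw [Matrix.conjTranspose_apply, Matrix.map_apply, Matrix.map_apply, Matrix.conjTranspose_apply, ht]
    have h2 : ∀ A B : Matrix n n ℍ[F], A.map t * B.map t = (A * B).map t := fun A B =>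
      (Matrix.map_mul (f := t)).symm
    rw [mem_GU, h1, h2, h2, star_mul_coe, coe_mul_star]
    exact ⟨Matrix.map_one t (map_zero t) (map_one t), Matrix.map_one t (map_zero t) (map_one t)⟩⟩

/-- conjugation with the scalar `1 + i` -/
def tauG (n : Type*) [Fintype n] [DecidableEq n] (F : Type*) [Field F] : MulAut (GU n F) where
  toFun := mapGU (tau F) tau_star
  invFun := mapGU (tau F).symm tau_symm_star
  left_inv g := Subtype.ext (by
    ext1 a b
    exact (tau F).symm_apply_apply _)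
  right_inv g := Subtype.ext (by
    ext1 a b
    exact (tau F).apply_symm_apply _)
  map_mul' g h := Subtype.ext (Matrix.map_mul (f := tau F))

theorem tauG_apply (g : GU n F) (a b : n) : (tauG n F g).1 a b = tau F (g.1 a b) := rfl

/-- conjugation with `1 + i` on the elements of norm one -/
def tauU (u : U F) : U F := ⟨tau F u, by
  have h1 : (u : ℍ[F]) * star (u : ℍ[F]) = 1 := Unitary.coe_mul_star_self u
  rw [Unitary.mem_iff, ← tau_star, ← map_mul, ← map_mul, Unitary.coe_star_mul_self, h1, map_one]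
  exact ⟨rfl, rfl⟩⟩

theorem tauU_mul (u v : U F) : tauU (u * v) = tauU u * tauU v := Subtype.ext (map_mul (tau F) _ _)

theorem tauU_mem {u : U F} (h : u ∈ Q8 F) : tauU u ∈ Q8 F := tau_isQ8 h

theorem om_mem_of_sq (h2 : (2 : F) ≠ 0) (h : om h2 * om h2 ∈ Q8 F) : False := by
  apply om_notMem h2
  have h1 : om h2 = (om h2 * om h2)⁻¹ := by
    rw [eq_inv_iff_mul_eq_one, ← om_cube h2, pow_three]
  rw [h1]
  exact inv_mem h

/-- no fixed points on the normalizer of `Q8` modulo `Q8` -/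
theorem mem_of_tau (h2 : (2 : F) ≠ 0) (hns : ¬ IsSquare (2 : F)) {u : U F} (hu : u ∈ N8 F)
    (h : u⁻¹ * tauU u ∈ Q8 F) : u ∈ Q8 F := by
  have h0 : om h2 * tauU (om h2) ∈ Q8 F := om_mul_tau h2
  rcases N8_cases h2 hns hu with h1 | h1
  · exact h1
  exfalso
  apply om_mem_of_sq h2
  rcases half_mem h2 h1 with h3 | h3
  · have h4 : u = om h2 * ((om h2)⁻¹ * u) := by group
    generalize (om h2)⁻¹ * u = v at h3 h4
    subst h4
    rw [tauU_mul] at h
    have h5 := mul_mem h0 (inv_mem (mul_mem (mul_mem h3 h) (inv_mem (tauU_mem h3))))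
    rwa [show om h2 * tauU (om h2) * (v * ((om h2 * v)⁻¹ * (tauU (om h2) * tauU v)) * (tauU v)⁻¹)⁻¹ =
      om h2 * om h2 by group] at h5
  · have h4 : tauU (om h2) * tauU u ∈ Q8 F := by
      rw [← tauU_mul]
      exact tauU_mem h3
    have h5 := mul_mem (mul_mem h3 h) (inv_mem h4)
    have h6 := om_conj_mem' h2 h0
    have h7 := mul_mem h5 h6
    rwa [show om h2 * u * (u⁻¹ * tauU u) * (tauU (om h2) * tauU u)⁻¹ * ((om h2)⁻¹ * (om h2 * tauU (om h2)) * om h2) =
      om h2 * om h2 by group] at h7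

/-- the centralizer of the base group -/
theorem mem_SG_of_comm' (h2 : (2 : F) ≠ 0) {z : GU n F} (hz : ∀ b, ∀ w ∈ Q8 F, Rj b w * z = z * Rj b w)
    (T : Subgroup (Perm n)) : z ∈ SG (Q8 F) T := by
  have hd : ∀ a b : n, a ≠ b → z.1 a b = 0 := by
    intro a b hab
    have h1 := congrArg (fun g : GU n F => g.1 a b) (hz b nu nu_mem).symm
    have h3 : (z * Rj b nu).1 a b = z.1 a b * (-1) := by
      have h8 : (z * Rj b nu).1 = z.1 * (Rj b nu : GU n F).1 := rfl
      rw [h8, (Rj_mono b nu).mul_apply, Perm.one_apply, Rj_apply, if_pos rfl, if_pos rfl, coe_nu]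
    have h4 : (Rj b nu * z).1 a b = z.1 a b := by
      have h8 : (Rj b nu * z).1 = (Rj b nu : GU n F).1 * z.1 := rfl
      rw [h8, Matrix.mul_apply, Finset.sum_eq_single a]
      · rw [Rj_apply, if_pos rfl, if_neg hab, one_mul]
      · intro c _ hc
        rw [Rj_apply, if_neg (fun h => hc h.symm), zero_mul]
      · intro h; exact absurd (Finset.mem_univ _) h
    have h5 : z.1 a b * (-1) = z.1 a b := by
      rw [← h3, ← h4]; exact h1
    apply two_ne h2
    have h6 : z.1 a b + z.1 a b = 0 := by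
      nth_rewrite 1 [← h5]
      simp
    rw [two_mul]; exact h6
  have hm : Mono z.1 1 := fun a b hab => hd a b hab
  refine ⟨1, one_mem _, hm, fun b => ?_⟩
  obtain ⟨u, hu⟩ := hm.entry b
  refine ⟨u, ?_, hu⟩
  rw [Perm.one_apply] at hu
  have hc : ∀ w ∈ Q8 F, (u : ℍ[F]) * w = w * u := by
    intro w hw
    have h1 := congrArg (fun g : GU n F => g.1 b b) (hz b w hw).symm
    have h3 : (z * Rj b w).1 b b = z.1 b b * w := by
      have h8 : (z * Rj b w).1 = z.1 * (Rj b w : GU n F).1 := rfl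
      rw [h8, (Rj_mono b w).mul_apply, Perm.one_apply, Rj_apply, if_pos rfl, if_pos rfl]
    have h4 : (Rj b w * z).1 b b = w * z.1 b b := by
      have h8 : (Rj b w * z).1 = (Rj b w : GU n F).1 * z.1 := rfl
      rw [h8, hm.mul_apply, Perm.one_apply, Rj_apply, if_pos rfl, if_pos rfl]
    rw [hu, ← h3, ← h4]; exact h1
  have h1 : (u : ℍ[F]) = ((u : ℍ[F]).re : ℍ[F]) := eq_coe_of_comm h2 (hc uI uI_mem) (hc uJ uJ_mem)
  have h3 : (u : ℍ[F]).re * (u : ℍ[F]).re = 1 := by
    have h4 : (u : ℍ[F]) * star (u : ℍ[F]) = 1 := Unitary.coe_mul_star_self u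
    rw [h1] at h4
    have h5 := congrArg QuaternionAlgebra.re h4
    simpa only [_root_.Quaternion.star_coe, _root_.Quaternion.re_mul, _root_.Quaternion.re_coe, _root_.Quaternion.imI_coe, _root_.MulZeroClass.mul_zero, _root_.sub_zero, _root_.Quaternion.imJ_coe, _root_.Quaternion.imK_coe, _root_.Quaternion.re_one] using h5
  rw [mem_Q8, h1]
  rcases mul_self_eq_one_iff.1 h3 with h4 | h4
  · rw [h4]
    exact Or.inl (by simp)
  · rw [h4]
    exact Or.inr (Or.inl (by simp))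

/-- **the model**, `2` not a square -/
theorem mdl_GU [Finite F] [Nonempty n] (h2 : (2 : F) ≠ 0) (hns : ¬ IsSquare (2 : F)) :
    ∃ P : Sylow 2 (GU n F), Mdl P (tauG n F) ∧ Subgroup.center (GU n F) ≤ P := by
  obtain ⟨T⟩ : Nonempty (Sylow 2 (Perm n)) := inferInstance
  obtain ⟨P, hP⟩ := exists_sylow_gen (F := F) h2 hns T
  have hC : Subgroup.centralizer ((P : Subgroup (GU n F)) : Set (GU n F)) ≤ P := by
    intro z hz
    rw [hP] at hz ⊢
    exact mem_SG_of_comm' h2 (fun b w hw => Subgroup.mem_centralizer_iff.1 hz _ (Rj_mem _ b hw)) _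
  refine ⟨P, ⟨?_, ?_, ?_, ?_, ?_⟩, (Subgroup.center_le_centralizer _).trans hC⟩
  · rw [hP]
    rintro g ⟨σ, hσ, hm, he⟩
    refine ⟨σ, hσ, fun a b hab => ?_, fun b => ?_⟩
    · rw [tauG_apply, hm a b hab, map_zero]
    · obtain ⟨w, hw, hwe⟩ := he b
      exact ⟨tauU w, tauU_mem hw, by rw [tauG_apply, ← hwe]; rfl⟩
  · refine ⟨sc uI, ?_, ?_⟩
    · rw [hP, ← Cfsg.Agent.H158.PronAvg.D_const]
      exact D_mem _ fun _ => uI_mem
    · refine MulEquiv.ext fun g => Subtype.ext ?_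
      ext1 a b
      rw [MulAut.mul_apply, tauG_apply, tauG_apply, tau_tau, MulAut.conj_apply, ← map_inv, mul_sc_apply,
        sc_mul_apply, Cfsg.Agent.H158.PronQ.coe_inv, coe_uI]
  · intro y hy h
    rw [hP] at hy h ⊢
    obtain ⟨σ, hσ, hm, hu⟩ := norm_mono h2 T ⟨uI, uI_mem, uI_sq⟩ hy
    have hm' : Mono (tauG n F y).1 σ := fun a b hab => by rw [tauG_apply, hm a b hab, map_zero]
    have hi : Mono (y⁻¹).1 σ⁻¹ := by
      have := hm.star
      rwa [← coe_inv_GU] at this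
    obtain ⟨ρ, -, hρ, he⟩ := h
    have h3 : Mono (y⁻¹ * tauG n F y).1 (σ⁻¹ * σ) := hi.mul hm'
    have h4 := hρ.unique h3
    rw [inv_mul_cancel] at h4
    subst h4
    refine ⟨σ, hσ, hm, fun b => ?_⟩
    obtain ⟨u, hue⟩ := hm.entry b
    refine ⟨u, mem_of_tau h2 hns (mem_N8_of (hu b u hue)) ?_, hue⟩
    obtain ⟨w, hw, hwe⟩ := he b
    have h5 : (y⁻¹ * tauG n F y).1 = (y⁻¹).1 * (tauG n F y).1 := rfl
    rw [Perm.one_apply, h5, hm'.mul_apply, coe_inv_GU, Matrix.conjTranspose_apply, tauG_apply, ← hue,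
      ← Cfsg.Agent.H158.PronQ.coe_inv] at hwe
    have h6 : w = u⁻¹ * tauU u := Subtype.ext hwe
    rw [← h6]
    exact hw
  · refine ⟨Dom h2 (fun _ => 1), ?_, ?_⟩
    · rw [hP]
      exact Dom_mem_normalizer h2 fun _ _ _ => rfl
    · rw [hP]
      rintro ⟨σ, -, hm, he⟩
      have h3 : σ = 1 := hm.unique (D_mono _)
      subst h3
      obtain ⟨b⟩ := ‹Nonempty n›
      obtain ⟨w, hw, hwe⟩ := he b
      rw [Perm.one_apply, Dom_apply, if_pos rfl, zpow_one] at hwe
      apply om_notMem h2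
      rw [← Subtype.ext hwe]
      exact hw
  · exact fun y hy ho => eq_one_of_odd_of_mem P.isPGroup' (hC hy) ho

/-- `2` a square: the Sylow 2-subgroups are self-normalizing -/
theorem self_GU [Finite F] (h2 : (2 : F) ≠ 0) (hs : IsSquare (2 : F)) :
    ∃ P : Sylow 2 (GU n F), Subgroup.normalizer ((P : Subgroup (GU n F)) : Set (GU n F)) ≤ P := by
  have := Fintype.ofFinite F
  have := fact2
  obtain ⟨T⟩ : Nonempty (Sylow 2 (Perm n)) := inferInstance
  have hz : IsPGroup 2 (Subgroup.zpowers (uI : U F)) :=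
    isPGroup_zpowers (k := 2) (Q8_pow uI_mem)
  obtain ⟨W, hW⟩ := hz.exists_le_sylow
  have hself : ∀ u : U F, (∀ w ∈ (W : Subgroup (U F)), u * w * u⁻¹ ∈ (W : Subgroup (U F))) →
      u ∈ (W : Subgroup (U F)) := by
    obtain ⟨e⟩ := exists_equivSL (F := F) h2
    have hodd : Odd (Fintype.card F) := by
      refine Nat.odd_iff.2 (FiniteField.odd_card_of_char_ne_two fun h => h2 ?_)
      have h0 := ringChar.Nat.cast_ringChar (R := F)
      rw [h] at h0
      exact_mod_cast h0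
    have h8 : Fintype.card F % 8 = 1 ∨ Fintype.card F % 8 = 7 := by
      have h3 := FiniteField.isSquare_two_iff.1 hs
      obtain ⟨l, hl⟩ := hodd
      omega
    intro u hu
    have h3 := (Cfsg.Agent.S2431.result hodd (W.mapSurjective (f := e.toMonoidHom) e.surjective)).2.1 h8
    have h4 : e u ∈ Subgroup.normalizer ((W.mapSurjective (f := e.toMonoidHom) e.surjective :
        Subgroup (Matrix.SpecialLinearGroup (Fin 2) F)) : Set _) := by
      apply Subgroup.mem_normalizer_fintype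
      rintro _ ⟨w, hw, rfl⟩
      refine ⟨u * w * u⁻¹, hu w hw, ?_⟩
      rw [map_mul, map_mul, map_inv]
      rfl
    rw [h3] at h4
    obtain ⟨w, hw, hwe⟩ := h4
    have h5 : w = u := e.injective hwe
    rw [← h5]; exact hw
  have hnorm := SG_self h2 T ⟨uI, hW (Subgroup.mem_zpowers _), uI_sq⟩ hself
  obtain ⟨S, hS⟩ := exists_sylow_eq (SG (W : Subgroup (U F)) (T : Subgroup (Perm n)))
    (SG_isPGroup W.isPGroup' T.isPGroup') (by
      intro m hm _
      apply hnorm
      exact Subgroup.mem_normalizer_fintype hm)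
  refine ⟨S, ?_⟩
  rw [hS]
  exact hnorm

end Cfsg.Agent.GAL.Nrm
end

-- part: GAL/Red/Coord
section
prune_inst 0x4d070054105400200001c0090210060c575000192006000014964050a0004c32225062141cc2015101818aa500001006811100050421000000a000c000004002080aa5606b348210c24001f803007190c0000000000000000000080000000000400c010000
set_option linter.all false
open scoped Cfsg.Agent.FastGrp

/-!
# The factors of a nonabelian minimal normal subgroup, group theory (helper20, GAL)

* `RR P T` : the automorphisms of `T` induced by the elements of `P`; `frame_RR`;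
* `mem_iff_coord` : an element of `N` is in `P` iff its coordinates are in `P`;
* `dd_of_dg`, `cent_of_dd` : `DG P` and the conditions `DD` of the factors.
-/

set_option autoImplicit false

namespace Cfsg.Agent.GAL

open Cfsg Subgroup Cfsg.Agent.H803.S74 Cfsg.Agent.H713

universe u

variable {G : Type u} [Group G]

/-- the automorphisms of `T` which are induced by elements of `P` -/
def RR (P T : Subgroup G) : Subgroup (MulAut T) where
  carrier := {r | ∃ g ∈ P, ∀ t : T, ((r t : T) : G) = g * t * g⁻¹}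
  one_mem' := ⟨1, one_mem _, fun t => by simp⟩
  mul_mem' := by
    rintro a b ⟨g, hg, ha⟩ ⟨h, hh, hb⟩
    refine ⟨g * h, mul_mem hg hh, fun t => ?_⟩
    rw [MulAut.mul_apply, ha, hb]
    group
  inv_mem' := by
    rintro a ⟨g, hg, ha⟩
    refine ⟨g⁻¹, inv_mem hg, fun t => ?_⟩
    have h1 := ha (a⁻¹ t)
    rw [MulAut.apply_inv_self] at h1
    rw [h1]
    group

theorem exists_RR {P T : Subgroup G} {g : G} (hg : g ∈ P) (h : T = T.map (MulAut.conj g).toMonoidHom) :
    ∃ r ∈ RR P T, ∀ t : T, ((r t : T) : G) = g * t * g⁻¹ :=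
  ⟨conjIso g h, ⟨g, hg, fun _ => rfl⟩, fun _ => rfl⟩

theorem frame_RR (P : Sylow 2 G) (T : Subgroup G) {Q : Sylow 2 T} (hQ : (Q : Subgroup T) = (P : Subgroup G).subgroupOf T) :
    Frame Q (RR (P : Subgroup G) T) := by
  constructor
  · rintro ⟨r, g, hg, hr⟩
    obtain ⟨k, hk⟩ := P.isPGroup' ⟨g, hg⟩
    have h1 : g ^ 2 ^ k = 1 := congrArg Subtype.val hk
    have h2 : ∀ (n : ℕ) (t : T), (((r ^ n) t : T) : G) = g ^ n * t * (g ^ n)⁻¹ := by
      intro n
      induction n with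
      | zero => intro t; simp
      | succ n ih =>
        intro t
        rw [pow_succ', MulAut.mul_apply, hr, ih, pow_succ']
        group
    refine ⟨k, Subtype.ext ?_⟩
    ext t
    show (((r ^ 2 ^ k) t : T) : G) = t
    rw [h2, h1]
    group
  · intro q hq
    rw [hQ] at hq
    exact ⟨q, hq, fun t => rfl⟩

section coord

variable {N : Subgroup G} [N.Normal] {m : ℕ} {T : Fin m → Subgroup G} {e : N ≃* ∀ i, T i}

omit [N.Normal] in
theorem coord_self (h : Sys N T e) {i : Fin m} (t : T i) : e ⟨t, h.le i t.2⟩ = Pi.mulSingle i t := by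
  apply e.symm.injective
  rw [MulEquiv.symm_apply_apply]
  exact Subtype.ext (h.single i t).symm

theorem coord_sig (h : Sys N T e) {σ : G →* Equiv.Perm (Fin m)}
    (hσ : ∀ g i, T (σ g i) = (T i).map (MulAut.conj g).toMonoidHom) (g : G) {i j : Fin m} (hij : σ g i = j) (n : N) :
    ((e (MulAut.conjNormal g n) j : T j) : G) = g * (e n i : G) * g⁻¹ :=
  coord_conj e h.le h.single h.one g i j (hij ▸ hσ g i) n

variable [Finite G]

/-- an element of `N` lies in `P` iff its coordinates do -/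
theorem mem_iff_coord (h : Sys N T e) (P : Sylow 2 G) (n : N) :
    (n : G) ∈ (P : Subgroup G) ↔ ∀ i, ((e n i : T i) : G) ∈ (P : Subgroup G) := by
  have := fact2
  constructor
  · intro hn i
    obtain ⟨Q, hQ⟩ := S0542.result 2 N (Normal.isSubnormal inferInstance) P
    let Q' : ∀ j, Subgroup (T j) := fun j => (Q : Subgroup N).map ((Pi.evalMonoidHom (fun j => T j) j).comp e.toMonoidHom)
    have hQ' : ∀ j, IsPGroup 2 (Q' j) := fun j => Q.isPGroup'.map _
    have h1 : IsPGroup 2 ((pi Set.univ Q').comap e.toMonoidHom) := by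
      rintro ⟨a, ha⟩
      choose k hk using fun j => hQ' j ⟨e a j, ha j trivial⟩
      refine ⟨∑ j, k j, Subtype.ext (e.injective ?_)⟩
      show e (a ^ 2 ^ ∑ j, k j) = e 1
      rw [map_pow, map_one]
      funext j
      have h2 : (e a j) ^ 2 ^ k j = 1 := congrArg Subtype.val (hk j)
      obtain ⟨c, hc⟩ : 2 ^ k j ∣ 2 ^ ∑ j, k j :=
        pow_dvd_pow 2 (Finset.single_le_sum (fun _ _ => Nat.zero_le _) (Finset.mem_univ j))
      rw [Pi.pow_apply, hc, pow_mul, h2, one_pow, Pi.one_apply]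
    have h2 := Q.is_maximal' h1 (fun a ha j _ => ⟨a, ha, rfl⟩)
    have h3 : (⟨e n i, h.le i (e n i).2⟩ : N) ∈ (pi Set.univ Q').comap e.toMonoidHom := by
      intro j _
      show e ⟨e n i, h.le i (e n i).2⟩ j ∈ Q' j
      rw [coord_self h]
      by_cases hj : j = i
      · subst hj
        rw [Pi.mulSingle_eq_same]
        exact ⟨n, by rw [SetLike.mem_coe, hQ]; exact hn, rfl⟩
      · rw [Pi.mulSingle_eq_of_ne hj]
        exact one_mem _
    rw [h2, hQ] at h3
    exact h3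
  · intro hn
    have h1 : pi Set.univ (fun i => (P : Subgroup G).subgroupOf (T i)) ≤
        (P : Subgroup G).comap (N.subtype.comp e.symm.toMonoidHom) := by
      rw [pi_le_iff]
      rintro i _ ⟨x, hx, rfl⟩
      show ((e.symm (Pi.mulSingle i x) : N) : G) ∈ (P : Subgroup G)
      rw [h.single]
      exact hx
    have h2 : ((e.symm (e n) : N) : G) ∈ (P : Subgroup G) := h1 (show e n ∈ _ from fun i _ => hn i)
    rwa [e.symm_apply_apply] at h2

omit [N.Normal] [Finite G] in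
/-- representatives for the orbit of a coordinate -/
theorem exists_reps (σ : G →* Equiv.Perm (Fin m)) (P : Subgroup G) (i : Fin m) :
    ∃ t : Fin m → G, t i = 1 ∧ ∀ j, (∃ u ∈ P, σ u i = j) → t j ∈ P ∧ σ (t j) i = j := by
  classical
  have h1 : ∀ j, ∃ t : G, (j = i → t = 1) ∧ ((∃ u ∈ P, σ u i = j) → t ∈ P ∧ σ t i = j) := by
    intro j
    by_cases hj : j = i
    · exact ⟨1, fun _ => rfl, fun _ => ⟨one_mem _, by rw [map_one, hj]; rfl⟩⟩
    · by_cases h2 : ∃ u ∈ P, σ u i = j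
      · obtain ⟨u, hu, hu'⟩ := h2
        exact ⟨u, fun h => absurd h hj, fun _ => ⟨hu, hu'⟩⟩
      · exact ⟨1, fun _ => rfl, fun h => absurd h h2⟩
  choose t ht using h1
  exact ⟨t, (ht i).1 rfl, fun j => (ht j).2⟩

omit [N.Normal] [Finite G] in
theorem orb_iff (σ : G →* Equiv.Perm (Fin m)) {P : Subgroup G} {u : G} (hu : u ∈ P) (i k : Fin m) :
    (∃ v ∈ P, σ v i = σ u k) ↔ ∃ v ∈ P, σ v i = k := by
  constructor
  · rintro ⟨v, hv, h⟩
    refine ⟨u⁻¹ * v, mul_mem (inv_mem hu) hv, ?_⟩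
    rw [map_mul, Equiv.Perm.mul_apply, h, map_inv, Equiv.Perm.coe_inv, Equiv.symm_apply_apply]
  · rintro ⟨v, hv, h⟩
    exact ⟨u * v, mul_mem hu hv, by rw [map_mul, Equiv.Perm.mul_apply, h]⟩

omit [N.Normal] [Finite G] in
theorem stab_of_reps (σ : G →* Equiv.Perm (Fin m)) {u a b : G} {i k : Fin m} (ha : σ a i = σ u k) (hb : σ b i = k) :
    σ (a⁻¹ * u * b) i = i := by
  rw [map_mul, map_mul, Equiv.Perm.mul_apply, Equiv.Perm.mul_apply, hb, ← ha, map_inv, Equiv.Perm.coe_inv,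
    Equiv.symm_apply_apply]

/-- **`D(G)` implies `D(X)` for the factors** -/
theorem dd_of_dg (h : Sys N T e) (P : Sylow 2 G) (hD : DG P) (i : Fin m) {Q : Sylow 2 (T i)}
    (hQ : (Q : Subgroup (T i)) = (P : Subgroup G).subgroupOf (T i)) : DD Q (RR (P : Subgroup G) (T i)) := by
  classical
  intro y ho hy
  obtain ⟨σ, hσ⟩ := h.exists_sigma
  obtain ⟨t, hti, ht⟩ := exists_reps σ (P : Subgroup G) i
  have hmem : ∀ j, (∃ u ∈ (P : Subgroup G), σ u i = j) → t j * y * (t j)⁻¹ ∈ T j := by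
    intro j hj
    have h1 := Sys.mem_sigma hσ (g := t j) y.2
    rwa [(ht j hj).2] at h1
  let w : ∀ j, T j := fun j => if hj : ∃ u ∈ (P : Subgroup G), σ u i = j then ⟨_, hmem j hj⟩ else 1
  have hw1 : ∀ j, (∃ u ∈ (P : Subgroup G), σ u i = j) → ((w j : T j) : G) = t j * y * (t j)⁻¹ := by
    intro j hj
    simp only [w, dif_pos hj]
  have hw2 : ∀ j, ¬ (∃ u ∈ (P : Subgroup G), σ u i = j) → w j = 1 := by
    intro j hj
    simp only [w, dif_neg hj]
  let z : N := e.symm w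
  have hz : e z = w := e.apply_symm_apply w
  have h1 : ∀ u ∈ (P : Subgroup G), (z : G)⁻¹ * (u * z * u⁻¹) ∈ (P : Subgroup G) := by
    intro u hu
    refine (mem_iff_coord h P (z⁻¹ * MulAut.conjNormal u z)).2 fun j => ?_
    obtain ⟨k, rfl⟩ := (σ u).surjective j
    rw [map_mul, map_inv, Pi.mul_apply, Pi.inv_apply, coe_mul, coe_inv, coord_sig h hσ u rfl, hz]
    by_cases hk : ∃ v ∈ (P : Subgroup G), σ v i = k
    · have hj := (orb_iff σ hu i k).2 hk
      rw [hw1 _ hk, hw1 _ hj]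
      have hs : (t (σ u k))⁻¹ * u * t k ∈ (P : Subgroup G) := mul_mem (mul_mem (inv_mem (ht _ hj).1) hu) (ht _ hk).1
      have h2 := hσ ((t (σ u k))⁻¹ * u * t k) i
      rw [stab_of_reps σ (ht _ hj).2 (ht _ hk).2] at h2
      obtain ⟨r, hr, hr'⟩ := exists_RR hs h2
      have h3 := hy r hr
      rw [hQ, mem_subgroupOf, coe_mul, coe_inv, hr'] at h3
      have h4 := mul_mem (mul_mem (ht _ hj).1 h3) (inv_mem (ht _ hj).1)
      convert h4 using 1
      group
    · rw [hw2 _ hk, hw2 _ (fun hj => hk ((orb_iff σ hu i k).1 hj))]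
      simp
  have h2 : (z : G)⁻¹ ∈ normalizer ((P : Subgroup G) : Set G) := by
    refine mem_normalizer_fintype fun u hu => ?_
    have h3 := (P : Subgroup G).mul_mem (h1 u hu) hu
    rw [show (z : G)⁻¹ * (u * z * u⁻¹) * u = (z : G)⁻¹ * u * (z : G)⁻¹⁻¹ by group] at h3
    exact h3
  have h3 : Odd (orderOf (z : G)) := by
    refine ho.of_dvd_nat ?_
    rw [orderOf_coe, ← MulEquiv.orderOf_eq e, hz]
    apply orderOf_dvd_of_pow_eq_one
    funext j
    rw [Pi.pow_apply, Pi.one_apply]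
    by_cases hj : ∃ u ∈ (P : Subgroup G), σ u i = j
    · apply Subtype.ext
      rw [coe_pow, hw1 _ hj, conj_pow, ← coe_pow, pow_orderOf_eq_one]
      simp
    · rw [hw2 _ hj, one_pow]
  have h4 := hD z (by simpa using inv_mem h2) h3
  rintro r ⟨g, hg, hr⟩
  have h5 : σ g i = i := (h.sigma_eq_iff hσ).2 fun x hx => by
    rw [← hr ⟨x, hx⟩]
    exact (r ⟨x, hx⟩).2
  have h6 : MulAut.conjNormal g z = z := by
    apply Subtype.ext
    rw [MulAut.conjNormal_apply, mem_centralizer_iff.1 h4 g hg, mul_inv_cancel_right]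
  have h7 := coord_sig h hσ g h5 z
  rw [h6, hz, hw1 i ⟨1, one_mem _, by rw [map_one]; rfl⟩, hti] at h7
  apply Subtype.ext
  rw [hr]
  simpa using h7.symm

/-- **the conditions `D(X)` of the factors give `D(N P)`** -/
theorem cent_of_dd (h : Sys N T e) (P : Sylow 2 G) (Q : ∀ i, Sylow 2 (T i))
    (hQ : ∀ i, (Q i : Subgroup (T i)) = (P : Subgroup G).subgroupOf (T i))
    (hD : ∀ i, DD (Q i) (RR (P : Subgroup G) (T i))) {n : G} (hn : n ∈ N)
    (hnP : n ∈ normalizer ((P : Subgroup G) : Set G)) (ho : Odd (orderOf n)) :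
    n ∈ centralizer ((P : Subgroup G) : Set G) := by
  have := fact2
  obtain ⟨σ, hσ⟩ := h.exists_sigma
  have h1 : ∀ i, ∀ r ∈ RR (P : Subgroup G) (T i), r (e ⟨n, hn⟩ i) = e ⟨n, hn⟩ i := by
    intro i
    refine hD i _ ?_ ?_
    · refine ho.of_dvd_nat ?_
      rw [← orderOf_mk n hn]
      exact orderOf_map_dvd ((Pi.evalMonoidHom (fun j => T j) i).comp e.toMonoidHom) ⟨n, hn⟩
    · rintro r ⟨g, hg, hr⟩
      have h5 : σ g i = i := (h.sigma_eq_iff hσ).2 fun x hx => by
        rw [← hr ⟨x, hx⟩]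
        exact (r ⟨x, hx⟩).2
      have h2 : (((⟨n, hn⟩ : N)⁻¹ * MulAut.conjNormal g ⟨n, hn⟩ : N) : G) ∈ (P : Subgroup G) := by
        have h3 := (mem_normalizer_iff.1 (inv_mem hnP) g).1 hg
        have h4 := mul_mem h3 (inv_mem hg)
        convert h4 using 1
        simp [mul_assoc]
      have h3 := (mem_iff_coord h P _).1 h2 i
      rw [map_mul, map_inv, Pi.mul_apply, Pi.inv_apply, coe_mul, coe_inv, coord_sig h hσ g h5] at h3
      rw [hQ, mem_subgroupOf, coe_mul, coe_inv, hr]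
      exact h3
  have h2 : ∀ q ∈ (P : Subgroup G) ⊓ N, n * q = q * n := by
    rintro q ⟨hqP, hqN⟩
    have h3 : MulAut.conjNormal q (⟨n, hn⟩ : N) = ⟨n, hn⟩ := by
      apply e.injective
      funext i
      have h4 := h.sigma_of_mem hσ hqN i
      have h5 := hσ q i
      rw [h4] at h5
      obtain ⟨r, hr, hr'⟩ := exists_RR hqP h5
      apply Subtype.ext
      rw [coord_sig h hσ q h4, ← hr', h1 i r hr]
    have h4 : q * n * q⁻¹ = n := congrArg Subtype.val h3
    exact (mul_inv_eq_iff_eq_mul.1 h4).symm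
  have h3 := H627.BR.comm_of_cent (P := (P : Subgroup G)) (P.isPGroup'.to_inf_left (K := N)) h2 (fun x hx =>
    mem_inf.2 ⟨(P : Subgroup G).mul_mem ((mem_normalizer_iff.1 hnP x).1 hx) ((P : Subgroup G).inv_mem hx), by
      have h4 := N.mul_mem hn ((inferInstance : N.Normal).conj_mem _ (N.inv_mem hn) x)
      rwa [show n * (x * n⁻¹ * x⁻¹) = n * x * n⁻¹ * x⁻¹ by group] at h4⟩) (odd_iff'.1 ho)
  rw [mem_centralizer_iff]
  intro x hx
  exact (h3 x hx).symm

end coord

end Cfsg.Agent.GAL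
end

-- part: GAL/Red/Ext
section
prune_inst 0x4010000
set_option linter.all false
open scoped Cfsg.Agent.FastGrp

/-!
# The extension lemma (helper20, GAL)

`N` a perfect normal subgroup, `θ` an invariant irreducible character of `N` of odd degree which is fixed by `σ`:
then `θ` has an extension which is fixed by `σ`.
-/

set_option autoImplicit false

namespace Cfsg.Agent.GAL

open Cfsg Cfsg.Agent.H601.K4 Cfsg.Agent.TAB.Use Cfsg.Agent.ODD.Red Cfsg.Agent.Characters
open Cfsg.Agent.Characters.Core Cfsg.Agent.CharactersDeep Cfsg.Agent.CharactersDeep.ExtGroup Module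

universe u

section tw

variable (σ : ℂ ≃+* ℂ) {d : ℕ}

/-- the entrywise action of a field automorphism -/
noncomputable def tw0 : End ℂ (Fin d → ℂ) →* End ℂ (Fin d → ℂ) where
  toFun A := Matrix.toLin' ((LinearMap.toMatrix' A).map σ)
  map_one' := by
    rw [LinearMap.toMatrix'_one, Matrix.map_one σ (map_zero σ) (map_one σ), Matrix.toLin'_one]
    rfl
  map_mul' g h := by
    rw [LinearMap.toMatrix'_mul, Matrix.map_mul, Matrix.toLin'_mul]
    rfl

theorem tw0_apply (A : End ℂ (Fin d → ℂ)) : tw0 σ A = Matrix.toLin' ((LinearMap.toMatrix' A).map σ) := rfl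

theorem tw0_smul (c : ℂ) (A : End ℂ (Fin d → ℂ)) : tw0 σ (c • A) = σ c • tw0 σ A := by
  have h : (c • LinearMap.toMatrix' A).map σ = σ c • (LinearMap.toMatrix' A).map σ := by
    ext i j
    simp
  rw [tw0_apply, tw0_apply, map_smul, h, map_smul]

theorem tw0_det (A : End ℂ (Fin d → ℂ)) : LinearMap.det (tw0 σ A) = σ (LinearMap.det A) := by
  rw [tw0_apply, LinearMap.det_toLin', ← LinearMap.det_toMatrix' A]
  exact ((σ : ℂ →+* ℂ).map_det _).symm

theorem tw0_trace (A : End ℂ (Fin d → ℂ)) : LinearMap.trace ℂ _ (tw0 σ A) = σ (LinearMap.trace ℂ _ A) := by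
  rw [tw0_apply, Matrix.trace_toLin'_eq]
  conv_rhs => rw [← Matrix.toLin'_toMatrix' A, Matrix.trace_toLin'_eq]
  rw [Matrix.trace, Matrix.trace, map_sum]
  rfl

end tw

variable {G : Type u} [Group G] [Finite G]

/-- **the extension lemma** -/
theorem exists_fixed_ext (N : Subgroup G) [hN : N.Normal] (hperf : commutator N = ⊤) {θ : N → ℂ} (hθ : OddIrr θ)
    (hinv : ∀ (g : G) (n : N), θ (MulAut.conjNormal g n) = θ n) {σ : ℂ ≃+* ℂ} (hσ : Sig σ) (hfix : Fix σ θ) :
    ∃ χ : G → ℂ, IsIrrCharacter G χ ∧ (∀ n : N, χ n = θ n) ∧ Fix σ χ := by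
  obtain ⟨⟨d, ρ, hρ, rfl⟩, hodd⟩ := hθ
  have hd : Odd d := by
    rw [odd_iff']
    have h1 : charDegree ρ.character = d := by
      apply Cfsg.Agent.Blocks.Basic.charDegree_of_eq
      rw [Representation.char_one]
      simp
    rwa [h1] at hodd
  have hnt : Nontrivial (Fin d → ℂ) := nontrivial_of_isIrreducible ρ hρ
  -- the determinant is trivial
  have hdet : ∀ n, LinearMap.det (ρ n) = 1 := by
    intro n
    let δ : N →* ℂ := (LinearMap.det : End ℂ (Fin d → ℂ) →* ℂ).comp ρ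
    have h1 : commutator N ≤ δ.toHomUnits.ker := Abelianization.commutator_subset_ker _
    rw [hperf] at h1
    have h2 : δ.toHomUnits n = 1 := h1 (Subgroup.mem_top n)
    exact congrArg Units.val h2
  -- the equivalence with the twisted representation
  obtain ⟨e⟩ := IrrEquiv.exists_equiv_of_character_eq ρ (GaloisBasic.twist σ ρ) hρ (by
    funext n
    rw [GaloisBasic.twist_character, hfix n])
  let B : (End ℂ (Fin d → ℂ))ˣ := ⟨e.toLinearEquiv.toLinearMap, e.toLinearEquiv.symm.toLinearMap, by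
    refine LinearMap.ext fun v => ?_
    exact e.toLinearEquiv.apply_symm_apply v, by
    refine LinearMap.ext fun v => ?_
    exact e.toLinearEquiv.symm_apply_apply v⟩
  have hB : ∀ n, (B : End ℂ (Fin d → ℂ)) * ρ n = tw0 σ (ρ n) * B := by
    intro n
    refine LinearMap.ext fun v => ?_
    exact Representation.IntertwiningMap.isIntertwining _ _ e.toIntertwiningMap n v
  let Φ : (End ℂ (Fin d → ℂ))ˣ →* (End ℂ (Fin d → ℂ))ˣ := (MulAut.conj B⁻¹).toMonoidHom.comp (Units.map (tw0 σ))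
  have hΦ : ∀ A : (End ℂ (Fin d → ℂ))ˣ, ((Φ A : (End ℂ (Fin d → ℂ))ˣ) : End ℂ (Fin d → ℂ)) =
      ((B⁻¹ : (End ℂ (Fin d → ℂ))ˣ) : End ℂ (Fin d → ℂ)) * tw0 σ (A : End ℂ (Fin d → ℂ)) * B := by
    intro A
    simp [Φ]
  have hΦρ : ∀ n, ((B⁻¹ : (End ℂ (Fin d → ℂ))ˣ) : End ℂ (Fin d → ℂ)) * tw0 σ (ρ n) * B = ρ n := by
    intro n
    rw [mul_assoc, ← hB, ← mul_assoc, Units.inv_mul, one_mul]
  have hΦmem : ∀ g A, (g, A) ∈ extGroup N ρ → (g, Φ A) ∈ extGroup N ρ := by
    intro g A h x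
    have h1 := congrArg (tw0 σ) (h x)
    rw [map_mul, map_mul] at h1
    show ((Φ A : (End ℂ (Fin d → ℂ))ˣ) : End ℂ (Fin d → ℂ)) * ρ x =
      ρ (MulAut.conjNormal g x) * ((Φ A : (End ℂ (Fin d → ℂ))ˣ) : End ℂ (Fin d → ℂ))
    rw [hΦ, ← hΦρ x, ← hΦρ (MulAut.conjNormal g x)]
    simp only [mul_assoc, Units.mul_inv_cancel_left]
    rw [← mul_assoc (tw0 σ (A : End ℂ (Fin d → ℂ))), ← mul_assoc (tw0 σ (ρ _))]
    exact congrArg (fun X => ((B⁻¹ : (End ℂ (Fin d → ℂ))ˣ) : End ℂ (Fin d → ℂ)) * (X * B)) h1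
  have hΦdet : ∀ A : (End ℂ (Fin d → ℂ))ˣ, LinearMap.det ((Φ A : (End ℂ (Fin d → ℂ))ˣ) : End ℂ (Fin d → ℂ)) =
      σ (LinearMap.det (A : End ℂ (Fin d → ℂ))) := by
    intro A
    rw [hΦ, map_mul, map_mul, mul_right_comm, ← map_mul, Units.inv_mul, map_one, one_mul, tw0_det]
  -- scalars
  let sc : ℂˣ →* (End ℂ (Fin d → ℂ))ˣ := Units.map (algebraMap ℂ (End ℂ (Fin d → ℂ))).toMonoidHom
  have hsc : ∀ (c : ℂˣ) (A : End ℂ (Fin d → ℂ)), ((sc c : (End ℂ (Fin d → ℂ))ˣ) : End ℂ (Fin d → ℂ)) * A =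
      (c : ℂ) • A := by
    intro c A
    show algebraMap ℂ (End ℂ (Fin d → ℂ)) (c : ℂ) * A = _
    rw [Algebra.algebraMap_eq_smul_one, smul_mul_assoc, one_mul]
  have hscmem : ∀ (c : ℂˣ) g A, (g, A) ∈ extGroup N ρ → (g, sc c * A) ∈ extGroup N ρ := by
    intro c g A h x
    show ((sc c * A : (End ℂ (Fin d → ℂ))ˣ) : End ℂ (Fin d → ℂ)) * ρ x =
      ρ (MulAut.conjNormal g x) * ((sc c * A : (End ℂ (Fin d → ℂ))ˣ) : End ℂ (Fin d → ℂ))
    rw [Units.val_mul, hsc, smul_mul_assoc, mul_smul_comm]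
    exact congrArg (fun X => (c : ℂ) • X) (h x)
  have hscdet : ∀ (c : ℂˣ) (A : (End ℂ (Fin d → ℂ))ˣ),
      LinearMap.det ((sc c * A : (End ℂ (Fin d → ℂ))ˣ) : End ℂ (Fin d → ℂ)) =
        (c : ℂ) ^ d * LinearMap.det (A : End ℂ (Fin d → ℂ)) := by
    intro c A
    rw [Units.val_mul, hsc, LinearMap.det_smul]
    simp
  have hscΦ : ∀ (c : ℂˣ) (A : (End ℂ (Fin d → ℂ))ˣ),
      ((Φ (sc c * A) : (End ℂ (Fin d → ℂ))ˣ) : End ℂ (Fin d → ℂ)) =
        σ c • ((Φ A : (End ℂ (Fin d → ℂ))ˣ) : End ℂ (Fin d → ℂ)) := by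
    intro c A
    rw [hΦ, hΦ, Units.val_mul, hsc, tw0_smul, mul_smul_comm, smul_mul_assoc]
  have huniq : ∀ g A A', (g, A) ∈ extGroup N ρ → (g, A') ∈ extGroup N ρ → ∃ c : ℂˣ, A' = sc c * A := by
    intro g A A' h h'
    have h1 := (extGroup N ρ).mul_mem h' ((extGroup N ρ).inv_mem h)
    have h2 : ((g, A') * (g, A)⁻¹ : G × (End ℂ (Fin d → ℂ))ˣ) = (((1 : N) : G), A' * A⁻¹) := by
      ext <;> simp
    rw [h2] at h1
    obtain ⟨c, hc⟩ := eq_scal N ρ hρ 1 _ h1
    refine ⟨c, ?_⟩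
    rw [← mul_inv_eq_iff_eq_mul, hc]
    unfold scal
    rw [map_one, mul_one]
  -- the good pairs
  let Gd : G → (End ℂ (Fin d → ℂ))ˣ → Prop := fun g A =>
    (g, A) ∈ extGroup N ρ ∧ LinearMap.det (A : End ℂ (Fin d → ℂ)) = 1 ∧ Φ A = A
  have hex : ∀ g, ∃ A, Gd g A := by
    intro g
    obtain ⟨A, hA⟩ := exists_mem N ρ hρ hinv g
    have hA0 : LinearMap.det (A : End ℂ (Fin d → ℂ)) ≠ 0 :=
      ((Units.map (LinearMap.det : End ℂ (Fin d → ℂ) →* ℂ)) A).ne_zero
    obtain ⟨r, hr⟩ := IsAlgClosed.exists_pow_nat_eq (LinearMap.det (A : End ℂ (Fin d → ℂ)))⁻¹ hd.pos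
    have hr0 : r ≠ 0 := by
      rintro rfl
      rw [zero_pow hd.pos.ne'] at hr
      exact inv_ne_zero hA0 hr.symm
    let A₁ := sc (Units.mk0 r hr0) * A
    have h1 : (g, A₁) ∈ extGroup N ρ := hscmem _ g A hA
    have h2 : LinearMap.det (A₁ : End ℂ (Fin d → ℂ)) = 1 := by
      rw [hscdet, Units.val_mk0, hr, inv_mul_cancel₀ hA0]
    obtain ⟨z, hz⟩ := huniq g A₁ (Φ A₁) h1 (hΦmem g A₁ h1)
    have h3 : (z : ℂ) ^ d = 1 := by
      have h4 := hΦdet A₁
      rwa [hz, hscdet, h2, mul_one, map_one] at h4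
    have h4 : ((z⁻¹ : ℂˣ) : ℂ) ^ d = 1 := by rw [Units.val_inv_eq_inv_val, inv_pow, h3, inv_one]
    refine ⟨sc z⁻¹ * A₁, hscmem _ g A₁ h1, by rw [hscdet, h2, h4, mul_one], Units.ext ?_⟩
    rw [hscΦ, hz, Units.val_mul (sc z), Units.val_mul (sc z⁻¹), hsc z, hsc z⁻¹, hσ.2 d _ hd h4, smul_smul]
    congr 1
    rw [Units.val_inv_eq_inv_val]
    field_simp
  have hun : ∀ g A A', Gd g A → Gd g A' → A = A' := by
    intro g A A' h h'
    obtain ⟨c, hc⟩ := huniq g A A' h.1 h'.1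
    have h1 : (c : ℂ) ^ d = 1 := by
      have h2 := h'.2.1
      rwa [hc, hscdet, h.2.1, mul_one] at h2
    have h2 := congrArg Units.val h'.2.2
    rw [hc, hscΦ, h.2.2, Units.val_mul, hsc, hσ.2 d _ hd h1] at h2
    have h3 : (c : ℂ) ^ 2 = c := smul_left_injective ℂ A.ne_zero h2
    have h4 : c = 1 := by
      apply Units.ext
      rw [pow_two] at h3
      exact mul_left_cancel₀ c.ne_zero (h3.trans (mul_one _).symm)
    rw [hc, h4, map_one, one_mul]
  choose A hA using hex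
  have hmul : ∀ g h, A (g * h) = A g * A h := by
    intro g h
    refine hun (g * h) _ _ (hA _) ⟨(extGroup N ρ).mul_mem (hA g).1 (hA h).1, ?_, ?_⟩
    · rw [Units.val_mul, map_mul, (hA g).2.1, (hA h).2.1, mul_one]
    · rw [map_mul, (hA g).2.2, (hA h).2.2]
  let A' : G →* (End ℂ (Fin d → ℂ))ˣ := MonoidHom.mk' A hmul
  let τ : Representation ℂ G (Fin d → ℂ) := (Units.coeHom _).comp A'
  have hτ : ∀ g, τ g = A g := fun _ => rfl
  have hτρ : ∀ n : N, τ n = ρ n := by
    intro n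
    have h1 : ((scal N ρ n 1 : (End ℂ (Fin d → ℂ))ˣ) : End ℂ (Fin d → ℂ)) = ρ n := by
      rw [scal_val, Units.val_one, one_smul]
    rw [hτ, hun n _ _ (hA n) ⟨scal_mem N ρ n 1, by rw [h1, hdet], Units.ext (by rw [hΦ, h1, hΦρ])⟩, h1]
  have hcomp : (MonoidHom.comp τ N.subtype : Representation ℂ N (Fin d → ℂ)) = ρ := by
    ext n : 1
    exact hτρ n
  refine ⟨τ.character, ⟨d, τ, ?_, rfl⟩, fun n => ?_, fun g => ?_⟩
  · apply IrrEquiv.isIrreducible_of_comp τ N.subtype
    rw [hcomp]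
    exact hρ
  · change LinearMap.trace ℂ _ (τ n) = LinearMap.trace ℂ _ (ρ n)
    rw [hτρ]
  · change σ (LinearMap.trace ℂ _ (τ g)) = LinearMap.trace ℂ _ (τ g)
    rw [hτ, ← tw0_trace]
    conv_rhs => rw [← (hA g).2.2, hΦ, LinearMap.trace_mul_comm, ← mul_assoc, Units.mul_inv, one_mul]

end Cfsg.Agent.GAL
end

-- part: ODD/Alt/Diag
section
set_option linter.all false
open scoped Cfsg.Agent.FastGrp

-- part: ODD/Alt/Sgn
section
/-!
# The sign of a permutation conjugating `g` to `g ^ 2` (helper30)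
-/

set_option autoImplicit false
set_option maxHeartbeats 200000

namespace Cfsg.Agent.ODD.Alt

open Equiv Finset

/-- doubling -/
noncomputable def dbl (h : ℕ) : Perm (Fin (2 * h + 1)) :=
  Equiv.ofBijective (fun x => x + x) (Finite.injective_iff_bijective.1 fun x y hxy => by
    have h1 := congrArg Fin.val hxy
    have := x.2
    have := y.2
    simp only [Fin.val_add_eq_ite] at h1
    apply Fin.ext
    split_ifs at h1 <;> omega)

theorem dbl_apply (h : ℕ) (x : Fin (2 * h + 1)) : dbl h x = x + x := rfl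

theorem dbl_val (h : ℕ) (x : Fin (2 * h + 1)) :
    (dbl h x : ℕ) = if (x : ℕ) ≤ h then 2 * (x : ℕ) else 2 * x - (2 * h + 1) := by
  rw [dbl_apply, Fin.val_add_eq_ite]
  split_ifs <;> omega

/-- the Jacobi symbol `(2 / d)` -/
def eps (d : ℕ) : ℤˣ := if d % 8 = 1 ∨ d % 8 = 7 then 1 else -1

theorem neg_one_pow_tri (h : ℕ) : (-1 : ℤˣ) ^ (∑ t ∈ range (h + 1), t) = eps (2 * h + 1) := by
  induction h with
  | zero => simp [eps]
  | succ h ih =>
    rw [sum_range_succ, pow_add, ih, eps, eps]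
    rcases Nat.even_or_odd (h + 1) with h1 | h1
    · rw [h1.neg_one_pow, mul_one]
      obtain ⟨k, hk⟩ := h1
      exact if_congr (by omega) rfl rfl
    · rw [h1.neg_one_pow]
      obtain ⟨k, hk⟩ := h1
      split_ifs with h2 h3 h3
      · omega
      · simp
      · simp
      · omega

theorem sign_dbl (h : ℕ) : Perm.sign (dbl h) = eps (2 * h + 1) := by
  rw [Perm.sign_eq_prod_prod_Iio, ← neg_one_pow_tri]
  have h1 : ∀ j : Fin (2 * h + 1), ∏ i ∈ Iio j, (if dbl h i < dbl h j then (1 : ℤˣ) else -1) =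
      (-1) ^ (if (j : ℕ) ≤ h then 0 else 2 * h + 1 - j) := by
    intro j
    rw [prod_ite, prod_const_one, one_mul, prod_const]
    congr 1
    have hj := j.2
    have h2 : (filter (fun i => ¬ dbl h i < dbl h j) (Iio j)).map Fin.valEmbedding =
        if (j : ℕ) ≤ h then ∅ else Icc (j - h) h := by
      ext a
      simp only [mem_map, mem_filter, mem_Iio, Fin.lt_def, dbl_val, Fin.valEmbedding_apply]
      constructor
      · rintro ⟨i, ⟨h3, h4⟩, rfl⟩
        split_ifs at h4 ⊢ <;> simp only [mem_Icc, notMem_empty] <;> omega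
      · intro h3
        split_ifs at h3 with h4
        · exact absurd h3 (notMem_empty a)
        · rw [mem_Icc] at h3
          refine ⟨⟨a, by omega⟩, ⟨by simp only; omega, ?_⟩, rfl⟩
          simp only
          split_ifs <;> omega
    rw [← card_map Fin.valEmbedding, h2]
    split_ifs
    · rfl
    · rw [Nat.card_Icc]
      omega
  rw [prod_congr rfl fun j _ => h1 j, prod_pow_eq_pow_sum,
    Fin.sum_univ_eq_sum_range (fun j => if j ≤ h then 0 else 2 * h + 1 - j)]
  congr 1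
  rw [show 2 * h + 1 = h + 1 + h by ring, sum_range_add, sum_eq_zero fun x hx => if_pos (by
    rw [mem_range] at hx; omega), zero_add, sum_range_succ', add_zero, ← sum_range_reflect]
  refine sum_congr rfl fun x hx => ?_
  rw [mem_range] at hx
  rw [if_neg (by omega)]
  omega

theorem dbl_rot (h : ℕ) : dbl h * finRotate (2 * h + 1) * (dbl h)⁻¹ = finRotate (2 * h + 1) ^ 2 := by
  rw [mul_inv_eq_iff_eq_mul]
  ext x
  rw [pow_two, Perm.mul_apply, Perm.mul_apply, Perm.mul_apply, finRotate_apply, finRotate_apply,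
    finRotate_apply, dbl_apply, dbl_apply]
  congr 1
  abel

variable {α : Type*} [Fintype α] [DecidableEq α]

theorem exists_sq_cycle {c : Perm α} (hc : c.IsCycle) (ho : Odd #c.support) :
    ∃ s : Perm α, s * c * s⁻¹ = c ^ 2 ∧ (∀ x, c x = x → s x = x) ∧ Perm.sign s = eps #c.support := by
  obtain ⟨h, hh⟩ := ho
  have h2 := hc.two_le_card_support
  obtain ⟨h, rfl⟩ : ∃ k, h = k + 1 := ⟨h - 1, by omega⟩
  obtain ⟨S, hS'⟩ : ∃ S, S = c.support := ⟨_, rfl⟩
  let f : Fin (2 * (h + 1) + 1) ≃ {x // x ∈ S} := (Fintype.equivFinOfCardEq (by rw [Fintype.card_coe, hS', hh])).symm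
  have hR : (finRotate (2 * (h + 1) + 1)).IsCycle := isCycle_finRotate (n := 2 * h + 1)
  have hS : (finRotate (2 * (h + 1) + 1)).support = univ := support_finRotate (n := 2 * h + 1)
  obtain ⟨t, ht⟩ := isConj_iff.1 ((hR.extendDomain f).isConj hc (by
    rw [Perm.card_support_extend_domain, hS, hh]; simp))
  refine ⟨t * (dbl (h + 1)).extendDomain f * t⁻¹, ?_, fun x hx => ?_, ?_⟩
  · have h3 := congrArg (Perm.extendDomainHom f) (dbl_rot (h + 1))
    rw [map_mul, map_mul, map_inv, map_pow] at h3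
    simp only [Perm.extendDomainHom_apply] at h3
    rw [← ht, conj_pow, ← h3]
    group
  · rw [← ht, Perm.mul_apply, Perm.mul_apply, ← Perm.eq_inv_iff_eq] at hx
    rw [Perm.mul_apply, Perm.mul_apply, ← Perm.eq_inv_iff_eq]
    refine Perm.extendDomain_apply_not_subtype _ f fun hp => ?_
    have h3 : t⁻¹ x ∈ ((finRotate (2 * (h + 1) + 1)).extendDomain f).support := by
      rw [Perm.support_extend_domain, hS]
      exact mem_map.2 ⟨f.symm ⟨_, hp⟩, mem_univ _, by simp⟩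
    exact Perm.mem_support.1 h3 hx
  · rw [Perm.sign_mul, Perm.sign_mul, Perm.sign_inv, Perm.sign_extendDomain, sign_dbl, hh, mul_right_comm,
      Int.units_mul_self, one_mul]

theorem exists_sq_conj (g : Perm α) (hg : ∀ d ∈ g.cycleType, Odd d) :
    ∃ s : Perm α, s * g * s⁻¹ = g ^ 2 ∧ (∀ x, g x = x → s x = x) ∧ Perm.sign s = (g.cycleType.map eps).prod := by
  induction g using Perm.cycle_induction_on with
  | base_one => exact ⟨1, by simp, fun _ _ => rfl, by simp⟩
  | base_cycles c hc =>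
    rw [hc.cycleType] at hg ⊢
    simpa using exists_sq_cycle hc (hg _ (by simp))
  | induction_disjoint a b hd _ ih1 ih2 =>
    rw [hd.cycleType_mul] at hg ⊢
    obtain ⟨s, h1, h2, h3⟩ := ih1 fun d h => hg d (Multiset.mem_add.2 (Or.inl h))
    obtain ⟨t, k1, k2, k3⟩ := ih2 fun d h => hg d (Multiset.mem_add.2 (Or.inr h))
    have e1 : Commute s (b ^ 2) := (Perm.Disjoint.commute fun x => (hd x).imp_left (h2 x)).pow_right 2
    have e2 : Commute a t := Perm.Disjoint.commute fun x => (hd x).imp_right (k2 x)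
    refine ⟨s * t, ?_, fun x hx => ?_, by rw [Perm.sign_mul, h3, k3, Multiset.map_add, Multiset.prod_add]⟩
    · calc s * t * (a * b) * (s * t)⁻¹ = s * (t * a) * (b * t⁻¹ * s⁻¹) := by group
        _ = s * a * (t * b * t⁻¹) * s⁻¹ := by rw [← e2.eq]; group
        _ = s * a * s⁻¹ * (s * b ^ 2 * s⁻¹) := by rw [k1]; group
        _ = _ := by rw [h1, e1.eq, mul_inv_cancel_right, hd.commute.mul_pow]
    · obtain ⟨e3, e4⟩ := hd.mul_apply_eq_iff.1 hx
      rw [Perm.mul_apply, k2 x e4, h2 x e3]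

theorem odd_orderOf {g : Perm α} (hg : ∀ d ∈ g.cycleType, Odd d) : Odd (orderOf g) := by
  rw [← Perm.lcm_cycleType]
  exact (Multiset.prod_induction Odd _ (fun _ _ => Odd.mul) odd_one hg).of_dvd_nat
    (Multiset.lcm_dvd.2 fun _ => Multiset.dvd_prod)

theorem mem_alt_of_odd {g : Perm α} (hg : Odd (orderOf g)) : g ∈ alternatingGroup α := by
  have h1 := congrArg Perm.sign (pow_orderOf_eq_one g)
  rw [map_pow, map_one] at h1
  rcases Int.units_eq_one_or (Perm.sign g) with h | h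
  · exact h
  · rw [h, hg.neg_one_pow] at h1
    exact absurd h1 (by decide)

end Cfsg.Agent.ODD.Alt
end

-- part: ODD/Alt/Diag
section
/-!
# Self-conjugate partitions whose character does not vanish at the even `2`-elements (helper30)

* `FM_diag` : the value at the class of the diagonal hook lengths is `±1`;
* `core` : for `n ≥ 6` an element `g` of that class is conjugate to `g ^ 2` in the alternating group.
-/

set_option autoImplicit false
set_option maxHeartbeats 200000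

namespace Cfsg.Agent.ODD.Alt

open Finset Cfsg Cfsg.Agent.H614 Cfsg.Agent.H615.AltRefl Cfsg.Agent.H29.AltSelf

variable {m : ℕ}

theorem mem_diag {β : Fin m → ℕ} {r : ℕ} : r ∈ diag β ↔ ∃ i, m ≤ β i ∧ r = 2 * (β i - m) + 1 := by
  simp only [H29.AltSelf.diag, mem_image, mem_filter, mem_univ, true_and]
  exact ⟨fun ⟨_, ⟨⟨i, hi⟩, h⟩, e⟩ => ⟨i, hi ▸ h, hi ▸ e.symm⟩, fun ⟨i, h, e⟩ => ⟨_, ⟨⟨i, rfl⟩, h⟩, e.symm⟩⟩

theorem FM_diag (N : ℕ) : ∀ {β : Fin m → ℕ}, ∑ i, β i = N → IsRefl β β →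
    FM (diag β).val β = 1 ∨ FM (diag β).val β = -1 := by
  induction N using Nat.strong_induction_on with
  | _ N ih =>
  intro β hN h
  by_cases h0 : ∀ i, β i < m
  · have h1 : diag β = ∅ := eq_empty_of_forall_notMem fun r hr => by
      obtain ⟨i, hi, -⟩ := mem_diag.1 hr
      exact absurd (h0 i) (by omega)
    obtain ⟨σ, hσ⟩ := exists_perm_of_lt h.inj h0
    have h2 := vac_alt σ (fun i : Fin m => (i : ℕ))
    rw [vac_eq_pair (fun i : Fin m => (i : ℕ)), pair_self_of_injective Fin.val_injective, smul_eq_mul, mul_one] at h2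
    rw [h1, empty_val, FM_zero, hσ]
    exact Int.eq_one_or_neg_one_of_mul_eq_one ((congrArg₂ (· * ·) h2 h2).trans (sg_mul_self σ))
  push Not at h0
  obtain ⟨i₀, hi₀⟩ := h0
  obtain ⟨j, -, hj⟩ := exists_max_image univ β ⟨i₀, mem_univ _⟩
  have hj' : ∀ i, β i ≤ β j := fun i => hj i (mem_univ _)
  have h1 := h.lt j
  have h2 := hj' i₀
  obtain ⟨d, hd⟩ : ∃ d, d = 2 * (β j - m) + 1 := ⟨_, rfl⟩
  have hdj : d ≤ β j := by omega
  have h3 : m + m - 1 - β j ∉ Set.range β := (h.iff _ h1).1 ⟨j, rfl⟩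
  have hγj : dn β j d j = m + m - 1 - β j := by rw [dn_self]; omega
  have hr : ∀ c, c ∈ Set.range (dn β j d) ↔ (c ∈ Set.range β ∧ c ≠ β j) ∨ c = m + m - 1 - β j := fun c => by
    constructor
    · rintro ⟨k, rfl⟩
      by_cases hk : k = j
      · exact Or.inr (hk ▸ hγj)
      · rw [dn_ne β d hk]
        exact Or.inl ⟨⟨k, rfl⟩, fun e => hk (h.inj e)⟩
    · rintro (⟨⟨k, rfl⟩, hk⟩ | rfl)
      · exact ⟨k, dn_ne β d fun e => hk (congrArg β e)⟩
      · exact ⟨j, hγj⟩
  have hinj : Function.Injective (dn β j d) := fun a b hab => by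
    by_cases ha : a = j <;> by_cases hb : b = j
    · rw [ha, hb]
    · rw [ha, hγj, dn_ne β d hb] at hab
      exact absurd ⟨b, hab.symm⟩ h3
    · rw [hb, hγj, dn_ne β d ha] at hab
      exact absurd ⟨a, hab⟩ h3
    · rw [dn_ne β d ha, dn_ne β d hb] at hab
      exact h.inj hab
  have hγ : IsRefl (dn β j d) (dn β j d) := by
    refine ⟨hinj, hinj, dn_lt h.lt j d, dn_lt h.lt j d, fun c hc => ?_⟩
    rw [hr, hr, h.iff c hc]
    by_cases e1 : c = β j
    · subst e1
      simp only [ne_eq, not_true_eq_false, and_false, or_true, false_or, iff_false]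
      omega
    by_cases e2 : c = m + m - 1 - β j
    · have e3 : m + m - 1 - c = β j := by omega
      simp only [e3, ne_eq, not_true_eq_false, and_false, false_or, iff_true_intro e2, or_true, true_iff]
      omega
    · have e3 : m + m - 1 - c ≠ β j := by omega
      have e4 : m + m - 1 - c ≠ m + m - 1 - β j := by omega
      simp only [ne_eq, e1, e2, e3, e4, not_false_eq_true, and_true, or_false]
  have h4 : d ∉ diag (dn β j d) := fun e => by
    obtain ⟨k, k1, k2⟩ := mem_diag.1 e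
    rcases (hr _).1 ⟨k, rfl⟩ with k3 | k3 <;> omega
  have h5 : diag β = insert d (diag (dn β j d)) := by
    ext r
    rw [mem_insert, mem_diag, mem_diag]
    constructor
    · rintro ⟨k, k1, rfl⟩
      by_cases hk : k = j
      · exact Or.inl (hk ▸ hd.symm)
      · exact Or.inr ⟨k, by rwa [dn_ne β d hk], by rw [dn_ne β d hk]⟩
    · rintro (rfl | ⟨k, k1, rfl⟩)
      · exact ⟨j, by omega, hd⟩
      · have hk : k ≠ j := fun e => by rw [e, hγj] at k1; omega
        rw [dn_ne β d hk] at k1 ⊢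
        exact ⟨k, k1, rfl⟩
  rw [h5, insert_val_of_notMem h4, FM_cons, sum_eq_single j, if_pos hdj]
  · exact ih _ (by have := sum_dn β j hdj; omega) rfl hγ
  · intro k _ hk
    split_ifs with k1
    · have k2 : β k ≠ β j := fun e => hk (h.inj e)
      have k3 := hj' k
      obtain ⟨l, hl⟩ := (h.iff (β k - d) (by omega)).2 (by
        rintro ⟨l, hl⟩
        have := hj' l
        omega)
      have hlk : l ≠ k := fun e => by rw [e] at hl; omega
      exact (FM_alt _).eq_zero two_torsion_int hlk (by rw [dn_ne β d hlk, dn_self, hl])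
    · rfl
  · exact fun e => absurd (mem_univ j) e

/-- a hook of even length -/
theorem hook_cases {β : Fin m → ℕ} (h : IsRefl β β) {r : ℕ} (hr : 0 < r) (he : r % 2 = 0) {s : Multiset ℕ}
    (h0 : FM (r ::ₘ s) β ≠ 0) :
    (∃ d ∈ diag β, 2 * r + 1 ≤ d) ∨ ∃ d ∈ diag β, ∃ d' ∈ diag β, d ≠ d' ∧ d + d' = 2 * r := by
  rw [FM_cons] at h0
  obtain ⟨j, -, hj⟩ := exists_ne_zero_of_sum_ne_zero h0
  have h1 : r ≤ β j := by
    by_contra h1
    exact hj (if_neg h1)
  rw [if_pos h1] at hj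
  have h2 : β j - r ∉ Set.range β := by
    rintro ⟨l, hl⟩
    have hlj : l ≠ j := fun e => by rw [e] at hl; omega
    exact hj ((FM_alt _).eq_zero two_torsion_int hlj (by rw [dn_ne β r hlj, dn_self, hl]))
  have h3 := h.lt j
  obtain ⟨k, hk⟩ : m + m - 1 - (β j - r) ∈ Set.range β := by
    by_contra h4
    exact h2 ((h.iff _ (by omega)).2 h4)
  by_cases e1 : m ≤ β j - r
  · exact Or.inl ⟨_, mem_diag.2 ⟨j, by omega, rfl⟩, by omega⟩
  by_cases e2 : β j < m
  · exact Or.inl ⟨_, mem_diag.2 ⟨k, by omega, rfl⟩, by omega⟩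
  · exact Or.inr ⟨_, mem_diag.2 ⟨j, by omega, rfl⟩, _, mem_diag.2 ⟨k, by omega, rfl⟩, by omega, by omega⟩

theorem exists_two_elt {n a b : ℕ} (hn : 2 ^ (a + 1) + 2 ^ (b + 1) ≤ n) : ∃ x : Equiv.Perm (Fin n),
    x ∈ alternatingGroup (Fin n) ∧ (∃ j, orderOf x = 2 ^ j) ∧ ∃ s, ty x = 2 ^ (a + 1) ::ₘ s := by
  obtain ⟨x, hx⟩ := (Equiv.Perm.exists_with_cycleType_iff (Fin n) (m := {2 ^ (a + 1), 2 ^ (b + 1)})).2 ⟨by simpa using hn,
    fun c hc => by
      simp only [Multiset.insert_eq_cons, Multiset.mem_cons, Multiset.mem_singleton] at hc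
      rcases hc with rfl | rfl <;> exact Nat.le_self_pow (by omega) 2⟩
  refine ⟨x, ?_, ?_, _, by rw [ty_eq, hx, Multiset.insert_eq_cons, Multiset.cons_add]⟩
  · rw [Equiv.Perm.mem_alternatingGroup, Equiv.Perm.sign_of_cycleType, hx]
    refine Even.neg_one_pow ⟨2 ^ a + 2 ^ b + 1, ?_⟩
    simp
    ring
  · have h1 : orderOf x ∣ 2 ^ (a + 1 + (b + 1)) := by
      rw [← Equiv.Perm.lcm_cycleType, hx, Multiset.lcm_dvd]
      intro c hc
      simp only [Multiset.insert_eq_cons, Multiset.mem_cons, Multiset.mem_singleton] at hc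
      rcases hc with rfl | rfl <;> exact pow_dvd_pow 2 (by omega)
    obtain ⟨j, -, hj⟩ := (Nat.dvd_prime_pow Nat.prime_two).1 h1
    exact ⟨j, hj⟩

theorem prod_eps {D : Finset ℕ} (ho : ∀ d ∈ D, d % 2 = 1) {r : ℕ} (h4 : r % 4 = 0) (hs : ∑ d ∈ D, d ≤ 2 * r + 1)
    (h : (∃ d ∈ D, 2 * r + 1 ≤ d) ∨ ∃ d ∈ D, ∃ d' ∈ D, d ≠ d' ∧ d + d' = 2 * r) : ∏ d ∈ D, eps d = 1 := by
  have key : ∀ S ⊆ D, 2 * r ≤ ∑ d ∈ S, d → ∏ d ∈ D, eps d = ∏ d ∈ S, eps d := fun S hS h1 =>
    (prod_subset hS fun x hx hx' => by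
      have h2 : ∑ d ∈ insert x S, d ≤ ∑ d ∈ D, d := sum_le_sum_of_subset (insert_subset hx hS)
      rw [sum_insert hx'] at h2
      have h3 := ho x hx
      rw [show x = 1 by omega]
      rfl).symm
  rcases h with ⟨d, hd, h1⟩ | ⟨d, hd, d', hd', h1, h2⟩
  · have h2 : d ≤ ∑ d ∈ D, d := single_le_sum (f := fun d => d) (fun _ _ => Nat.zero_le _) hd
    rw [key {d} (singleton_subset_iff.2 hd) (by rw [sum_singleton]; omega), prod_singleton, eps, if_pos (by omega)]
  · rw [key {d, d'} (insert_subset hd (singleton_subset_iff.2 hd')) (by rw [sum_pair h1]; omega), prod_pair h1, eps, eps]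
    have h3 := ho d hd
    split_ifs <;> first | rfl | omega

theorem exists_elt {n : ℕ} {D : Finset ℕ} (ho : ∀ d ∈ D, d % 2 = 1) (hs : ∑ d ∈ D, d = n) :
    ∃ g : Equiv.Perm (Fin n), g.cycleType = (D.erase 1).val ∧ ty g = D.val := by
  have h1 : ∑ d ∈ D.erase 1, d ≤ n := hs ▸ sum_le_sum_of_subset (erase_subset _ _)
  have h2 : (D.erase 1).val.sum = ∑ d ∈ D.erase 1, d := by rw [sum_val]; rfl
  obtain ⟨g, hg⟩ := (Equiv.Perm.exists_with_cycleType_iff (Fin n) (m := (D.erase 1).val)).2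
    ⟨by rwa [h2, Fintype.card_fin], fun c hc => by
      have h3 := mem_erase.1 (show c ∈ D.erase 1 from hc)
      have := ho c h3.2
      omega⟩
  refine ⟨g, hg, ?_⟩
  rw [ty_eq, hg, h2, Fintype.card_fin]
  by_cases h : 1 ∈ D
  · have h3 := add_sum_erase D (fun d => d) h
    rw [show n - ∑ d ∈ D.erase 1, d = 1 by omega, Multiset.replicate_one, add_comm, Multiset.singleton_add, erase_val,
      Multiset.cons_erase (show 1 ∈ D.val from h)]
  · rw [erase_eq_of_notMem h, hs, Nat.sub_self, Multiset.replicate_zero, add_zero]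

theorem core {n : ℕ} (hn : 6 ≤ n) {β : Fin m → ℕ} (h : IsRefl β β) (hs : ∑ i, β i = n + ∑ i : Fin m, (i : ℕ))
    (h2 : ∀ x ∈ alternatingGroup (Fin n), (∃ j, orderOf x = 2 ^ j) → FM (ty x) β ≠ 0) :
    ∃ g ∈ alternatingGroup (Fin n), Odd (orderOf g) ∧ (∃ s ∈ alternatingGroup (Fin n), s * g * s⁻¹ = g ^ 2) ∧
      (FM (ty g) β = 1 ∨ FM (ty g) β = -1) := by
  have hD := diag_sum h hs
  have key : ∀ a b : ℕ, 2 ^ (a + 1) + 2 ^ (b + 1) ≤ n → (∃ d ∈ diag β, 2 * 2 ^ (a + 1) + 1 ≤ d) ∨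
      ∃ d ∈ diag β, ∃ d' ∈ diag β, d ≠ d' ∧ d + d' = 2 * 2 ^ (a + 1) := fun a b hab => by
    obtain ⟨x, h3, h4, s, h5⟩ := exists_two_elt hab
    exact hook_cases h (by positivity) (by omega) (h5 ▸ h2 x h3 h4)
  have k1 : 2 ^ Nat.log 2 n ≤ n := Nat.pow_log_le_self 2 (by omega)
  have k2 : n < 2 ^ (Nat.log 2 n + 1) := Nat.lt_pow_succ_log_self one_lt_two n
  obtain ⟨k, hk⟩ : ∃ k, Nat.log 2 n = k + 2 := ⟨Nat.log 2 n - 2, by
    have : 2 ≤ Nat.log 2 n := Nat.le_log_of_pow_le one_lt_two (by omega)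
    omega⟩
  rw [hk, show 2 ^ (k + 2) = 4 * 2 ^ k by ring] at k1
  rw [hk, show 2 ^ (k + 2 + 1) = 8 * 2 ^ k by ring] at k2
  have k3 : n ≤ 4 * 2 ^ k + 1 := by
    by_contra k3
    have k5 := key (k + 1) 0
    rw [show 2 ^ (k + 1 + 1) = 4 * 2 ^ k by ring] at k5
    generalize 2 ^ k = q at *
    rcases k5 (by omega) with ⟨d, hd, e⟩ | ⟨d, hd, d', hd', e1, e2⟩
    · have := single_le_sum (f := fun d => d) (fun _ _ => Nat.zero_le _) hd
      omega
    · have := sum_le_sum_of_subset (f := fun d => d) (insert_subset hd (singleton_subset_iff.2 hd'))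
      rw [sum_pair e1] at this
      omega
  obtain ⟨k, rfl⟩ : ∃ l, k = l + 1 := ⟨k - 1, by
    rcases k with _ | k
    · omega
    · rfl⟩
  have k5 := key (k + 1) (k + 1)
  rw [show 2 ^ (k + 1 + 1) = 4 * 2 ^ k by ring] at k5
  rw [show 2 ^ (k + 1) = 2 * 2 ^ k by ring] at k1 k3
  generalize 2 ^ k = q at k1 k3 k5
  have k4 := prod_eps (fun _ => odd_of_mem_diag) (r := 4 * q) (by omega) (by omega) (k5 (by omega))
  obtain ⟨g, hg, hg'⟩ := exists_elt (fun _ => odd_of_mem_diag) hD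
  have ho : ∀ d ∈ g.cycleType, Odd d := fun d hd => by
    rw [hg] at hd
    exact Nat.odd_iff.2 (odd_of_mem_diag (mem_erase.1 hd).2)
  obtain ⟨s, e1, -, e2⟩ := exists_sq_conj g ho
  refine ⟨g, mem_alt_of_odd (odd_orderOf ho), odd_orderOf ho, ⟨s, ?_, e1⟩, hg' ▸ FM_diag _ rfl h⟩
  rw [Equiv.Perm.mem_alternatingGroup, e2, hg, ← k4]
  exact prod_erase _ rfl

end Cfsg.Agent.ODD.Alt
end

private theorem dce_c48eee5ab847 : _root_.True := by
  try have : _root_.True := by simp only [_root_.Cfsg.Agent.ODD.Alt.eps.eq_1]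
  try have : _root_.True := by simp only [_root_.Equiv.Perm.extendDomainHom.congr_simp]
  exact _root_.True.intro
end

-- part: ODD/Alt/Gal
section
set_option linter.all false
open scoped Cfsg.Agent.FastGrp

/-!
# GAL: the box of the alternating groups (helper30)

* `oddSig_alt` : for `n ≥ 6` the irreducible characters of odd degree of `A_n` are fixed by `σ`;
* `box_five`, `boxAlt : IsAlternating S → GAL.Box S`.
-/

set_option autoImplicit false
set_option maxHeartbeats 200000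

namespace Cfsg.Agent.ODD.Alt

open Cfsg Cfsg.Agent.ODD.Red Cfsg.Agent.Characters Cfsg.Agent.TAB.Use Cfsg.Agent.GAL Cfsg.Agent.H614 Equiv

universe u

theorem oddSig_alt {n : ℕ} (hn : 6 ≤ n) : OddSig (alternatingGroup (Fin n)) := by
  classical
  intro θ hθ ho σ hσ
  have : Nontrivial (Fin n) := Fin.nontrivial_iff_two_le.2 (by omega)
  have hc := Core.isIrr_isCharacter hθ
  obtain ⟨⟨χ, hχ⟩, h1⟩ := Blocks.Over.exists_over (alternatingGroup (Fin n)) ⟨θ, hθ⟩
  obtain ⟨β, hβ, hs, rfl⟩ := irr_eq (m := n) (α := Fin n) (by rw [Fintype.card_fin]) hχ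
  rw [Fintype.card_fin] at hs
  have hr : ∀ g, σ (ch (Fin n) β g) = ch (Fin n) β g := fun g => by rw [ch_apply, map_intCast]
  rcases restrict_two _ alternatingGroup.index_eq_two hχ hθ h1 with h | ⟨-, h⟩
  · exact fun g => by rw [← h, hr]
  by_contra hne
  have h2 := GaloisIrr.classInner_map σ (χ := fun g : alternatingGroup (Fin n) => ch (Fin n) β g) hc
  simp only [hr] at h2
  have h3 := H615.AltClif.restrict_eq_add alternatingGroup.index_eq_two hχ h hθ (GaloisIrr.isIrr_map σ hθ)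
    (fun e => hne fun g => (congrFun e g).symm) h1 (by rw [h2]; exact (map_ne_zero σ).2 h1)
  have h4 : ∀ g : alternatingGroup (Fin n), (FM (ty (g : Perm (Fin n))) β : ℂ) = θ g + σ (θ g) := congrFun h3
  obtain ⟨k, hk₁, hk₂⟩ := exists_k (alternatingGroup (Fin n))
  obtain ⟨g, hg, h5, ⟨s, hs', h6⟩, h7⟩ := core hn (H29.AltSelf.isRefl_of_vanish hβ hs le_rfl h) hs fun x hx h5 h6 => by
    have h7 : ∃ j, orderOf (⟨x, hx⟩ : alternatingGroup (Fin n)) = 2 ^ j := by simpa using h5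
    have h8 := h4 ⟨x, hx⟩
    rw [map_eq_pow hσ hk₁ hk₂ hc, hk₁ _ h7, h6, Int.cast_zero, eq_comm, add_self_eq_zero] at h8
    exact odd_iff'.1 ho (S4558.result 2 θ hc _ h7 h8)
  have h8 := h4 ⟨g, hg⟩
  have h9 : (⟨g, hg⟩ : alternatingGroup (Fin n)) ^ 2 = ⟨s, hs'⟩ * ⟨g, hg⟩ * ⟨s, hs'⟩⁻¹ := Subtype.ext h6.symm
  rw [map_odd hσ hc (by simpa using h5), h9, Core.isIrr_isClassFunction hθ] at h8
  have h10 := even_of_integral (GaloisBasic.isIntegral_apply hc _) h8.symm
  rcases h7 with h7 | h7 <;> simp [h7] at h10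

theorem box_six {n : ℕ} (hn : 6 ≤ n) : Box (alternatingGroup (Fin n)) :=
  have := fact2
  box_of_self default (H799.SymSyl.normalizer_alt (by rwa [Fintype.card_fin]) _).le (oddSig_alt hn)

/-- the characters which are invariant under all automorphisms are rational -/
theorem fix_of_inv {α : Type u} [Fintype α] [DecidableEq α] {θ : alternatingGroup α → ℂ}
    (hθ : IsCharacter (alternatingGroup α) θ) (h : ∀ (a : MulAut (alternatingGroup α)) g, θ (a g) = θ g) (σ : ℂ ≃+* ℂ) :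
    Fix σ θ := by
  intro g
  obtain ⟨k, hk, h1⟩ := GaloisBasic.exists_coprime_pow (σ : ℂ →+* ℂ) (Nat.card_pos (α := alternatingGroup α)).ne'
  obtain ⟨s, hs⟩ := isConj_iff.1 (H970.K4.isConj_pow_coprime (g : Perm α) (k := k)
    (by rw [Subgroup.orderOf_coe]; exact hk.coprime_dvd_right (orderOf_dvd_natCard g)))
  rw [GaloisBasic.map_apply_card σ h1 hθ, ← h (MulAut.conjNormal s) g]
  congr 1
  exact Subtype.ext hs.symm

/-! ### `A₅` -/

/-- the group -/
abbrev A5 : Type := alternatingGroup (Fin 5)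

/-- an involution -/
def t5 : A5 := ⟨swap (0 : Fin 5) 1 * swap (2 : Fin 5) 3, Perm.mem_alternatingGroup.2 (by decide +kernel)⟩
/-- an element of order three -/
def c5 : A5 := ⟨swap (0 : Fin 5) 1 * swap (1 : Fin 5) 2, Perm.mem_alternatingGroup.2 (by decide +kernel)⟩
/-- an element of order five -/
def f5 : A5 := ⟨swap (0 : Fin 5) 1 * swap (1 : Fin 5) 2 * (swap (2 : Fin 5) 3 * swap (3 : Fin 5) 4), Perm.mem_alternatingGroup.2 (by decide +kernel)⟩

theorem card_A5 : Nat.card A5 = 60 := by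
  rw [Nat.card_eq_fintype_card]
  (set_option synthInstance.maxSize 9000 in open scoped Cfsg.Agent.Lib.FastPerm in decide +kernel)

/-- a Sylow `2`-subgroup -/
noncomputable def Q5 : Sylow 2 A5 :=
  have := fact2
  Sylow.ofCard (Subgroup.centralizer {t5}) (by
    have h1 : Nat.card (Subgroup.centralizer ({t5} : Set A5)) = Fintype.card {g : A5 // g * t5 = t5 * g} := by
      rw [← Nat.card_eq_fintype_card]
      exact Nat.card_congr (Equiv.subtypeEquivRight fun g => Subgroup.mem_centralizer_singleton_iff)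
    rw [h1, card_A5, show (60 : ℕ) = 2 ^ 2 * 15 from rfl, Nat.factorization_mul (by norm_num) (by norm_num),
      Nat.Prime.factorization_pow Nat.prime_two, Finsupp.add_apply, Finsupp.single_eq_same,
      Nat.factorization_eq_zero_of_not_dvd (show ¬ 2 ∣ 15 by norm_num)]
    decide +kernel)

theorem mem_Q5 {g : A5} : g ∈ (Q5 : Subgroup A5) ↔ g * t5 = t5 * g := Subgroup.mem_centralizer_singleton_iff

theorem not_dg5 : ¬ DG Q5 := fun h => by
  have h1 : ∀ g : A5, g * t5 = t5 * g → c5 * g * c5⁻¹ * t5 = t5 * (c5 * g * c5⁻¹) := by (set_option synthInstance.maxSize 9000 in open scoped Cfsg.Agent.Lib.FastPerm in decide +kernel)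
  have h2 : orderOf c5 = 3 := orderOf_eq_prime (by decide +kernel) (by decide +kernel)
  have h3 := h c5 (Subgroup.mem_normalizer_fintype fun g hg => mem_Q5.2 (h1 g (mem_Q5.1 hg))) (by rw [h2]; decide)
  exact absurd (Subgroup.mem_centralizer_iff.1 h3 t5 (mem_Q5.2 rfl)) (by decide +kernel)

theorem moved5 : OddMoved A5 := by
  have : Fact (Nat.Prime 5) := ⟨by norm_num⟩
  have h1 : ∀ g : A5, g * f5 * g⁻¹ ≠ f5 ^ 2 := by (set_option synthInstance.maxSize 9000 in open scoped Cfsg.Agent.Lib.FastPerm in decide +kernel)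
  have h2 : orderOf f5 = 5 := orderOf_eq_prime (by decide +kernel) (by decide +kernel)
  obtain ⟨χ, hχ, h3⟩ : ∃ χ : A5 → ℂ, IsIrrCharacter A5 χ ∧ χ f5 ≠ χ (f5 ^ 2) := by
    by_contra hc
    push Not at hc
    obtain ⟨g, hg⟩ := isConj_iff.1 (GaloisIrr.isConj_iff_forall_irr.2 hc)
    exact h1 g hg
  have h4 : ∀ σ, Sig σ → ¬ Fix σ χ := fun σ hσ h =>
    h3 ((h f5).symm.trans (map_odd hσ (Core.isIrr_isCharacter hχ) (by rw [h2]; decide)))
  obtain ⟨σ, hσ⟩ := exists_sig
  obtain ⟨d, -, hd⟩ := Core.isIrr_apply_one hχ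
  have h5 : χ 1 = 3 := H348.PPD.AltFive.degree_three (MulEquiv.refl _) (η := ⟨χ, hχ⟩)
    (η' := ⟨_, GaloisIrr.isIrr_map σ hχ⟩) (fun e => h4 σ hσ fun g => (congrFun (congrArg Subtype.val e) g).symm)
    (show χ 1 = σ (χ 1) by rw [hd, map_natCast])
  refine ⟨χ, hχ, ?_, h4⟩
  rw [H970.K4.charDegree_eq_of (n := 3) (by rw [h5]; rfl)]
  decide

theorem inner_iff {s : Perm (Fin 5)} : Inner (MulAut.conjNormal s : MulAut A5) ↔ s ∈ alternatingGroup (Fin 5) := by
  constructor
  · rintro ⟨t, ht⟩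
    rw [← MulAut.conjNormal_val] at ht
    rw [(S2119.result 5 (by norm_num) (by norm_num)).1 ht]
    exact t.2
  · exact fun h => ⟨⟨s, h⟩, MulAut.conjNormal_val (h := ⟨s, h⟩)⟩

theorem dd5 {Q : Sylow 2 A5} {R : Subgroup (MulAut A5)} (hR : Frame Q R) (h : ∃ r ∈ R, ¬ Inner r) : DD Q R := by
  have := fact2
  have hb := S2119.result 5 (by norm_num) (by norm_num)
  obtain ⟨r, hr, hr'⟩ := h
  obtain ⟨s, rfl⟩ := hb.2 r
  rw [inner_iff] at hr'
  let P : Subgroup (Perm (Fin 5)) := R.comap MulAut.conjNormal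
  have hQP : ∀ q ∈ (Q : Subgroup A5), (q : Perm (Fin 5)) ∈ P := fun q hq => by
    show MulAut.conjNormal (q : Perm (Fin 5)) ∈ R
    rw [MulAut.conjNormal_val]
    exact hR.inn q hq
  obtain ⟨T, hT⟩ := (hR.two.comap_of_injective MulAut.conjNormal hb.1).exists_le_sylow
  have h1 : (T : Subgroup (Perm (Fin 5))).subgroupOf (alternatingGroup (Fin 5)) = Q :=
    Q.is_maximal' T.isPGroup'.comap_subtype fun q hq => hT (hQP q hq)
  have h2 : ∀ x ∈ (T : Subgroup (Perm (Fin 5))), x ∈ alternatingGroup (Fin 5) → x ∈ P := fun x hx hx' =>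
    hQP ⟨x, hx'⟩ (h1 ▸ hx)
  have h3 : ∀ x ∈ (T : Subgroup (Perm (Fin 5))), x ∈ P := fun x hx => by
    by_cases hx' : x ∈ alternatingGroup (Fin 5)
    · exact h2 x hx hx'
    · exact (P.mul_mem_cancel_right hr).1 (h2 _ (mul_mem hx (hT hr))
        ((Subgroup.mul_mem_iff_of_index_two alternatingGroup.index_eq_two).2 (iff_of_false hx' hr')))
  intro y ho hy
  have h4 : (y : Perm (Fin 5))⁻¹ = 1 := by
    refine H799.SymSyl.perm_eq_one T (Subgroup.mem_normalizer_fintype fun x hx => ?_)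
      (by rwa [orderOf_inv, Subgroup.orderOf_coe])
    have h5 := mul_mem (hT (hQP _ (hy _ (h3 x hx)))) hx
    rw [Subgroup.coe_mul, MulAut.conjNormal_apply] at h5
    rw [inv_inv]
    rwa [mul_assoc, inv_mul_cancel_right, ← mul_assoc] at h5
  have h5 : y = 1 := Subtype.ext (inv_eq_one.1 h4)
  exact fun r _ => by rw [h5, map_one]

theorem box_five : Box A5 := by
  have hb := S2119.result 5 (by norm_num) (by norm_num)
  have h1 : ∀ y : A5, y * t5 = t5 * y → y ^ 2 = 1 := by (set_option synthInstance.maxSize 9000 in open scoped Cfsg.Agent.Lib.FastPerm in decide +kernel)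
  have h2 : ∀ y : A5, y * t5 = t5 * y → y * c5 = c5 * y → y = 1 := by (set_option synthInstance.maxSize 9000 in open scoped Cfsg.Agent.Lib.FastPerm in decide +kernel)
  refine box_of_cases (eq_bot_iff.2 fun y hy => h2 y (Subgroup.mem_center_iff.1 hy _).symm
    (Subgroup.mem_center_iff.1 hy _).symm) Q5 (iff_of_false not_dg5 (not_fg_of_moved Q5 (fun y hy ho => ?_) moved5))
    fun Q R hR h => iff_of_true (dd5 hR h) (ff_of_aut (fun r r' hr hr' => ?_)
      (fun θ hθ _ hi σ _ => fix_of_inv (Core.isIrr_isCharacter hθ) hi σ) h)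
  · have h3 := orderOf_dvd_of_pow_eq_one (h1 y (Subgroup.mem_centralizer_iff.1 hy t5 (mem_Q5.2 rfl)).symm)
    exact orderOf_eq_one_iff.1 (Nat.Coprime.eq_one_of_dvd (Nat.coprime_two_right.2 ho) h3)
  · obtain ⟨s, rfl⟩ := hb.2 r
    obtain ⟨s', rfl⟩ := hb.2 r'
    rw [inner_iff] at hr hr'
    rw [← map_inv, ← map_mul, inner_iff]
    exact (Subgroup.mul_mem_iff_of_index_two alternatingGroup.index_eq_two).2
      (iff_of_false hr' fun e => hr (inv_mem_iff.1 e))

/-- **the box of the alternating groups** -/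
theorem boxAlt {S : Type u} [Group S] [Finite S] (h : IsAlternating S) : Box S := by
  obtain ⟨n, hn, ⟨e⟩⟩ := h
  rcases hn.eq_or_lt with rfl | h6
  · exact Box.congr e box_five
  · exact Box.congr e (box_six h6)

end Cfsg.Agent.ODD.Alt
end
end
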